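/-
In a solvable group, a `p'`-subgroup normalized by a self-centralizing (among `p`-elements) abelian
`p`-subgroup lies in the `p'`-core (`p` odd).
-/
import Cfsg.Agent.OddChar.BaerFixed
import Cfsg.Agent.Core.ThompsonComplement
import Cfsg.Agent.Core.MinimalNormal
import Cfsg.Agent.PLocal.Constrained

set_option autoImplicit false
set_option linter.style.haveILetI false
set_option linter.unusedSectionVars false

namespace Cfsg.Agent.OddChar

open scoped commutatorElement

theorem invariant_le_pPrimeCore_of_constrained {H : Type*} [Group H] [Finite H] {p : ℕ}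
    [hp : Fact p.Prime] (hp2 : Odd p)
    (hcons : Subgroup.centralizer (pCore p (H ⧸ pPrimeCore p H) : Set (H ⧸ pPrimeCore p H)) ≤
      pCore p (H ⧸ pPrimeCore p H))
    {B K : Subgroup H} (hB : IsPGroup p B)
    (hBc : ∀ x ∈ Subgroup.centralizer (B : Set H), x ^ p = 1 → x ∈ B)
    (hK : (Nat.card K).Coprime p) (hBK : B ≤ Subgroup.normalizer (K : Set H)) :
    K ≤ pPrimeCore p H := by
  set O := pPrimeCore p H
  set π := QuotientGroup.mk' O
  set R := pCore p (H ⧸ O)
  have hker : π.ker = O := QuotientGroup.ker_mk' O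
  have hK' : (Nat.card (K.map π)).Coprime p := hK.coprime_dvd_left (Subgroup.card_map_dvd K π)
  have hnorm : ∀ S : Subgroup (H ⧸ O), S ≤ Subgroup.normalizer (R : Set (H ⧸ O)) := fun S =>
    le_top.trans_eq (Subgroup.normalizer_eq_top R).symm
  have hBK' : B.map π ≤ Subgroup.normalizer (K.map π : Set (H ⧸ O)) :=
    (Subgroup.map_mono hBK).trans (Subgroup.le_normalizer_map π)
  have hfix : ∀ r ∈ R, r ∈ Subgroup.centralizer (B.map π : Set (H ⧸ O)) → r ^ p = 1 →
      r ∈ Subgroup.centralizer (K.map π : Set (H ⧸ O)) := by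
    intro r hrR hrC hrp
    obtain ⟨g, rfl⟩ := QuotientGroup.mk'_surjective O r
    obtain ⟨k, hk, hkg⟩ := Core.ThompsonComplement.exists_mul_normalizes hB
      (Core.card_pPrimeCore_coprime p H) (g := g) (fun t ht => by
        have h1 := Subgroup.mem_centralizer_iff.mp hrC (π t) ⟨t, ht, rfl⟩
        have h2 : t⁻¹ * (g * t * g⁻¹) ∈ O := by
          rw [← hker, MonoidHom.mem_ker, map_mul, map_mul, map_mul, map_inv, map_inv, ← h1,
            mul_inv_cancel_right, inv_mul_cancel]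
        simpa using Subgroup.mul_mem_sup ht h2)
    set y := k * g
    have hy : π y = π g := by
      rw [map_mul, (MonoidHom.mem_ker (f := π)).mp (hker.symm ▸ hk), one_mul]
    have hyC : y ∈ Subgroup.centralizer (B : Set H) := by
      rw [Coprime.mem_centralizer_iff_conj]
      intro t ht
      refine mul_inv_eq_one.mp (Core.ThompsonComplement.eq_one_of_mem hB
        (mul_mem ((Subgroup.mem_normalizer_iff.mp hkg t).mp ht) (inv_mem ht))
        ((Core.card_pPrimeCore_coprime p H).coprime_dvd_left (Subgroup.orderOf_dvd_natCard _ ?_)))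
      show y * t * y⁻¹ * t⁻¹ ∈ O
      rw [← hker, MonoidHom.mem_ker, map_mul, map_mul, map_mul, map_inv, map_inv, hy,
        ← Subgroup.mem_centralizer_iff.mp hrC (π t) ⟨t, ht, rfl⟩, mul_inv_cancel_right, mul_inv_cancel]
    obtain ⟨j, hj⟩ : ∃ j, (π g) ^ p ^ j = 1 := by
      obtain ⟨j, hj⟩ := Core.isPGroup_pCore p (H ⧸ O) ⟨π g, hrR⟩
      exact ⟨j, congrArg Subtype.val hj⟩
    obtain ⟨a, m, hm, hord⟩ := Nat.exists_eq_pow_mul_and_not_dvd (orderOf_pos y).ne' p hp.out.ne_one
    obtain ⟨e, he1, he0⟩ := Nat.chineseRemainder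
      (show (p ^ j).Coprime m from Nat.Coprime.pow_left j ((Nat.Prime.coprime_iff_not_dvd hp.out).mpr hm)) 1 0
    have hzB : y ^ e ∈ B := by
      have hzpp : (y ^ e) ^ p ^ a = 1 := by
        rw [← pow_mul, ← orderOf_dvd_iff_pow_eq_one, hord, mul_comm (p ^ a)]
        exact Nat.mul_dvd_mul_right (Nat.modEq_zero_iff_dvd.mp he0) _
      refine hBc _ (pow_mem hyC e) ?_
      have hO : (y ^ e) ^ p ∈ O := by
        rw [← hker, MonoidHom.mem_ker, map_pow, map_pow, hy, ← pow_mul, mul_comm e p, pow_mul, hrp, one_pow]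
      refine Core.ThompsonComplement.eq_one_of_mem (U := Subgroup.zpowers (y ^ e)) (p := p)
        (IsPGroup.of_card (n := Nat.log p (orderOf (y ^ e))) ?_) (pow_mem (Subgroup.mem_zpowers _) p)
        ((Core.card_pPrimeCore_coprime p H).coprime_dvd_left (Subgroup.orderOf_dvd_natCard _ hO))
      obtain ⟨i, -, hi⟩ := (Nat.dvd_prime_pow hp.out).mp (orderOf_dvd_of_pow_eq_one hzpp)
      rw [Nat.card_zpowers, hi, Nat.log_pow hp.out.one_lt]
    have hz : π g ∈ B.map π := by
      refine ⟨y ^ e, hzB, ?_⟩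
      rw [map_pow, hy]
      conv_rhs => rw [← pow_one (π g)]
      exact pow_eq_pow_iff_modEq.mpr (Nat.ModEq.of_dvd (orderOf_dvd_of_pow_eq_one hj) he1)
    rw [Subgroup.mem_centralizer_iff]
    intro κ hκ
    have h1 : κ * π g * κ⁻¹ * (π g)⁻¹ ∈ R :=
      mul_mem ((inferInstance : R.Normal).conj_mem _ hrR κ) (inv_mem hrR)
    have h2 : κ * π g * κ⁻¹ * (π g)⁻¹ ∈ K.map π := by
      rw [mul_assoc, mul_assoc, ← mul_assoc (π g)]
      exact mul_mem hκ ((Subgroup.mem_normalizer_iff.mp (hBK' hz) κ⁻¹).mp (inv_mem hκ))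
    exact mul_inv_eq_iff_eq_mul.mp (mul_inv_eq_one.mp (Core.ThompsonComplement.eq_one_of_mem
      (Core.isPGroup_pCore p _) h1 (hK'.coprime_dvd_left (Subgroup.orderOf_dvd_natCard _ h2))))
  have h := commutator_eq_bot_of_fixed_points hp2 (hB.map π) hK' hBK' _ R rfl
    (Core.isPGroup_pCore p _) (hnorm _) (hnorm _) hfix
  have hKR : K.map π ≤ R :=
    (Subgroup.le_centralizer_iff.mp (Subgroup.commutator_eq_bot_iff_le_centralizer.mp h)).trans
      hcons
  intro x hx
  have hxK : π x ∈ K.map π := Subgroup.mem_map_of_mem π hx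
  have h1 : π x = 1 := Core.ThompsonComplement.eq_one_of_mem (Core.isPGroup_pCore p _) (hKR hxK)
    (hK'.coprime_dvd_left (Subgroup.orderOf_dvd_natCard _ hxK))
  exact hker ▸ (MonoidHom.mem_ker (f := π)).mpr h1

theorem invariant_le_pPrimeCore {H : Type*} [Group H] [Finite H] [Group.IsSolvable H] {p : ℕ}
    [hp : Fact p.Prime] (hp2 : Odd p) {B K : Subgroup H} (hB : IsPGroup p B)
    (hBc : ∀ x ∈ Subgroup.centralizer (B : Set H), (∃ k, x ^ p ^ k = 1) → x ∈ B)
    (hK : (Nat.card K).Coprime p) (hBK : B ≤ Subgroup.normalizer (K : Set H)) :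
    K ≤ pPrimeCore p H :=
  invariant_le_pPrimeCore_of_constrained hp2
    (Core.centralizer_pCore_le_of_isSolvable (Core.pPrimeCore_quotient_pPrimeCore p H)) hB
    (fun x hx hxp => hBc x hx ⟨1, by rw [pow_one]; exact hxp⟩) hK hBK

/-- A Sylow `p`-subgroup `P` normalizing `B` with `C_P(B) = B`: every `p`-element centralizing `B` lies in `B`. -/
theorem mem_of_mem_centralizer_pElement {X : Type*} [Group X] [Finite X] {p : ℕ} [Fact p.Prime]
    (P : Sylow p X) {B : Subgroup X} (hBn : (P : Subgroup X) ≤ Subgroup.normalizer (B : Set X))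
    (hBc : (P : Subgroup X) ⊓ Subgroup.centralizer (B : Set X) = B) {x : X}
    (hx : x ∈ Subgroup.centralizer (B : Set X)) (hxp : ∃ k, x ^ p ^ k = 1) : x ∈ B := by
  set M := Subgroup.normalizer (B : Set X)
  have hxM : x ∈ M := Coprime.mem_normalizer_of_conj_mem fun y hy => by
    rw [← Subgroup.mem_centralizer_iff.mp hx y hy, mul_inv_cancel_right]; exact hy
  have hz : IsPGroup p (Subgroup.zpowers (⟨x, hxM⟩ : M)) := by
    obtain ⟨k, hk⟩ := hxp
    obtain ⟨j, -, hj⟩ := (Nat.dvd_prime_pow (Fact.out : p.Prime)).mp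
      (orderOf_dvd_of_pow_eq_one (x := (⟨x, hxM⟩ : M)) (n := p ^ k) (Subtype.ext hk))
    exact IsPGroup.of_card (n := j) (by rw [Nat.card_zpowers, hj])
  obtain ⟨Q, hQ⟩ := hz.exists_le_sylow
  obtain ⟨g, hg⟩ := MulAction.exists_smul_eq M (P.subtype hBn) Q
  have h1 : (⟨x, hxM⟩ : M) ∈ (g • P.subtype hBn : Sylow p M) := hg ▸ hQ (Subgroup.mem_zpowers _)
  rw [← SetLike.mem_coe, ← Sylow.coe_coe, SetLike.mem_coe, Sylow.coe_subgroup_smul, Subgroup.mem_pointwise_smul_iff_inv_smul_mem,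
    Sylow.coe_subtype, Subgroup.mem_subgroupOf] at h1
  have h2 : (g : X)⁻¹ * x * g ∈ Subgroup.centralizer (B : Set X) := by
    rw [Coprime.mem_centralizer_iff_conj]
    intro b hb
    have hb' : (g : X) * b * (g : X)⁻¹ ∈ B := (Subgroup.mem_normalizer_iff.mp g.2 b).mp hb
    have e := (Coprime.mem_centralizer_iff_conj.mp hx) _ hb'
    calc ((g : X)⁻¹ * x * g) * b * ((g : X)⁻¹ * x * g)⁻¹
        = (g : X)⁻¹ * (x * (g * b * (g : X)⁻¹) * x⁻¹) * g := by group
      _ = b := by rw [e]; group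
  have h3 : (g : X)⁻¹ * x * g ∈ B := hBc.le ⟨by
    simp [MulAut.smul_def, mul_assoc] at h1 ⊢
    exact h1, h2⟩
  have h4 := (Subgroup.mem_normalizer_iff.mp g.2 _).mp h3
  simpa [mul_assoc] using h4

end Cfsg.Agent.OddChar
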