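import Cfsg.Agent.OddLocal.NilBasics
import Mathlib.GroupTheory.Sylow

/-!
A kernel containing the centralizers of its nonidentity elements has order prime to its index, and
a trivial intersection kernel that is Sylow in its normalizer is Sylow in the whole group.
-/

set_option autoImplicit false

namespace Cfsg.Agent.OddChar

theorem frob_coprime {L : Type*} [Group L] [Finite L] (K : Subgroup L) [K.Normal]
    (hC : ∀ k ∈ K, k ≠ 1 → Subgroup.centralizer ({k} : Set L) ≤ K) :
    Nat.Coprime (Nat.card K) K.index := by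
  refine Nat.coprime_of_dvd fun q hq hqK hqi => ?_
  haveI : Fact q.Prime := ⟨hq⟩
  obtain ⟨Q⟩ : Nonempty (Sylow q L) := inferInstance
  set N := K.subgroupOf (Q : Subgroup L)
  haveI : N.Normal := Subgroup.normal_subgroupOf
  haveI : Group.IsNilpotent (Q : Subgroup L) := Q.isPGroup'.isNilpotent
  have hN : N ≠ ⊥ := by
    intro h
    obtain ⟨R⟩ : Nonempty (Sylow q K) := inferInstance
    obtain ⟨x, hx, hx1⟩ := ((Subgroup.bot_or_exists_ne_one (R : Subgroup K)).resolve_left
      (R.ne_bot_of_dvd_card hqK))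
    obtain ⟨Q', hQ'⟩ := (R.isPGroup'.map K.subtype).exists_le_sylow
    obtain ⟨g, hg⟩ := MulAction.exists_smul_eq L Q' Q
    have hxQ : g * x * g⁻¹ ∈ (Q : Subgroup L) := by
      rw [← hg]
      exact ⟨x, hQ' (Subgroup.mem_map_of_mem _ hx), rfl⟩
    have hxK : g * x * g⁻¹ ∈ K := (inferInstance : K.Normal).conj_mem _ x.2 g
    have h1 : (⟨g * x * g⁻¹, hxQ⟩ : (Q : Subgroup L)) ∈ N := hxK
    rw [h, Subgroup.mem_bot] at h1
    exact hx1 (Subtype.ext (conj_eq_one_iff.mp (congrArg Subtype.val h1)))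
  obtain ⟨k, hkN, hk1, hkc⟩ := OddLocal.exists_ne_one_mem_center_of_normal N hN
  have hQK : (Q : Subgroup L) ≤ K := fun y hy =>
    hC k hkN (fun e => hk1 (Subtype.ext e)) (Subgroup.mem_centralizer_singleton_iff.mpr (by
      have h := congrArg Subtype.val (Subgroup.mem_center_iff.mp hkc ⟨y, hy⟩)
      first | exact h | exact h.symm))
  exact Q.not_dvd_index (hqi.trans (Subgroup.index_dvd_of_le hQK))

/-- A `p`-subgroup of index prime to `p` in its normalizer is a Sylow subgroup. -/
theorem exists_sylow_eq {G : Type*} [Group G] [Finite G] {p : ℕ} [Fact p.Prime] (H : Subgroup G)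
    (hH : IsPGroup p H) (hndvd : ¬ p ∣ H.relIndex (Subgroup.normalizer (H : Set G))) :
    ∃ P : Sylow p G, (P : Subgroup G) = H := by
  obtain ⟨R, hR⟩ := hH.exists_le_sylow
  refine ⟨R, le_antisymm ?_ hR⟩
  by_contra hne
  set N := Subgroup.normalizer (H : Set G)
  haveI : Group.IsNilpotent (R : Subgroup G) := R.isPGroup'.isNilpotent
  set H' := H.subgroupOf (R : Subgroup G)
  have hH' : H' < ⊤ := lt_top_iff_ne_top.mpr fun h => hne (Subgroup.subgroupOf_eq_top.mp h)
  have hlt := normalizerCondition_of_isNilpotent (G := (R : Subgroup G)) H' hH'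
  obtain ⟨x, hxN, hxH⟩ := SetLike.exists_of_lt hlt
  set T := (R : Subgroup G) ⊓ N
  have hxT : (x : G) ∈ T := by
    refine ⟨x.2, Subgroup.mem_normalizer_iff.mpr fun h => ?_⟩
    constructor
    · intro hh
      exact (Subgroup.mem_normalizer_iff.mp hxN ⟨h, hR hh⟩).mp hh
    · intro hh
      have hhR : h ∈ (R : Subgroup G) := by
        have := (R : Subgroup G).mul_mem ((R : Subgroup G).mul_mem
          ((R : Subgroup G).inv_mem x.2) (hR hh)) x.2
        simpa [mul_assoc] using this
      exact (Subgroup.mem_normalizer_iff.mp hxN ⟨h, hhR⟩).mpr hh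
  have hHT : H ≤ T := le_inf hR Subgroup.le_normalizer
  have hTp : IsPGroup p T := R.isPGroup'.to_le inf_le_left
  obtain ⟨a, ha⟩ := (IsPGroup.iff_card.mp hTp)
  have hd : H.relIndex T ∣ H.relIndex N := Dvd.intro _ (Subgroup.relIndex_mul_relIndex H T N hHT inf_le_right)
  have hd2 : H.relIndex T ∣ p ^ a := ha ▸ Subgroup.index_dvd_card _
  obtain ⟨b, -, hb⟩ := (Nat.dvd_prime_pow Fact.out).mp hd2
  rcases Nat.eq_zero_or_pos b with h | h
  · rw [h, pow_zero, Subgroup.relIndex_eq_one] at hb
    exact hxH (hb hxT)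
  · exact hndvd (((dvd_pow_self p h.ne').trans (dvd_of_eq hb.symm)).trans hd)

end Cfsg.Agent.OddChar
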