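import Cfsg.Agent.OddChar.FrobCoprime
import Cfsg.Agent.Core.ThompsonFPF

/-!
A proper normal subgroup containing the centralizers of its nonidentity elements is nilpotent.
-/

set_option autoImplicit false

namespace Cfsg.Agent.OddChar

theorem frob_nilpotent {L : Type*} [Group L] [Finite L] (K : Subgroup L) [K.Normal]
    (hC : ∀ k ∈ K, k ≠ 1 → Subgroup.centralizer ({k} : Set L) ≤ K) (hK : K ≠ ⊤) :
    Group.IsNilpotent K := by
  obtain ⟨r, hr, hrd⟩ := Nat.exists_prime_and_dvd (fun h => hK (Subgroup.index_eq_one.mp h))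
  haveI : Fact r.Prime := ⟨hr⟩
  obtain ⟨x, hx⟩ := exists_prime_orderOf_dvd_card' (G := L) r (hrd.trans K.index_dvd_card)
  have hxK : x ∉ K := fun h => hr.not_dvd_one (by
    have h1 : r ∣ Nat.card K := hx ▸ Subgroup.orderOf_dvd_natCard K h
    exact (frob_coprime K hC).gcd_eq_one ▸ Nat.dvd_gcd h1 hrd)
  refine Agent.Core.ThompsonFPF.isNilpotent_of_fpf hr (MulAut.conjNormal x) ?_ ?_
  · intro n hn
    by_contra hne
    have hn' : x * n * x⁻¹ = n := by rw [← MulAut.conjNormal_apply x n, hn]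
    exact hxK (hC n n.2 (fun h => hne (Subtype.ext h))
      (Subgroup.mem_centralizer_singleton_iff.mpr (mul_inv_eq_iff_eq_mul.mp hn')))
  · intro n
    rw [Agent.Core.ThompsonFPF.iterate_eq_pow, ← map_pow, ← hx, pow_orderOf_eq_one, map_one]
    rfl

end Cfsg.Agent.OddChar
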