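import Cfsg.Agent.OddChar.Virtual
import Mathlib.LinearAlgebra.Dimension.Finite
import Mathlib.LinearAlgebra.FiniteDimensional.Basic

/-!
Linear algebra of coherence: isometries determined by the images of an orthogonal family, and
one-step extensions.
-/

set_option autoImplicit false
set_option linter.unusedSectionVars false

open scoped ComplexConjugate Classical

namespace Cfsg.Agent.OddChar

universe u v

variable {L : Type u} [Group L] [Fintype L] {G : Type v} [Group G] [Fintype G]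

theorem classInner_self_re (φ : G → ℂ) :
    (Cfsg.classInner φ φ).re = (Nat.card G : ℝ)⁻¹ * ∑ g : G, Complex.normSq (φ g) := by
  have h : Cfsg.classInner φ φ = (((Nat.card G : ℝ)⁻¹ * ∑ g : G, Complex.normSq (φ g) : ℝ) : ℂ) := by
    push_cast
    simp [Chars.classInner_def, Complex.mul_conj]
  rw [h, Complex.ofReal_re]

theorem classInner_self_re_nonneg (φ : G → ℂ) : 0 ≤ (Cfsg.classInner φ φ).re := by
  rw [classInner_self_re]
  exact mul_nonneg (by positivity) (Finset.sum_nonneg fun g _ => Complex.normSq_nonneg _)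

theorem eq_zero_of_classInner_self_re {φ : G → ℂ} (h : (Cfsg.classInner φ φ).re = 0) : φ = 0 := by
  rw [classInner_self_re] at h
  rcases mul_eq_zero.mp h with h | h
  · have : (0 : ℝ) < (Nat.card G : ℝ)⁻¹ := by
      have : 0 < Nat.card G := Nat.card_pos
      positivity
    linarith
  · funext g
    exact Complex.normSq_eq_zero.mp
      ((Finset.sum_eq_zero_iff_of_nonneg fun i _ => Complex.normSq_nonneg _).mp h g (Finset.mem_univ g))

theorem classInner_self_ne_zero {φ : G → ℂ} (h : φ ≠ 0) : Cfsg.classInner φ φ ≠ 0 :=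
  fun h0 => h (eq_zero_of_classInner_self_re (by rw [h0]; rfl))

/-- A family of characters that are pairwise orthogonal and nonzero. -/
structure OrthFamily (S : Set (L → ℂ)) : Prop where
  isChar : ∀ φ ∈ S, Cfsg.IsCharacter L φ
  orth : ∀ φ ∈ S, ∀ ψ ∈ S, φ ≠ ψ → Cfsg.classInner φ ψ = 0
  ne_zero : ∀ φ ∈ S, φ ≠ 0

theorem OrthFamily.mono {S T : Set (L → ℂ)} (h : OrthFamily S) (hT : T ⊆ S) : OrthFamily T :=
  ⟨fun φ hφ => h.isChar φ (hT hφ), fun φ hφ ψ hψ => h.orth φ (hT hφ) ψ (hT hψ),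
    fun φ hφ => h.ne_zero φ (hT hφ)⟩

theorem orthFamily_of_irr {S : Set (L → ℂ)} (h : ∀ φ ∈ S, Cfsg.IsIrrCharacter L φ) : OrthFamily S :=
  ⟨fun φ hφ => Chars.isCharacter_of_isIrr (h φ hφ),
    fun φ hφ ψ hψ hne => Chars.classInner_irr_of_ne (h φ hφ) (h ψ hψ) hne,
    fun φ hφ h0 => Chars.irr_apply_one_ne_zero (h φ hφ) (by rw [h0]; rfl)⟩

theorem OrthFamily.finite {S : Set (L → ℂ)} (h : OrthFamily S) : S.Finite := by
  have hli : LinearIndependent ℂ (fun φ : S => (φ : L → ℂ)) := by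
    rw [linearIndependent_iff']
    intro s c hc φ hφ
    have h1 := congrArg (fun f => Cfsg.classInner f (φ : L → ℂ)) hc
    simp only [Chars.classInner_sum_left, Chars.classInner_smul_left,
      Chars.classInner_zero_left] at h1
    rw [Finset.sum_eq_single_of_mem φ hφ fun ψ _ hne => by
      rw [h.orth _ ψ.2 _ φ.2 (fun he => hne (Subtype.ext he)), mul_zero]] at h1
    exact (mul_eq_zero.mp h1).resolve_right (classInner_self_ne_zero (h.ne_zero _ φ.2))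
  exact Set.finite_coe_iff.mp hli.finite

/-- The orthogonal-projection extension of `v : S → (G → ℂ)`. -/
noncomputable def orthExtend (S : Finset (L → ℂ)) (v : (L → ℂ) → (G → ℂ)) :
    (L → ℂ) →ₗ[ℂ] (G → ℂ) where
  toFun α := ∑ φ ∈ S, (Cfsg.classInner α φ / Cfsg.classInner φ φ) • v φ
  map_add' α β := by
    simp only [Chars.classInner_add_left, add_div, add_smul, Finset.sum_add_distrib]
  map_smul' c α := by
    simp only [Chars.classInner_smul_left, mul_div_assoc, mul_smul, Finset.smul_sum, RingHom.id_apply]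

variable {S : Finset (L → ℂ)} (hS : OrthFamily (S : Set (L → ℂ)))

include hS

theorem orthExtend_apply (v : (L → ℂ) → (G → ℂ)) {φ : L → ℂ} (hφ : φ ∈ S) :
    orthExtend S v φ = v φ := by
  show ∑ ψ ∈ S, (Cfsg.classInner φ ψ / Cfsg.classInner ψ ψ) • v ψ = v φ
  rw [Finset.sum_eq_single_of_mem φ hφ fun ψ hψ hne => by
    rw [hS.orth _ hφ _ hψ (Ne.symm hne), zero_div, zero_smul]]
  rw [div_self (classInner_self_ne_zero (hS.ne_zero φ hφ)), one_smul]

theorem zspan_expand {α : L → ℂ} (hα : α ∈ Cfsg.zspan (S : Set (L → ℂ))) :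
    α = ∑ φ ∈ S, (Cfsg.classInner α φ / Cfsg.classInner φ φ) • φ := by
  refine Submodule.span_induction (p := fun x _ => x = orthExtend (G := L) S (fun f => f) x) ?_ ?_ ?_ ?_ hα
  · intro x hx; exact (orthExtend_apply (G := L) hS (fun f => f) hx).symm
  · exact (map_zero _).symm
  · intro x y _ _ hx hy; rw [map_add, ← hx, ← hy]
  · intro n x _ hx; rw [map_zsmul, ← hx]

theorem orthExtend_isometry (v : (L → ℂ) → (G → ℂ))
    (hv : ∀ φ ∈ S, Cfsg.IsGeneralizedCharacter G (v φ))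
    (hgram : ∀ φ ∈ S, ∀ ψ ∈ S, Cfsg.classInner (v φ) (v ψ) = Cfsg.classInner φ ψ) :
    Cfsg.IsLinearIsometryOn (Cfsg.zspan (S : Set (L → ℂ))) (orthExtend S v) := by
  refine ⟨fun α _ β _ => map_add _ α β, fun α _ n => map_zsmul _ n α, ?_, ?_⟩
  · intro α hα β hβ
    conv_rhs => rw [zspan_expand hS hα, zspan_expand hS hβ]
    show Cfsg.classInner (∑ φ ∈ S, _ • v φ) (∑ φ ∈ S, _ • v φ) = _
    simp only [Chars.classInner_sum_left, Chars.classInner_sum_right, Chars.classInner_smul_left,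
      Chars.classInner_smul_right]
    exact Finset.sum_congr rfl fun φ hφ => congrArg _ (Finset.sum_congr rfl fun ψ hψ => by rw [hgram ψ hψ φ hφ])
  · intro α hα
    refine Submodule.span_induction (p := fun x _ => Cfsg.IsGeneralizedCharacter G (orthExtend S v x))
      ?_ ?_ ?_ ?_ hα
    · intro x hx; rw [orthExtend_apply hS v hx]; exact hv x hx
    · rw [map_zero]; exact virt_zero
    · intro x y _ _ hx hy; rw [map_add]; exact virt_add hx hy
    · intro n x _ hx; rw [map_zsmul]; exact virt_zsmul hx n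

omit hS

/-! ### Maps defined on a subgroup of the function space -/

theorem zspan_subset_apply {S : Set (L → ℂ)} {φ : L → ℂ} (h : φ ∈ S) : φ ∈ Cfsg.zspan S :=
  Submodule.subset_span h

theorem zspan_mono {S T : Set (L → ℂ)} (h : S ⊆ T) : Cfsg.zspan S ⊆ Cfsg.zspan T :=
  Submodule.span_mono h

theorem zspan_zero_mem (S : Set (L → ℂ)) : (0 : L → ℂ) ∈ Cfsg.zspan S := Submodule.zero_mem _

theorem zspan_add_mem {S : Set (L → ℂ)} {α β : L → ℂ} (hα : α ∈ Cfsg.zspan S)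
    (hβ : β ∈ Cfsg.zspan S) : α + β ∈ Cfsg.zspan S := Submodule.add_mem _ hα hβ

theorem zspan_sub_mem {S : Set (L → ℂ)} {α β : L → ℂ} (hα : α ∈ Cfsg.zspan S)
    (hβ : β ∈ Cfsg.zspan S) : α - β ∈ Cfsg.zspan S := Submodule.sub_mem _ hα hβ

theorem zspan_zsmul_mem {S : Set (L → ℂ)} {α : L → ℂ} (hα : α ∈ Cfsg.zspan S) (n : ℤ) :
    n • α ∈ Cfsg.zspan S := Submodule.smul_mem _ n hα

theorem mem_zspanOn_one {S : Set (L → ℂ)} {α : L → ℂ} :
    α ∈ Cfsg.zspanOn S {1}ᶜ ↔ α ∈ Cfsg.zspan S ∧ α 1 = 0 := by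
  constructor
  · exact fun h => ⟨h.1, h.2 1 (by simp)⟩
  · rintro ⟨h, h1⟩
    refine ⟨h, fun x hx => ?_⟩
    have : x = 1 := by simpa using hx
    rw [this]; exact h1

theorem zspanOn_add_mem {S : Set (L → ℂ)} {α β : L → ℂ} (hα : α ∈ Cfsg.zspanOn S {1}ᶜ)
    (hβ : β ∈ Cfsg.zspanOn S {1}ᶜ) : α + β ∈ Cfsg.zspanOn S {1}ᶜ := by
  rw [mem_zspanOn_one] at hα hβ ⊢
  exact ⟨zspan_add_mem hα.1 hβ.1, by rw [Pi.add_apply, hα.2, hβ.2, add_zero]⟩

theorem zspanOn_sub_mem {S : Set (L → ℂ)} {α β : L → ℂ} (hα : α ∈ Cfsg.zspanOn S {1}ᶜ)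
    (hβ : β ∈ Cfsg.zspanOn S {1}ᶜ) : α - β ∈ Cfsg.zspanOn S {1}ᶜ := by
  rw [mem_zspanOn_one] at hα hβ ⊢
  exact ⟨zspan_sub_mem hα.1 hβ.1, by rw [Pi.sub_apply, hα.2, hβ.2, sub_zero]⟩

theorem zspanOn_zsmul_mem {S : Set (L → ℂ)} {α : L → ℂ} (hα : α ∈ Cfsg.zspanOn S {1}ᶜ) (n : ℤ) :
    n • α ∈ Cfsg.zspanOn S {1}ᶜ := by
  rw [mem_zspanOn_one] at hα ⊢
  exact ⟨zspan_zsmul_mem hα.1 n, by simp [hα.2]⟩

theorem zspanOn_zero_mem (S : Set (L → ℂ)) : (0 : L → ℂ) ∈ Cfsg.zspanOn S {1}ᶜ :=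
  mem_zspanOn_one.mpr ⟨zspan_zero_mem S, rfl⟩

theorem zspanOn_sum_mem {S : Set (L → ℂ)} {ι : Type*} (s : Finset ι) (f : ι → L → ℂ)
    (hf : ∀ i ∈ s, f i ∈ Cfsg.zspanOn S {1}ᶜ) : ∑ i ∈ s, f i ∈ Cfsg.zspanOn S {1}ᶜ :=
  Finset.sum_induction f (· ∈ Cfsg.zspanOn S {1}ᶜ) (fun _ _ => zspanOn_add_mem)
    (zspanOn_zero_mem S) hf

theorem zspanOn_mono {S T : Set (L → ℂ)} (h : S ⊆ T) :
    Cfsg.zspanOn S {1}ᶜ ⊆ Cfsg.zspanOn T {1}ᶜ := fun _ hα => ⟨zspan_mono h hα.1, hα.2⟩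

variable {E : Set (L → ℂ)} {τ : (L → ℂ) → (G → ℂ)}

theorem iso_map_sub (hτ : Cfsg.IsLinearIsometryOn E τ) {α β : L → ℂ}
    (hαβ : α - β ∈ E) (hβ : β ∈ E) : τ (α - β) = τ α - τ β := by
  have := hτ.1 (α - β) hαβ β hβ
  rw [sub_add_cancel] at this
  rw [this, add_sub_cancel_right]

theorem iso_map_zero (hτ : Cfsg.IsLinearIsometryOn E τ) (h0 : (0 : L → ℂ) ∈ E) : τ 0 = 0 := by
  simpa using hτ.2.1 0 h0 0

theorem iso_map_sum (hτ : Cfsg.IsLinearIsometryOn E τ) (h0 : (0 : L → ℂ) ∈ E)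
    (hadd : ∀ α ∈ E, ∀ β ∈ E, α + β ∈ E) {ι : Type*} (s : Finset ι) (f : ι → L → ℂ)
    (hf : ∀ i ∈ s, f i ∈ E) : τ (∑ i ∈ s, f i) = ∑ i ∈ s, τ (f i) := by
  induction s using Finset.induction_on with
  | empty => simpa using iso_map_zero hτ h0
  | insert a s ha ih =>
    rw [Finset.sum_insert ha, Finset.sum_insert ha, hτ.1 _ (hf a (by simp)) _
      (Finset.sum_induction f (· ∈ E) (fun x y hx hy => hadd x hx y hy) h0
        fun i hi => hf i (by simp [hi])), ih fun i hi => hf i (by simp [hi])]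

/-- Integer coordinates on an orthogonal family. -/
theorem exists_int_coords {S : Finset (L → ℂ)} {α : L → ℂ}
    (hα : α ∈ Cfsg.zspan (S : Set (L → ℂ))) : ∃ c : (L → ℂ) → ℤ, α = ∑ φ ∈ S, c φ • φ := by
  obtain ⟨f, -, hf⟩ := Submodule.mem_span_finset.mp hα
  exact ⟨f, hf.symm⟩

/-- Extending a coherent family by one character. -/
theorem coherent_insert {T : Set (L → ℂ)} (hτ : Cfsg.IsLinearIsometryOn (Cfsg.zspanOn T {1}ᶜ) τ)
    (S : Finset (L → ℂ)) (χ : L → ℂ) (hT : insert χ (S : Set (L → ℂ)) ⊆ T)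
    (hO : OrthFamily (insert χ (S : Set (L → ℂ)))) (hχ : χ ∉ S) (ψ : L → ℂ) (hψ : ψ ∈ S) (a : ℤ)
    (hdeg : χ 1 = a * ψ 1) (τ₁ : (L → ℂ) → (G → ℂ))
    (hτ₁ : Cfsg.IsLinearIsometryOn (Cfsg.zspan (S : Set (L → ℂ))) τ₁)
    (hagree : ∀ α ∈ Cfsg.zspanOn (S : Set (L → ℂ)) {1}ᶜ, τ₁ α = τ α)
    (Z : G → ℂ) (hZ : Cfsg.IsGeneralizedCharacter G Z)
    (hZn : Cfsg.classInner Z Z = Cfsg.classInner χ χ)
    (hZo : ∀ φ ∈ S, Cfsg.classInner Z (τ₁ φ) = 0)
    (hrel : τ (χ - a • ψ) = Z - a • τ₁ ψ) :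
    ∃ τ₂ : (L → ℂ) → (G → ℂ),
      Cfsg.IsLinearIsometryOn (Cfsg.zspan (insert χ (S : Set (L → ℂ)))) τ₂ ∧
      (∀ α ∈ Cfsg.zspanOn (insert χ (S : Set (L → ℂ))) {1}ᶜ, τ₂ α = τ α) ∧
      τ₂ χ = Z ∧ ∀ φ ∈ S, τ₂ φ = τ₁ φ := by
  let v : (L → ℂ) → (G → ℂ) := fun φ => if φ = χ then Z else τ₁ φ
  have hO' : OrthFamily ((insert χ S : Finset (L → ℂ)) : Set (L → ℂ)) := by
    rwa [Finset.coe_insert]
  have hvχ : v χ = Z := if_pos rfl
  have hvS : ∀ φ ∈ S, v φ = τ₁ φ := fun φ hφ => if_neg (fun h : φ = χ => hχ (h ▸ hφ))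
  have hv : ∀ φ ∈ insert χ S, Cfsg.IsGeneralizedCharacter G (v φ) := by
    intro φ hφ
    rcases Finset.mem_insert.mp hφ with rfl | hφ
    · rw [hvχ]; exact hZ
    · rw [hvS φ hφ]; exact hτ₁.2.2.2 φ (zspan_subset_apply hφ)
  have hgram : ∀ φ ∈ insert χ S, ∀ ξ ∈ insert χ S,
      Cfsg.classInner (v φ) (v ξ) = Cfsg.classInner φ ξ := by
    have hor : ∀ φ ∈ S, Cfsg.classInner χ φ = 0 := fun φ hφ =>
      hO.orth χ (Set.mem_insert _ _) φ (Set.mem_insert_of_mem _ hφ) (fun h : χ = φ => hχ (h ▸ hφ))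
    intro φ hφ ξ hξ
    rcases Finset.mem_insert.mp hφ with h1 | hφ <;> rcases Finset.mem_insert.mp hξ with h2 | hξ
    · rw [h1, h2, hvχ]; exact hZn
    · rw [h1, hvχ, hvS ξ hξ, hZo ξ hξ, hor ξ hξ]
    · rw [h2, hvχ, hvS φ hφ, ← Chars.classInner_conj_symm, hZo φ hφ, map_zero,
        ← Chars.classInner_conj_symm, hor φ hφ, map_zero]
    · rw [hvS φ hφ, hvS ξ hξ]
      exact hτ₁.2.2.1 φ (zspan_subset_apply hφ) ξ (zspan_subset_apply hξ)
  have hiso := orthExtend_isometry hO' v hv hgram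
  rw [Finset.coe_insert] at hiso
  have happS : ∀ φ ∈ S, orthExtend (insert χ S) v φ = τ₁ φ := fun φ hφ => by
    rw [orthExtend_apply hO' v (Finset.mem_insert_of_mem hφ), hvS φ hφ]
  have happS' : ∀ α ∈ Cfsg.zspan (S : Set (L → ℂ)), orthExtend (insert χ S) v α = τ₁ α := by
    intro α hα
    obtain ⟨c, rfl⟩ := exists_int_coords hα
    rw [map_sum, iso_map_sum hτ₁ (zspan_zero_mem _) (fun x hx y hy => zspan_add_mem hx hy) S
      (fun φ => c φ • φ) fun φ hφ => zspan_zsmul_mem (zspan_subset_apply hφ) _]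
    refine Finset.sum_congr rfl fun φ hφ => ?_
    rw [map_zsmul, happS φ hφ, hτ₁.2.1 φ (zspan_subset_apply hφ)]
  refine ⟨orthExtend (insert χ S) v, hiso, ?_, ?_, happS⟩
  · intro α hα
    obtain ⟨hαs, hα1⟩ := mem_zspanOn_one.mp hα
    obtain ⟨c, γ, hγ, hdec⟩ := Submodule.mem_span_insert.mp hαs
    set γ' : L → ℂ := γ + (c * a) • ψ with hγ'
    have hγ's : γ' ∈ Cfsg.zspan (S : Set (L → ℂ)) :=
      zspan_add_mem hγ (zspan_zsmul_mem (zspan_subset_apply hψ) _)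
    have hγ'1 : γ' 1 = 0 := by
      rw [hdec, Pi.add_apply, Pi.smul_apply, hdeg] at hα1
      simp only [hγ', Pi.add_apply, Pi.smul_apply, zsmul_eq_mul, Int.cast_mul, Pi.mul_apply, Pi.intCast_apply] at hα1 ⊢
      linear_combination hα1
    have hβ : χ - a • ψ ∈ Cfsg.zspanOn T {1}ᶜ := by
      refine mem_zspanOn_one.mpr ⟨zspan_sub_mem (zspan_subset_apply (hT (Set.mem_insert _ _)))
        (zspan_zsmul_mem (zspan_subset_apply (hT (Set.mem_insert_of_mem _ hψ))) _), ?_⟩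
      simp [hdeg]
    have hγ'E : γ' ∈ Cfsg.zspanOn (S : Set (L → ℂ)) {1}ᶜ := mem_zspanOn_one.mpr ⟨hγ's, hγ'1⟩
    have hγ'T : γ' ∈ Cfsg.zspanOn T {1}ᶜ :=
      zspanOn_mono ((Set.subset_insert _ _).trans hT) hγ'E
    have hsplit : α = c • (χ - a • ψ) + γ' := by
      rw [hdec, hγ', smul_sub, mul_smul]; abel
    rw [hsplit, hτ.1 _ (zspanOn_zsmul_mem hβ c) _ hγ'T, hτ.2.1 _ hβ, hrel, map_add, map_zsmul,
      map_sub, map_zsmul, orthExtend_apply hO' v (Finset.mem_insert_self _ _), hvχ, happS ψ hψ,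
      happS' γ' hγ's, hagree γ' hγ'E]
  · rw [orthExtend_apply hO' v (Finset.mem_insert_self _ _), hvχ]

end Cfsg.Agent.OddChar

namespace Cfsg.Agent.OddChar

universe u' v'

variable {L : Type u'} [Group L] [Fintype L] {G : Type v'} [Group G] [Fintype G]

/-- Projection of `f` on an orthonormal family. -/
noncomputable def orthoProj (R : Finset (G → ℂ)) (f : G → ℂ) : G → ℂ :=
  ∑ r ∈ R, Cfsg.classInner f r • r

theorem orthoProj_inner_eq_zero {R : Finset (G → ℂ)} (f g : G → ℂ)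
    (h : ∀ r ∈ R, Cfsg.classInner r g = 0) : Cfsg.classInner (orthoProj R f) g = 0 := by
  rw [orthoProj, Chars.classInner_sum_left]
  exact Finset.sum_eq_zero fun r hr => by rw [Chars.classInner_smul_left, h r hr, mul_zero]

theorem orthoProj_self {R : Finset (G → ℂ)}
    (hR : ∀ α ∈ R, ∀ β ∈ R, Cfsg.classInner α β = if α = β then 1 else 0) (f : G → ℂ) :
    Cfsg.classInner (orthoProj R f) (orthoProj R f) = ((∑ r ∈ R, ‖Cfsg.classInner f r‖ ^ 2 : ℝ) : ℂ) ∧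
      Cfsg.classInner f (orthoProj R f) = ((∑ r ∈ R, ‖Cfsg.classInner f r‖ ^ 2 : ℝ) : ℂ) := by
  have h2 : Cfsg.classInner f (orthoProj R f) =
      ((∑ r ∈ R, ‖Cfsg.classInner f r‖ ^ 2 : ℝ) : ℂ) := by
    rw [orthoProj, Chars.classInner_sum_right]
    push_cast
    refine Finset.sum_congr rfl fun r _ => ?_
    rw [Chars.classInner_smul_right, Complex.conj_mul']
  refine ⟨?_, h2⟩
  have h3 : ∀ r ∈ R, Cfsg.classInner (orthoProj R f) r = Cfsg.classInner f r := by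
    intro r hr
    rw [orthoProj, Chars.classInner_sum_left, Finset.sum_eq_single_of_mem r hr fun s hs hne => by
      rw [Chars.classInner_smul_left, hR s hs r hr, if_neg hne, mul_zero]]
    rw [Chars.classInner_smul_left, hR r hr r hr, if_pos rfl, mul_one]
  rw [← h2]
  conv_lhs => arg 2; rw [orthoProj]
  conv_rhs => rw [orthoProj]
  rw [Chars.classInner_sum_right, Chars.classInner_sum_right]
  exact Finset.sum_congr rfl fun r hr => by
    rw [Chars.classInner_smul_right, Chars.classInner_smul_right, h3 r hr]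

theorem orthoProj_virt {R : Finset (G → ℂ)} (hR : ∀ r ∈ R, Cfsg.IsGeneralizedCharacter G r)
    {f : G → ℂ} (hf : Cfsg.IsGeneralizedCharacter G f) :
    Cfsg.IsGeneralizedCharacter G (orthoProj R f) := by
  refine virt_sum _ _ fun r hr => ?_
  obtain ⟨z, hz⟩ := exists_classInner_eq_int hf (hR r hr)
  rw [hz, Int.cast_smul_eq_zsmul]
  exact virt_zsmul (hR r hr) z

theorem isometryOn_mono {E F : Set (L → ℂ)} {τ : (L → ℂ) → (G → ℂ)}
    (hτ : Cfsg.IsLinearIsometryOn F τ) (h : E ⊆ F) : Cfsg.IsLinearIsometryOn E τ :=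
  ⟨fun α hα β hβ => hτ.1 α (h hα) β (h hβ), fun α hα => hτ.2.1 α (h hα),
    fun α hα β hβ => hτ.2.2.1 α (h hα) β (h hβ), fun α hα => hτ.2.2.2 α (h hα)⟩

theorem char_apply_one_ne_zero {χ : L → ℂ} (h : Cfsg.IsCharacter L χ) (hne : χ ≠ 0) : χ 1 ≠ 0 := by
  obtain ⟨n, ρ, rfl⟩ := h
  intro h0
  rw [Representation.char_one, Module.finrank_fin_fun, Nat.cast_eq_zero] at h0
  subst h0
  apply hne
  funext g
  have hz : ρ g = 0 := Subsingleton.elim _ _
  simp [Representation.character, hz]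

theorem orthFamily_of_system {S : Set (L → ℂ)} {τ : (L → ℂ) → (G → ℂ)}
    {R : (L → ℂ) → Finset (G → ℂ)} (hS : Cfsg.IsCoherenceSystem S τ R) : OrthFamily S :=
  ⟨hS.isCharacter, hS.orthogonal, fun φ hφ h0 => hS.conj_ne φ hφ (by
    subst h0; funext x; simp [Cfsg.conjFun])⟩

theorem conjFun_apply_one {χ : L → ℂ} (h : Cfsg.IsCharacter L χ) : Cfsg.conjFun χ 1 = χ 1 :=
  Chars.irr_apply_one_conj h

theorem classInner_conjFun_self {χ : L → ℂ} (h : Cfsg.IsCharacter L χ) :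
    Cfsg.classInner (Cfsg.conjFun χ) (Cfsg.conjFun χ) = Cfsg.classInner χ χ := by
  rw [classInner_conjFun, Chars.classInner_conj_symm]

end Cfsg.Agent.OddChar
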