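import Cfsg.Agent.Chars.Induced
import Cfsg.Agent.Chars.Orth
import Cfsg.Agent.Chars.Eigen
import Cfsg.Agent.Chars2.Correspondence

/-!
Conjugates of a character of a normal subgroup, written as in the statements, and the number of
irreducible characters fixed by a conjugation.
-/

set_option autoImplicit false
set_option linter.unusedSectionVars false

open scoped Classical ComplexConjugate

namespace Cfsg.Agent.OddChar

variable {G : Type*} [Group G] {N : Subgroup G} [hN : N.Normal]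

/-- The conjugate `h ↦ θ (g h g⁻¹)`. -/
def cj (θ : N → ℂ) (g : G) : N → ℂ := fun h => θ ⟨g * h * g⁻¹, hN.conj_mem h h.2 g⟩

theorem cj_one (θ : N → ℂ) : cj θ (1 : G) = θ := by
  funext h; unfold cj; congr 1; ext; simp

theorem cj_cj (θ : N → ℂ) (g k : G) : cj (cj θ g) k = cj θ (g * k) := by
  funext h; unfold cj; congr 1; ext; simp [mul_assoc]

theorem cj_eq_conjFun (θ : N → ℂ) (g : G) : cj θ g = Chars2.conjFun θ g⁻¹ := by
  funext h
  rw [Chars2.conjFun_apply]
  simp only [cj, inv_inv]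

theorem isIrr_cj {θ : N → ℂ} (hθ : Cfsg.IsIrrCharacter N θ) (g : G) :
    Cfsg.IsIrrCharacter N (cj θ g) := by
  rw [cj_eq_conjFun]; exact Chars2.conjFun_isIrr hθ _

theorem cj_of_mem {θ : N → ℂ} (hθ : Cfsg.IsClassFunction N θ) {g : G} (hg : g ∈ N) :
    cj θ g = θ := funext fun h => hθ h ⟨g, hg⟩

/-- The elements fixing `θ`. -/
def cjStab (θ : N → ℂ) : Subgroup G where
  carrier := {g | cj θ g = θ}
  one_mem' := cj_one θ
  mul_mem' {a b} ha hb := by
    show cj θ (a * b) = θ
    rw [← cj_cj, show cj θ a = θ from ha]; exact hb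
  inv_mem' {a} ha := by
    show cj θ a⁻¹ = θ
    conv_lhs => rw [← show cj θ a = θ from ha, cj_cj, mul_inv_cancel, cj_one]

theorem mem_cjStab {θ : N → ℂ} {g : G} : g ∈ cjStab θ ↔ cj θ g = θ := Iff.rfl

variable [Fintype G]

theorem res_indFun (θ : N → ℂ) (h : N) :
    Cfsg.indFun N θ h = (Nat.card N : ℂ)⁻¹ * ∑ g : G, cj θ g h := by
  rw [Chars.indFun_coe_normal]
  congr 1
  refine Fintype.sum_equiv (Equiv.inv G) _ _ fun x => ?_
  simp only [Equiv.inv_apply, cj, inv_inv]

theorem indFun_cj (θ : N → ℂ) (g : G) : Cfsg.indFun N (cj θ g) = Cfsg.indFun N θ := by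
  funext x
  by_cases hx : x ∈ N
  · rw [show Cfsg.indFun N (cj θ g) x = Cfsg.indFun N (cj θ g) (⟨x, hx⟩ : N) from rfl,
      show Cfsg.indFun N θ x = Cfsg.indFun N θ (⟨x, hx⟩ : N) from rfl, res_indFun, res_indFun]
    congr 1
    exact Fintype.sum_equiv (Equiv.mulLeft g) _ _ fun k => by rw [cj_cj, Equiv.coe_mulLeft]
  · rw [Chars.indFun_of_not_mem_normal _ _ hx, Chars.indFun_of_not_mem_normal _ _ hx]

/-- Counting the irreducible characters fixed by a conjugation. -/
theorem card_fixed_mul (x : G) :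
    (Nat.card {θ : Cfsg.IrrCharacter N // cj (θ : N → ℂ) x = θ}) * Nat.card N =
      ∑ n : N, if IsConj (⟨x * n * x⁻¹, hN.conj_mem n n.2 x⟩ : N) n then
        Nat.card (Subgroup.centralizer ({n} : Set N)) else 0 := by
  have h : ∀ θ : Cfsg.IrrCharacter N, Cfsg.classInner (cj (θ : N → ℂ) x) (θ : N → ℂ) =
      if cj (θ : N → ℂ) x = θ then 1 else 0 := fun θ => by
    rw [Chars.classInner_irr (isIrr_cj θ.2 x) θ.2]
  have h1 : ((Nat.card {θ : Cfsg.IrrCharacter N // cj (θ : N → ℂ) x = θ} : ℕ) : ℂ) * Nat.card N =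
      ∑ n : N, ∑ θ : Cfsg.IrrCharacter N,
        (θ : N → ℂ) ⟨x * n * x⁻¹, hN.conj_mem n n.2 x⟩ * conj ((θ : N → ℂ) n) := by
    rw [Finset.sum_comm, Nat.card_eq_fintype_card, Fintype.card_subtype, ← Finset.sum_boole,
      Finset.sum_mul]
    refine Finset.sum_congr rfl fun θ _ => ?_
    rw [← h, Chars.classInner_def, mul_comm, ← mul_assoc,
      mul_inv_cancel₀ (Nat.cast_ne_zero.mpr Nat.card_pos.ne'), one_mul]
    rfl
  simp only [Chars.column_orth] at h1
  have hc : ∀ n : N, IsConj (⟨x * n * x⁻¹, hN.conj_mem n n.2 x⟩ : N) n →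
      Nat.card (Subgroup.centralizer ({(⟨x * n * x⁻¹, hN.conj_mem n n.2 x⟩ : N)} : Set N)) =
      Nat.card (Subgroup.centralizer ({n} : Set N)) := by
    intro n hn
    obtain ⟨c, hc⟩ := isConj_iff.mp hn
    refine Nat.card_congr ((MulAut.conj c).toEquiv.subtypeEquiv fun y => ?_)
    simp only [Subgroup.mem_centralizer_singleton_iff, MulEquiv.toEquiv_eq_coe, EquivLike.coe_coe,
      MulAut.conj_apply]
    have hcomm : ∀ a b : N, c * a * c⁻¹ * (c * b * c⁻¹) = c * (a * b) * c⁻¹ := fun a b => by group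
    generalize (⟨x * n * x⁻¹, hN.conj_mem n n.2 x⟩ : N) = m at hc ⊢
    rw [← hc, hcomm, hcomm, mul_left_inj, mul_right_inj]
  apply Nat.cast_injective (R := ℂ)
  push_cast
  rw [h1]
  refine Finset.sum_congr rfl fun n _ => ?_
  by_cases hn : IsConj (⟨x * n * x⁻¹, hN.conj_mem n n.2 x⟩ : N) n
  · rw [if_pos hn, if_pos hn, hc n hn]
  · rw [if_neg hn, if_neg hn]

theorem card_centralizer_one : Nat.card (Subgroup.centralizer ({(1 : N)} : Set N)) = Nat.card N := by
  rw [show Subgroup.centralizer ({(1 : N)} : Set N) = ⊤ from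
    top_unique fun y _ => Subgroup.mem_centralizer_singleton_iff.mpr (by simp), Subgroup.card_top]

/-- If only the trivial class is fixed, only the principal character is fixed. -/
theorem eq_one_of_fixed {x : G}
    (hx : ∀ n : N, IsConj (⟨x * n * x⁻¹, hN.conj_mem n n.2 x⟩ : N) n → n = 1)
    {θ : N → ℂ} (hθ : Cfsg.IsIrrCharacter N θ) (hfix : cj θ x = θ) : θ = fun _ => 1 := by
  have h := card_fixed_mul (N := N) x
  rw [Finset.sum_eq_single (1 : N) (fun n _ hn => by rw [if_neg (fun hc => hn (hx n hc))]) (by simp),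
    if_pos, card_centralizer_one] at h
  · have h1 : Nat.card {θ : Cfsg.IrrCharacter N // cj (θ : N → ℂ) x = θ} = 1 :=
      Nat.eq_of_mul_eq_mul_right Nat.card_pos (by rw [h, one_mul])
    haveI := (Nat.card_eq_one_iff_unique.mp h1).1
    have he := congrArg (fun z => (z.1 : N → ℂ))
      (Subsingleton.elim (⟨⟨θ, hθ⟩, hfix⟩ : {θ : Cfsg.IrrCharacter N // cj (θ : N → ℂ) x = θ})
        ⟨⟨fun _ => 1, Chars.isIrrCharacter_one⟩, rfl⟩)
    exact he
  · rw [show (⟨x * ((1 : N) : G) * x⁻¹, hN.conj_mem ((1 : N) : G) (1 : N).2 x⟩ : N) = 1 from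
      Subtype.ext (by simp)]

/-- A fixed nontrivial class gives a fixed non-principal character. -/
theorem exists_fixed {x : G} {n : N} (hn : n ≠ 1)
    (hc : IsConj (⟨x * n * x⁻¹, hN.conj_mem n n.2 x⟩ : N) n) :
    ∃ θ : N → ℂ, Cfsg.IsIrrCharacter N θ ∧ θ ≠ (fun _ => 1) ∧ cj θ x = θ := by
  by_contra hcon
  push Not at hcon
  have hsub : Subsingleton {θ : Cfsg.IrrCharacter N // cj (θ : N → ℂ) x = θ} := ⟨fun a b =>
    Subtype.ext (Subtype.ext (by
      by_cases ha : (a.1 : N → ℂ) = fun _ => 1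
      · by_cases hb : (b.1 : N → ℂ) = fun _ => 1
        · rw [ha, hb]
        · exact absurd b.2 (hcon _ b.1.2 hb)
      · exact absurd a.2 (hcon _ a.1.2 ha)))⟩
  have h := card_fixed_mul (N := N) x
  have hle : Nat.card {θ : Cfsg.IrrCharacter N // cj (θ : N → ℂ) x = θ} ≤ 1 :=
    Finite.card_le_one_iff_subsingleton.mpr hsub
  have h2 := Nat.mul_le_mul_right (Nat.card N) hle
  rw [h, one_mul, ← Finset.add_sum_erase _ _ (Finset.mem_univ (1 : N)), if_pos, card_centralizer_one]
    at h2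
  · have h3 := Finset.single_le_sum
      (f := fun m : N => if IsConj (⟨x * m * x⁻¹, hN.conj_mem m m.2 x⟩ : N) m then
        Nat.card (Subgroup.centralizer ({m} : Set N)) else 0)
      (fun _ _ => Nat.zero_le _) (Finset.mem_erase.mpr ⟨hn, Finset.mem_univ n⟩)
    rw [if_pos hc] at h3
    have h4 : 0 < Nat.card (Subgroup.centralizer ({n} : Set N)) := Nat.card_pos
    omega
  · rw [show (⟨x * ((1 : N) : G) * x⁻¹, hN.conj_mem ((1 : N) : G) (1 : N).2 x⟩ : N) = 1 from
      Subtype.ext (by simp)]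

/-- Restriction of an induced character is the inertia index times the orbit sum. -/
theorem res_indFun_orbit (θ : N → ℂ) :
    (fun h : N => Cfsg.indFun N θ h) =
      ((Nat.card {g : G // cj θ g = θ} : ℂ) / (Nat.card N : ℂ)) •
        ∑ ψ ∈ Finset.univ.image (fun g : G => cj θ g), ψ := by
  funext h
  rw [res_indFun, Pi.smul_apply, Finset.sum_apply, smul_eq_mul, div_eq_inv_mul, mul_assoc]
  congr 1
  rw [Finset.mul_sum, ← Finset.sum_fiberwise_of_maps_to (s := Finset.univ)
    (t := Finset.univ.image (fun g : G => cj θ g)) (g := fun g : G => cj θ g)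
    (fun g _ => Finset.mem_image_of_mem _ (Finset.mem_univ g))]
  refine Finset.sum_congr rfl fun ψ hψ => ?_
  rw [Finset.sum_congr rfl (g := fun _ => ψ h) (fun g hg => by rw [(Finset.mem_filter.mp hg).2]),
    Finset.sum_const, nsmul_eq_mul]
  congr 2
  obtain ⟨g₀, -, rfl⟩ := Finset.mem_image.mp hψ
  rw [← Fintype.card_subtype, ← Nat.card_eq_fintype_card]
  refine Nat.card_congr ((Equiv.mulRight g₀⁻¹).subtypeEquiv fun g => ?_)
  show cj θ g = cj θ g₀ ↔ cj θ (g * g₀⁻¹) = θ
  constructor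
  · intro he; rw [← cj_cj, he, cj_cj, mul_inv_cancel, cj_one]
  · intro he
    have := congrArg (fun f => cj f g₀) he
    simpa [cj_cj] using this

end Cfsg.Agent.OddChar
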