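import Cfsg.Agent.OddChar.NormalInd
import Cfsg.Agent.OddChar.Coherence
import Cfsg.Agent.OddChar.GaloisAut
import Cfsg.Agent.Chars.Linear
import Cfsg.Agent.S1492
import Cfsg.Agent.S1516
import Cfsg.Agent.S1517

/-!
The characters induced from irreducible characters of a normal subgroup, their weights, and the
two standard ways of enlarging a coherent set.
-/

set_option autoImplicit false
set_option linter.unusedSectionVars false

open scoped Classical ComplexConjugate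

namespace Cfsg.Agent.OddChar

universe u v

variable {L : Type u} [Group L] [Fintype L] {G : Type v} [Group G] [Fintype G]

/-- The degree, as a natural number. -/
noncomputable def deg {X : Type*} [Group X] (χ : X → ℂ) : ℕ := ⌊(χ 1).re⌋₊

/-- The norm, as a natural number. -/
noncomputable def nrm {X : Type*} [Group X] [Fintype X] (χ : X → ℂ) : ℕ :=
  ⌊(Cfsg.classInner χ χ).re⌋₊

theorem deg_spec {X : Type*} [Group X] {χ : X → ℂ} (h : Cfsg.IsCharacter X χ) :
    χ 1 = (deg χ : ℂ) := by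
  obtain ⟨n, hn⟩ := Chars.exists_apply_one_eq h
  simp [deg, hn]

theorem deg_pos_irr {X : Type*} [Group X] {χ : X → ℂ} (h : Cfsg.IsIrrCharacter X χ) : 0 < deg χ := by
  obtain ⟨n, hn0, hn⟩ := Chars.exists_irr_apply_one_eq h
  simpa [deg, hn] using hn0

theorem nrm_spec {X : Type*} [Group X] [Fintype X] {χ : X → ℂ} (h : Cfsg.IsCharacter X χ) :
    Cfsg.classInner χ χ = (nrm χ : ℂ) := by
  obtain ⟨n, hn⟩ := Chars.exists_classInner_eq_nat h h
  simp [nrm, hn]

theorem nrm_irr {X : Type*} [Group X] [Fintype X] {χ : X → ℂ} (h : Cfsg.IsIrrCharacter X χ) :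
    nrm χ = 1 := by
  simp [nrm, Chars.classInner_self_irr h]

theorem conjFun_conjFun {X : Type*} (χ : X → ℂ) : Cfsg.conjFun (Cfsg.conjFun χ) = χ :=
  funext fun x => by simp [Cfsg.conjFun]

theorem deg_conjFun {X : Type*} [Group X] (χ : X → ℂ) : deg (Cfsg.conjFun χ) = deg χ := by
  simp [deg, Cfsg.conjFun]

/-- The weight of a finite set of characters. -/
noncomputable def weight (S : Finset (L → ℂ)) : ℝ := ∑ φ ∈ S, (deg φ : ℝ) ^ 2 / (nrm φ : ℝ)

theorem weight_mono {S T : Finset (L → ℂ)} (h : S ⊆ T) : weight S ≤ weight T :=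
  Finset.sum_le_sum_of_subset_of_nonneg h fun φ _ _ => by positivity

/-! ### Coherence systems -/

theorem system_restrict {S T : Set (L → ℂ)} {τ : (L → ℂ) → (G → ℂ)}
    {R : (L → ℂ) → Finset (G → ℂ)} (hS : Cfsg.IsCoherenceSystem S τ R) (hT : T ⊆ S)
    (hne : T.Nonempty) (hc : ∀ χ ∈ T, Cfsg.conjFun χ ∈ T) : Cfsg.IsCoherenceSystem T τ R where
  nonempty := hne
  isCharacter χ h := hS.isCharacter χ (hT h)
  conj_mem := hc
  conj_ne χ h := hS.conj_ne χ (hT h)
  isometry := isometryOn_mono hS.isometry (zspanOn_mono hT)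
  map_one α h := hS.map_one α (zspanOn_mono hT h)
  orthogonal χ h φ h' := hS.orthogonal χ (hT h) φ (hT h')
  orthonormal χ h := hS.orthonormal χ (hT h)
  virtual χ h := hS.virtual χ (hT h)
  sum_eq χ h := hS.sum_eq χ (hT h)
  disjoint χ h φ h' := hS.disjoint χ (hT h) φ (hT h')

theorem exists_zspanOn_ne_zero {S : Set (L → ℂ)} {τ : (L → ℂ) → (G → ℂ)}
    {R : (L → ℂ) → Finset (G → ℂ)} (hS : Cfsg.IsCoherenceSystem S τ R) :
    ∃ α ∈ Cfsg.zspanOn S {1}ᶜ, α ≠ 0 := by
  obtain ⟨χ, hχ⟩ := hS.nonempty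
  refine ⟨χ - Cfsg.conjFun χ, mem_zspanOn_one.mpr ⟨zspan_sub_mem (zspan_subset_apply hχ)
    (zspan_subset_apply (hS.conj_mem χ hχ)), ?_⟩, fun h => hS.conj_ne χ hχ (sub_eq_zero.mp h).symm⟩
  rw [Pi.sub_apply, conjFun_apply_one (hS.isCharacter χ hχ), sub_self]

theorem coherent_mono {S T : Set (L → ℂ)} {τ : (L → ℂ) → (G → ℂ)}
    (h : Cfsg.IsCoherent S {1}ᶜ τ) (hT : T ⊆ S) (hne : ∃ α ∈ Cfsg.zspanOn T {1}ᶜ, α ≠ 0) :
    Cfsg.IsCoherent T {1}ᶜ τ := by
  obtain ⟨τ₁, h1, h2⟩ := h.2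
  exact ⟨hne, τ₁, isometryOn_mono h1 (zspan_mono hT), fun α hα => h2 α (zspanOn_mono hT hα)⟩

theorem coherent_subsystem {S T : Set (L → ℂ)} {τ : (L → ℂ) → (G → ℂ)}
    {R : (L → ℂ) → Finset (G → ℂ)} (hS : Cfsg.IsCoherenceSystem T τ R)
    (h : Cfsg.IsCoherent S {1}ᶜ τ) (hT : T ⊆ S) : Cfsg.IsCoherent T {1}ᶜ τ :=
  coherent_mono h hT (exists_zspanOn_ne_zero hS)

section extend

variable {S : Set (L → ℂ)} {τ : (L → ℂ) → (G → ℂ)} {R : (L → ℂ) → Finset (G → ℂ)}

/-- Adjoining characters of small degree to a coherent set. -/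
theorem coherent_extend (hS : Cfsg.IsCoherenceSystem S τ R) (S₁ : Finset (L → ℂ))
    (hS₁ : ↑S₁ ⊆ S) (hS₁c : ∀ φ ∈ S₁, Cfsg.conjFun φ ∈ S₁)
    (hcoh : Cfsg.IsCoherent (↑S₁ : Set (L → ℂ)) {1}ᶜ τ) {χ₁ : L → ℂ} (hχ₁ : χ₁ ∈ S₁) :
    ∀ T : Finset (L → ℂ), (↑T ⊆ S) → (∀ φ ∈ T, Cfsg.conjFun φ ∈ T) →
      (∀ χ ∈ T, χ ∈ S₁ ∨ (deg χ₁ ∣ deg χ ∧ (2 * deg χ * deg χ₁ : ℝ) < weight S₁)) →
      Cfsg.IsCoherent (↑(S₁ ∪ T) : Set (L → ℂ)) {1}ᶜ τ := by
  intro T
  induction T using Finset.strongInductionOn with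
  | _ T ih =>
    intro hTS hTc hcond
    by_cases hsub : T ⊆ S₁
    · rwa [Finset.union_eq_left.mpr hsub]
    obtain ⟨χ, hχT, hχ1⟩ := Finset.not_subset.mp hsub
    set χc := Cfsg.conjFun χ with hχc
    set T' := (T.erase χ).erase χc with hT'
    have hlt : T' ⊂ T :=
      (Finset.erase_subset _ _).trans_ssubset (Finset.erase_ssubset hχT)
    have hT'S : (↑T' : Set (L → ℂ)) ⊆ S := fun x hx => hTS (hlt.1 hx)
    have hT'c : ∀ φ ∈ T', Cfsg.conjFun φ ∈ T' := by
      intro φ hφ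
      simp only [hT', Finset.mem_erase] at hφ ⊢
      refine ⟨fun h => hφ.2.1 ?_, fun h => hφ.1 ?_, hTc φ hφ.2.2⟩
      · rw [← conjFun_conjFun φ, h, hχc, conjFun_conjFun]
      · rw [← conjFun_conjFun φ, h]
    have hcoh' := ih T' hlt hT'S hT'c fun x hx => hcond x (hlt.1 hx)
    have hU : (↑(S₁ ∪ T') : Set (L → ℂ)) ⊆ S := by
      rw [Finset.coe_union]; exact Set.union_subset hS₁ hT'S
    have hUc : ∀ φ ∈ S₁ ∪ T', Cfsg.conjFun φ ∈ S₁ ∪ T' := fun φ hφ => by
      rcases Finset.mem_union.mp hφ with h | h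
      · exact Finset.mem_union_left _ (hS₁c φ h)
      · exact Finset.mem_union_right _ (hT'c φ h)
    have hcS₁ : χc ∉ S₁ := fun h => hχ1 (by rw [← conjFun_conjFun χ]; exact hS₁c _ h)
    have hnot : χ ∉ S₁ ∪ T' := by simp [hT', hχ1]
    have hcnot : χc ∉ S₁ ∪ T' := by simp [hT', hcS₁]
    obtain ⟨hdvd, hineq⟩ := (hcond χ hχT).resolve_left hχ1
    have h := S1516.result S τ R hS deg nrm (fun φ hφ => deg_spec (hS.isCharacter φ hφ))
      (fun φ hφ => nrm_spec (hS.isCharacter φ hφ)) (S₁ ∪ T') hU hUc hcoh' χ (hTS hχT) hnot hcnot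
      χ₁ (Finset.mem_union_left _ hχ₁) hdvd
      (lt_of_lt_of_le hineq (weight_mono Finset.subset_union_left))
    have he : (↑(S₁ ∪ T') ∪ {χ, χc} : Set (L → ℂ)) = ↑(S₁ ∪ T) := by
      have hcT : χc ∈ T := hTc χ hχT
      ext x
      simp only [Finset.coe_union, Set.mem_union, Finset.mem_coe, hT', Finset.mem_erase,
        Set.mem_insert_iff, Set.mem_singleton_iff]
      constructor
      · rintro ((h | h) | (h | h))
        · exact Or.inl h
        · exact Or.inr h.2.2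
        · exact Or.inr (h ▸ hχT)
        · exact Or.inr (h ▸ hcT)
      · tauto
    rwa [he] at h

/-- Coherence by increasing degree. -/
theorem coherent_by_degree (hS : Cfsg.IsCoherenceSystem S τ R) (F : Finset (L → ℂ))
    (hF : (↑F : Set (L → ℂ)) = S) {χ₁ : L → ℂ} (hχ₁ : χ₁ ∈ F)
    (hmin : ∀ φ ∈ F, deg χ₁ ∣ deg φ) (hpos : ∀ φ ∈ F, 0 < deg φ)
    (hineq : ∀ χ ∈ F, deg χ₁ < deg χ →
      (2 * deg χ * deg χ₁ : ℝ) < weight (F.filter fun φ => deg φ < deg χ)) :
    Cfsg.IsCoherent S {1}ᶜ τ := by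
  have hFc : ∀ φ ∈ F, Cfsg.conjFun φ ∈ F := fun φ hφ => by
    rw [← Finset.mem_coe, hF] at hφ ⊢
    exact hS.conj_mem φ hφ
  set lev : ℕ → Finset (L → ℂ) := fun f => F.filter fun φ => deg φ ≤ f with hlev
  have hsub : ∀ f, (↑(lev f) : Set (L → ℂ)) ⊆ S := fun f x hx => by
    rw [← hF]; exact Finset.filter_subset _ _ hx
  have hc : ∀ f, ∀ φ ∈ lev f, Cfsg.conjFun φ ∈ lev f := fun f φ hφ => by
    simp only [hlev, Finset.mem_filter] at hφ ⊢
    exact ⟨hFc φ hφ.1, by rw [deg_conjFun]; exact hφ.2⟩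
  have hbase : ∀ f, deg χ₁ ≤ f → χ₁ ∈ lev f := fun f hf => by simp [hlev, hχ₁, hf]
  have hstep : ∀ k, Cfsg.IsCoherent (↑(lev (deg χ₁ + k)) : Set (L → ℂ)) {1}ᶜ τ := by
    intro k
    induction k with
    | zero =>
      refine S1517.result _ τ R (system_restrict hS (hsub _) ⟨χ₁, hbase _ le_rfl⟩ (hc _)) ?_
      intro φ hφ ψ hψ
      simp only [Nat.add_zero, hlev, Finset.coe_filter, Set.mem_setOf_eq] at hφ hψ
      have h1 : deg φ = deg χ₁ := le_antisymm hφ.2 (Nat.le_of_dvd (hpos φ hφ.1) (hmin φ hφ.1))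
      have h2 : deg ψ = deg χ₁ := le_antisymm hψ.2 (Nat.le_of_dvd (hpos ψ hψ.1) (hmin ψ hψ.1))
      rw [deg_spec (hS.isCharacter φ (hF ▸ hφ.1)), deg_spec (hS.isCharacter ψ (hF ▸ hψ.1)), h1, h2]
    | succ k ih =>
      have h := coherent_extend hS _ (hsub _) (hc _) ih (hbase _ (Nat.le_add_right _ _))
        (lev (deg χ₁ + (k + 1))) (hsub _) (hc _) ?_
      · rwa [Finset.union_eq_right.mpr] at h
        intro x hx
        simp only [hlev, Finset.mem_filter] at hx ⊢
        exact ⟨hx.1, by omega⟩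
      · intro χ hχ
        simp only [hlev, Finset.mem_filter] at hχ
        by_cases hle : deg χ ≤ deg χ₁ + k
        · left; simp [hlev, hχ.1, hle]
        · right
          refine ⟨hmin χ hχ.1, ?_⟩
          have he : F.filter (fun φ => deg φ < deg χ) = lev (deg χ₁ + k) :=
            Finset.filter_congr fun φ _ => by omega
          rw [← he]
          exact hineq χ hχ.1 (by omega)
  have hmax : lev (deg χ₁ + F.sup deg) = F :=
    Finset.filter_true_of_mem fun φ hφ => le_trans (Finset.le_sup hφ) (Nat.le_add_left _ _)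
  have h := hstep (F.sup deg)
  rwa [hmax, hF] at h

end extend

/-! ### Irreducible characters trivial on a normal subgroup -/

theorem sum_sq_trivial_on {K : Type*} [Group K] [Fintype K] (M : Subgroup K) [M.Normal] :
    ∑ θ ∈ (Finset.univ : Finset (Cfsg.IrrCharacter K)).filter
        (fun θ : Cfsg.IrrCharacter K => ∀ m ∈ M, (θ : K → ℂ) m = (θ : K → ℂ) 1),
      (deg (θ : K → ℂ) : ℝ) ^ 2 = M.index := by
  have hzero : ∀ θ : Cfsg.IrrCharacter K, ¬ (∀ m ∈ M, (θ : K → ℂ) m = (θ : K → ℂ) 1) →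
      ∑ m : M, (θ : K → ℂ) m = 0 := by
    intro θ hθ
    by_contra hne
    apply hθ
    intro m hm
    have hcon : Cfsg.classInner (fun n : M => (θ : K → ℂ) n) (fun _ => 1) ≠ 0 := by
      rw [Chars.classInner_def]
      exact mul_ne_zero (inv_ne_zero (Chars.subgroup_card_ne_zero M)) (by simpa using hne)
    have hinv : Chars2.inertiaSub (fun _ : M => (1 : ℂ)) = ⊤ :=
      top_unique fun g _ => Chars2.mem_inertiaSub.mpr (funext fun n => by simp [Chars2.conjFun])
    have h := Chars2.clifford_invariant θ.2 Chars.isIrrCharacter_one hinv hcon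
    rw [show (θ : K → ℂ) m = (θ : K → ℂ) ((⟨m, hm⟩ : M) : K) from rfl, h ⟨m, hm⟩,
      show (θ : K → ℂ) 1 = (θ : K → ℂ) ((1 : M) : K) from rfl, h 1]
  have h1 : ∀ m : M, ∑ θ : Cfsg.IrrCharacter K, (θ : K → ℂ) 1 * conj ((θ : K → ℂ) m) =
      if m = 1 then (Nat.card K : ℂ) else 0 := by
    intro m
    rw [Chars.column_orth]
    by_cases hm : m = 1
    · subst hm
      rw [OneMemClass.coe_one, if_pos (IsConj.refl _), if_pos rfl,
        show Subgroup.centralizer ({(1 : K)} : Set K) = ⊤ from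
          top_unique fun y _ => Subgroup.mem_centralizer_singleton_iff.mpr (by simp),
        Subgroup.card_top]
    · rw [if_neg, if_neg hm]
      intro hc
      exact hm (Subtype.ext (isConj_one_right.mp hc))
  have h2 : ∑ m : M, ∑ θ : Cfsg.IrrCharacter K, (θ : K → ℂ) 1 * conj ((θ : K → ℂ) m) =
      (Nat.card K : ℂ) := by
    simp only [h1, Finset.sum_ite_eq', Finset.mem_univ, if_true]
  rw [Finset.sum_comm] at h2
  simp only [← Finset.mul_sum, ← map_sum] at h2
  rw [← Finset.sum_filter_add_sum_filter_not Finset.univ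
    (fun θ : Cfsg.IrrCharacter K => ∀ m ∈ M, (θ : K → ℂ) m = (θ : K → ℂ) 1),
    Finset.sum_eq_zero (s := Finset.filter (fun θ : Cfsg.IrrCharacter K =>
      ¬ ∀ m ∈ M, (θ : K → ℂ) m = (θ : K → ℂ) 1) _) (fun θ hθ => by
      rw [hzero θ (Finset.mem_filter.mp hθ).2, map_zero, mul_zero]), add_zero] at h2
  rw [Finset.sum_congr rfl (g := fun θ : Cfsg.IrrCharacter K =>
    (Nat.card M : ℂ) * (deg (θ : K → ℂ) : ℂ) ^ 2) (fun θ hθ => ?_), ← Finset.mul_sum,
    ← M.card_mul_index, Nat.cast_mul] at h2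
  · have h3 := mul_left_cancel₀ (Chars.subgroup_card_ne_zero M) h2
    exact_mod_cast h3
  · rw [Finset.sum_congr rfl (fun (m : M) _ => (Finset.mem_filter.mp hθ).2 (m : K) m.2),
      deg_spec (Chars.irr_isCharacter θ), Finset.sum_const, Finset.card_univ,
      ← Nat.card_eq_fintype_card, nsmul_eq_mul]
    simp
    ring

theorem irr_deg_one_of_commutator_le {K : Type*} [Group K] [Fintype K] {θ : K → ℂ}
    (hθ : Cfsg.IsIrrCharacter K θ) (h : ∀ m ∈ commutator K, θ m = θ 1) : deg θ = 1 := by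
  have hb := S1492.result θ hθ (commutator K) ⊤ ⊤ le_top le_rfl
    (fun c _ b hb => (inferInstance : (commutator K).Normal).conj_mem b hb c)
    (fun d _ c _ => Subgroup.commutator_mem_commutator (Subgroup.mem_top d) (Subgroup.mem_top c)) h
  rw [deg_spec (Chars.isCharacter_of_isIrr hθ), Subgroup.card_top, Complex.norm_natCast] at hb
  have hK : (0 : ℝ) < (Nat.card K : ℝ) ^ 2 := by
    have : 0 < Nat.card K := Nat.card_pos
    positivity
  have h1 : (deg θ : ℝ) ^ 2 ≤ 1 :=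
    le_of_mul_le_mul_right (by linarith [mul_assoc ((deg θ : ℝ) ^ 2) (Nat.card K : ℝ) (Nat.card K : ℝ)]) hK
  have h2 : deg θ ^ 2 ≤ 1 := by exact_mod_cast h1
  have := deg_pos_irr hθ
  nlinarith

theorem trivial_on_commutator_of_deg_one {K : Type*} [Group K] [Fintype K] {θ : K → ℂ}
    (hθ : Cfsg.IsIrrCharacter K θ) (h : deg θ = 1) : ∀ m ∈ commutator K, θ m = θ 1 := by
  have h1 : θ 1 = 1 := by rw [deg_spec (Chars.isCharacter_of_isIrr hθ), h, Nat.cast_one]
  obtain ⟨f, rfl⟩ := Chars.exists_hom_of_degree_one (Chars.isCharacter_of_isIrr hθ) h1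
  intro m hm
  have := Abelianization.commutator_subset_ker f hm
  simp only [MonoidHom.mem_ker] at this
  simp [this]

/-! ### The induced sets -/

section induced

variable (K : Subgroup L) [hK : K.Normal]

/-- The irreducible non-principal characters of `K` trivial on `A ⊓ K`. -/
noncomputable def aboveSet (A : Subgroup L) : Finset (Cfsg.IrrCharacter K) :=
  Finset.univ.filter fun θ : Cfsg.IrrCharacter K =>
    (θ : K → ℂ) ≠ (fun _ => 1) ∧ ∀ a : K, (a : L) ∈ A → (θ : K → ℂ) a = (θ : K → ℂ) 1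

/-- The induced characters, as a finset. -/
noncomputable def indSet (Θ : Finset (Cfsg.IrrCharacter K)) : Finset (L → ℂ) :=
  Θ.image fun θ : Cfsg.IrrCharacter K => Cfsg.indFun K (θ : K → ℂ)

theorem coe_indSet_aboveSet (A : Subgroup L) :
    (↑(indSet K (aboveSet K A)) : Set (L → ℂ)) = Cfsg.inducedIrrAbove K A := by
  ext φ
  simp only [indSet, aboveSet, Finset.coe_image, Set.mem_image, Finset.mem_coe, Finset.mem_filter,
    Finset.mem_univ, true_and, Cfsg.inducedIrrAbove, Set.mem_setOf_eq]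
  constructor
  · rintro ⟨θ, ⟨h1, h2⟩, rfl⟩; exact ⟨θ, θ.2, h1, h2, rfl⟩
  · rintro ⟨θ, hθ, h1, h2, rfl⟩; exact ⟨⟨θ, hθ⟩, ⟨h1, h2⟩, rfl⟩

theorem indFun_conjFun (θ : K → ℂ) :
    Cfsg.indFun K (Cfsg.conjFun θ) = Cfsg.conjFun (Cfsg.indFun K θ) := by
  funext x
  by_cases hx : x ∈ K
  · simp only [Cfsg.conjFun]
    rw [show x = ((⟨x, hx⟩ : K) : L) from rfl, res_indFun, res_indFun, map_mul, map_inv₀,
      map_natCast, map_sum]
    rfl
  · simp only [Cfsg.conjFun]
    rw [Chars.indFun_of_not_mem_normal _ _ hx, Chars.indFun_of_not_mem_normal _ _ hx, map_zero]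

theorem indAbove_conj_mem (A : Subgroup L) {φ : L → ℂ} (h : φ ∈ Cfsg.inducedIrrAbove K A) :
    Cfsg.conjFun φ ∈ Cfsg.inducedIrrAbove K A := by
  obtain ⟨θ, hθ, h1, h2, rfl⟩ := h
  refine ⟨Cfsg.conjFun θ, Chars.isIrrCharacter_star hθ, fun h => h1 ?_, fun a ha => ?_,
    (indFun_conjFun K θ).symm⟩
  · rw [← conjFun_conjFun θ, h]; funext x; simp [Cfsg.conjFun]
  · simp only [Cfsg.conjFun, h2 a ha]

theorem indAbove_mono {A B : Subgroup L} (h : ∀ a ∈ K, a ∈ A → a ∈ B) :
    Cfsg.inducedIrrAbove K B ⊆ Cfsg.inducedIrrAbove K A := by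
  rintro φ ⟨θ, hθ, h1, h2, rfl⟩
  exact ⟨θ, hθ, h1, fun a ha => h2 a (h a a.2 ha), rfl⟩

theorem indAbove_subset_bot (A : Subgroup L) :
    Cfsg.inducedIrrAbove K A ⊆ Cfsg.inducedIrrAbove K ⊥ :=
  indAbove_mono K fun a _ ha => by rw [Subgroup.mem_bot.mp ha]; exact A.one_mem

theorem deg_indFun {θ : K → ℂ} (hθ : Cfsg.IsCharacter K θ) :
    deg (Cfsg.indFun K θ) = K.index * deg θ := by
  have h := Chars.indFun_apply_one K θ
  rw [deg_spec hθ] at h
  rw [deg, h]
  have : ((K.index : ℂ) * (deg θ : ℂ)) = ((K.index * deg θ : ℕ) : ℂ) := by push_cast; ring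
  rw [this, Complex.natCast_re, Nat.floor_natCast]

theorem indFun_eq_of_constituent {θ θ' : K → ℂ} (hθ' : Cfsg.IsIrrCharacter K θ')
    (hθ : Cfsg.IsIrrCharacter K θ)
    (h : Cfsg.classInner (fun k : K => Cfsg.indFun K θ k) θ' ≠ 0) :
    Cfsg.indFun K θ' = Cfsg.indFun K θ := by
  rw [res_indFun_orbit, Chars.classInner_smul_left, Chars.classInner_sum_left] at h
  obtain ⟨ψ, hψ, hne⟩ := Finset.exists_ne_zero_of_sum_ne_zero (right_ne_zero_of_mul h)
  obtain ⟨g, -, rfl⟩ := Finset.mem_image.mp hψ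
  have he : cj θ g = θ' := by
    by_contra hd
    exact hne (Chars.classInner_irr_of_ne (isIrr_cj hθ g) hθ' hd)
  rw [← he, indFun_cj]

/-- Saturation under taking characters with the same induced character. -/
def Saturated (Θ : Finset (Cfsg.IrrCharacter K)) : Prop :=
  ∀ θ ∈ Θ, ∀ θ' : Cfsg.IrrCharacter K,
    Cfsg.indFun K (θ' : K → ℂ) = Cfsg.indFun K (θ : K → ℂ) → θ' ∈ Θ

/-- The weight of an induced set. -/
theorem weight_indSet (Θ : Finset (Cfsg.IrrCharacter K)) (hΘ : Saturated K Θ) :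
    weight (indSet K Θ) = K.index * ∑ θ ∈ Θ, (deg (θ : K → ℂ) : ℝ) ^ 2 := by
  rw [weight, Finset.mul_sum,
    ← Finset.sum_fiberwise_of_maps_to (s := Θ) (t := indSet K Θ)
      (g := fun θ : Cfsg.IrrCharacter K => Cfsg.indFun K (θ : K → ℂ))
      (fun θ hθ => Finset.mem_image_of_mem _ hθ)]
  refine Finset.sum_congr rfl fun φ hφ => ?_
  obtain ⟨θ, hθ, rfl⟩ := Finset.mem_image.mp hφ
  set φ := Cfsg.indFun K (θ : K → ℂ) with hφdef
  have hφc : Cfsg.IsCharacter L φ := Chars.isCharacter_indFun K (Chars.irr_isCharacter θ)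
  have hres := Chars.isClassFunction_of_isCharacter (Chars.isCharacter_restrict hφc K)
  have hval := Chars2.apply_eq_sum hres (1 : K)
  have hco : ∀ θ' : Cfsg.IrrCharacter K,
      Cfsg.classInner (fun k : K => φ k) (θ' : K → ℂ) =
        if Cfsg.indFun K (θ' : K → ℂ) = φ then (nrm φ : ℂ) else 0 := by
    intro θ'
    split_ifs with he
    · rw [← Chars.classInner_indFun_right K (θ' : K → ℂ)
        (Chars.isClassFunction_of_isCharacter hφc), he, nrm_spec hφc]
    · by_contra hne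
      exact he (indFun_eq_of_constituent K θ'.2 θ.2 hne)
  simp only [hco, ite_mul, zero_mul, ← Finset.sum_filter] at hval
  have hfil : (Finset.univ : Finset (Cfsg.IrrCharacter K)).filter
      (fun θ' : Cfsg.IrrCharacter K => Cfsg.indFun K (θ' : K → ℂ) = φ) =
      Θ.filter (fun θ' : Cfsg.IrrCharacter K => Cfsg.indFun K (θ' : K → ℂ) = φ) := by
    ext θ'
    simp only [Finset.mem_filter, Finset.mem_univ, true_and]
    exact ⟨fun h => ⟨hΘ θ hθ θ' h, h⟩, fun h => h.2⟩
  rw [hfil, show ((1 : K) : L) = 1 from rfl] at hval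
  set F := Θ.filter (fun θ' : Cfsg.IrrCharacter K => Cfsg.indFun K (θ' : K → ℂ) = φ) with hF
  have hdeg : ∀ θ' ∈ F, deg (θ' : K → ℂ) * K.index = deg φ := by
    intro θ' h'
    rw [← (Finset.mem_filter.mp h').2, deg_indFun K (Chars.irr_isCharacter θ'), mul_comm]
  have hnat : deg φ = ∑ θ' ∈ F, nrm φ * deg (θ' : K → ℂ) := by
    rw [deg_spec hφc, Finset.sum_congr rfl (fun θ' _ => by
      rw [deg_spec (Chars.irr_isCharacter θ')])] at hval
    exact_mod_cast hval
  have hθF : θ ∈ F := Finset.mem_filter.mpr ⟨hθ, rfl⟩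
  have hn : nrm φ ≠ 0 := by
    intro h0
    rw [h0] at hnat
    simp only [zero_mul, Finset.sum_const_zero] at hnat
    rw [← hdeg θ hθF] at hnat
    exact Nat.mul_ne_zero (deg_pos_irr θ.2).ne' Subgroup.index_ne_zero_of_finite hnat
  have h2 : deg φ * deg φ = nrm φ * ∑ θ' ∈ F, K.index * deg (θ' : K → ℂ) ^ 2 := by
    conv_lhs => arg 1; rw [hnat]
    rw [Finset.sum_mul, Finset.mul_sum]
    refine Finset.sum_congr rfl fun θ' h' => ?_
    rw [← hdeg θ' h']
    ring
  rw [div_eq_iff (by exact_mod_cast hn)]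
  have h3 := congrArg (fun n : ℕ => (n : ℝ)) h2
  push_cast at h3
  rw [sq, h3]
  ring

theorem aboveSet_saturated (A : Subgroup L) [A.Normal] (hA : A ≤ K) :
    Saturated K (aboveSet K A) := by
  intro θ hθ θ' h
  simp only [aboveSet, Finset.mem_filter, Finset.mem_univ, true_and] at hθ ⊢
  have hcon : Cfsg.classInner (fun k : K => Cfsg.indFun K (θ : K → ℂ) k) (θ' : K → ℂ) ≠ 0 := by
    have hc := Chars.isCharacter_indFun K (Chars.irr_isCharacter θ')
    rw [← h, ← Chars.classInner_indFun_right K (θ' : K → ℂ)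
      (Chars.isClassFunction_of_isCharacter hc)]
    refine classInner_self_ne_zero fun h0 => ?_
    have := congrFun h0 1
    rw [Chars.indFun_apply_one, deg_spec (Chars.irr_isCharacter θ')] at this
    simp [Subgroup.index_ne_zero_of_finite, (deg_pos_irr θ'.2).ne'] at this
  rw [res_indFun_orbit, Chars.classInner_smul_left, Chars.classInner_sum_left] at hcon
  obtain ⟨ψ, hψ, hne⟩ := Finset.exists_ne_zero_of_sum_ne_zero (right_ne_zero_of_mul hcon)
  obtain ⟨g, -, rfl⟩ := Finset.mem_image.mp hψ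
  have he : cj (θ : K → ℂ) g = (θ' : K → ℂ) := by
    by_contra hd
    exact hne (Chars.classInner_irr_of_ne (isIrr_cj θ.2 g) θ'.2 hd)
  rw [← he]
  refine ⟨fun h1 => hθ.1 ?_, fun a ha => ?_⟩
  · rw [← cj_one (θ : K → ℂ), ← mul_inv_cancel g, ← cj_cj, h1]
    rfl
  · unfold cj
    rw [hθ.2 _ ((inferInstance : A.Normal).conj_mem _ ha g)]
    exact congrArg _ (Subtype.ext (by simp))

theorem weight_indAbove (A : Subgroup L) [A.Normal] (hA : A ≤ K) :
    weight (indSet K (aboveSet K A)) = K.index * ((A.relIndex K : ℝ) - 1) := by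
  rw [weight_indSet K _ (aboveSet_saturated K A hA)]
  congr 1
  haveI : (A.subgroupOf K).Normal := Subgroup.normal_subgroupOf
  have h := sum_sq_trivial_on (A.subgroupOf K)
  have he : (Finset.univ : Finset (Cfsg.IrrCharacter K)).filter
      (fun θ : Cfsg.IrrCharacter K => ∀ m ∈ A.subgroupOf K, (θ : K → ℂ) m = (θ : K → ℂ) 1) =
      insert (⟨fun _ => 1, Chars.isIrrCharacter_one⟩ : Cfsg.IrrCharacter K) (aboveSet K A) := by
    ext θ
    simp only [aboveSet, Finset.mem_insert, Finset.mem_filter, Finset.mem_univ, true_and,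
      Subgroup.mem_subgroupOf, Subtype.ext_iff]
    constructor
    · intro h
      by_cases h1 : (θ : K → ℂ) = fun _ => 1
      · exact Or.inl h1
      · exact Or.inr ⟨h1, h⟩
    · rintro (h | h)
      · intro a _; rw [h]
      · exact h.2
  rw [he, Finset.sum_insert (by simp [aboveSet])] at h
  have h1 : deg (fun _ : K => (1 : ℂ)) = 1 := by simp [deg]
  rw [h1] at h
  rw [Subgroup.relIndex]
  push_cast at h
  linarith

theorem exists_linear_above (hsolv : Group.IsSolvable K) (A : Subgroup L) [A.Normal]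
    (hAK : A < K) : ∃ φ ∈ Cfsg.inducedIrrAbove K A, deg φ = K.index := by
  haveI : (A.subgroupOf K).Normal := Subgroup.normal_subgroupOf
  set M := A.subgroupOf K ⊔ commutator K with hM
  haveI := hsolv
  have hMt : M ≠ ⊤ := by
    intro ht
    haveI : Nontrivial (K ⧸ A.subgroupOf K) := by
      rw [QuotientGroup.nontrivial_iff, Ne, Subgroup.subgroupOf_eq_top]
      exact fun h => hAK.not_ge h
    haveI : Group.IsSolvable (K ⧸ A.subgroupOf K) := inferInstance
    refine (Group.IsSolvable.commutator_lt_top_of_nontrivial (K ⧸ A.subgroupOf K)).ne ?_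
    have h := congrArg (Subgroup.map (QuotientGroup.mk' (A.subgroupOf K))) ht
    rw [hM, Subgroup.map_sup, QuotientGroup.map_mk'_self, bot_sup_eq,
      Subgroup.map_top_of_surjective _ (QuotientGroup.mk'_surjective _), commutator_def,
      Subgroup.map_commutator, Subgroup.map_top_of_surjective _ (QuotientGroup.mk'_surjective _),
      ← commutator_def] at h
    exact h
  obtain ⟨θ, hθ, hne⟩ : ∃ θ ∈ (Finset.univ : Finset (Cfsg.IrrCharacter K)).filter
      (fun θ : Cfsg.IrrCharacter K => ∀ m ∈ M, (θ : K → ℂ) m = (θ : K → ℂ) 1), (θ : K → ℂ) ≠ fun _ => 1 := by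
    by_contra hno
    push Not at hno
    have h := sum_sq_trivial_on M
    have hsub : (Finset.univ : Finset (Cfsg.IrrCharacter K)).filter
        (fun θ : Cfsg.IrrCharacter K => ∀ m ∈ M, (θ : K → ℂ) m = (θ : K → ℂ) 1) =
        {(⟨fun _ => 1, Chars.isIrrCharacter_one⟩ : Cfsg.IrrCharacter K)} := by
      refine Finset.eq_singleton_iff_unique_mem.mpr ⟨by simp, fun θ hθ => Subtype.ext (hno θ hθ)⟩
    rw [hsub, Finset.sum_singleton] at h
    simp [deg] at h
    exact hMt (Subgroup.index_eq_one.mp (by exact_mod_cast h.symm))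
  refine ⟨Cfsg.indFun K (θ : K → ℂ), ⟨θ, θ.2, hne, fun a ha => ?_, rfl⟩, ?_⟩
  · exact (Finset.mem_filter.mp hθ).2 a (Subgroup.mem_sup_left ha)
  · rw [deg_indFun K (Chars.irr_isCharacter θ), irr_deg_one_of_commutator_le θ.2
      (fun m hm => (Finset.mem_filter.mp hθ).2 m (Subgroup.mem_sup_right hm)), mul_one]

end induced

end Cfsg.Agent.OddChar
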