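import Mathlib.GroupTheory.Nilpotent
import Mathlib.GroupTheory.Abelianization.Finite
import Mathlib.GroupTheory.GroupAction.Quotient
import Mathlib.GroupTheory.PGroup
import Mathlib.GroupTheory.SpecificGroups.Cyclic

/-!
Counting for a group acting freely on a normal section, and nilpotent groups with cyclic
abelianisation.
-/

set_option autoImplicit false

open scoped Classical

namespace Cfsg.Agent.OddChar

/-- If the centralizer of every nonidentity element of `N` is `K`, the index of `K` divides
`|N| - 1`. -/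
theorem index_dvd_card_sub_one {Q : Type*} [Group Q] [Finite Q] (N K : Subgroup Q) [hN : N.Normal]
    (hcen : ∀ n ∈ N, n ≠ 1 → ∀ x : Q, (x * n * x⁻¹ = n ↔ x ∈ K)) :
    K.index ∣ Nat.card N - 1 := by
  let X := {n : Q // n ∈ N ∧ n ≠ 1}
  letI : MulAction Q X :=
    { smul := fun x n => ⟨x * n.1 * x⁻¹, hN.conj_mem _ n.2.1 x, fun h => n.2.2 (conj_eq_one_iff.mp h)⟩
      one_smul := fun n => Subtype.ext (by show (1 : Q) * n.1 * (1 : Q)⁻¹ = n.1; simp)
      mul_smul := fun x y n => Subtype.ext (by
        show x * y * n.1 * (x * y)⁻¹ = x * (y * n.1 * y⁻¹) * x⁻¹; group) }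
  have hstab : ∀ n : X, MulAction.stabilizer Q n = K := fun n => by
    ext x
    rw [MulAction.mem_stabilizer_iff, Subtype.ext_iff]
    exact hcen n.1 n.2.1 n.2.2 x
  have hX : Nat.card X = Nat.card N - 1 := by
    have h1 : Nat.card X = Nat.card {n : N // n ≠ 1} := Nat.card_congr
      { toFun := fun n => ⟨⟨n.1, n.2.1⟩, fun h => n.2.2 (congrArg Subtype.val h)⟩
        invFun := fun n => ⟨n.1.1, n.1.2, fun h => n.2 (Subtype.ext h)⟩
        left_inv := fun n => rfl
        right_inv := fun n => rfl }
    haveI := Fintype.ofFinite N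
    rw [h1, Nat.card_eq_fintype_card, Nat.card_eq_fintype_card]
    simp only [ne_eq, Fintype.card_subtype_compl, Fintype.card_subtype_eq]
  rw [← hX, Nat.card_congr (MulAction.selfEquivSigmaOrbitsQuotientStabilizer Q X)]
  haveI : Finite (MulAction.orbitRel.Quotient Q X) := Quotient.finite _
  haveI := Fintype.ofFinite (MulAction.orbitRel.Quotient Q X)
  rw [Nat.card_sigma]
  exact Finset.dvd_sum fun ω _ => by rw [hstab, Subgroup.index]

/-- The section form of `index_dvd_card_sub_one`. -/
theorem index_dvd_relIndex_sub_one {L : Type*} [Group L] [Finite L] (H N K : Subgroup L) [H.Normal]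
    [N.Normal] (hHN : H ≤ N) (hNK : N ≤ K) (hab : ⁅K, K⁆ ≤ H)
    (hfrob : ∀ k ∈ N, k ∉ H → ∀ x : L, x * k * x⁻¹ * k⁻¹ ∈ H → x ∈ K) :
    K.index ∣ H.relIndex N - 1 := by
  have hsurj := QuotientGroup.mk'_surjective H
  haveI : (N.map (QuotientGroup.mk' H)).Normal := Subgroup.Normal.map inferInstance _ hsurj
  have h := index_dvd_card_sub_one (N.map (QuotientGroup.mk' H)) (K.map (QuotientGroup.mk' H)) ?_
  · rw [Subgroup.index_map_eq K hsurj (by rw [QuotientGroup.ker_mk']; exact hHN.trans hNK)] at h
    rwa [← Subgroup.relIndex_ker, QuotientGroup.ker_mk'] at h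
  · rintro _ ⟨k, hk, rfl⟩ hk1 x
    obtain ⟨x, rfl⟩ := hsurj x
    have hkH : k ∉ H := fun h => hk1 ((QuotientGroup.eq_one_iff k).mpr h)
    have hiff : QuotientGroup.mk' H x * QuotientGroup.mk' H k * (QuotientGroup.mk' H x)⁻¹ =
        QuotientGroup.mk' H k ↔ x * k * x⁻¹ * k⁻¹ ∈ H := by
      rw [← mul_inv_eq_one, ← map_inv, ← map_mul, ← map_mul, ← map_inv, ← map_mul]
      exact QuotientGroup.eq_one_iff _
    rw [hiff]
    constructor
    · exact fun h => Subgroup.mem_map_of_mem _ (hfrob k hk hkH x h)
    · rintro ⟨y, hy, hyx⟩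
      have hc : y * k * y⁻¹ * k⁻¹ ∈ H := hab (Subgroup.commutator_mem_commutator hy (hNK hk))
      rw [← hiff, ← hyx]
      rw [← mul_inv_eq_one, ← map_inv, ← map_mul, ← map_mul, ← map_inv, ← map_mul]
      exact (QuotientGroup.eq_one_iff _).mpr hc

theorem abelianizationOf_surj {G : Type*} [Group G] :
    Function.Surjective (Abelianization.of : G →* Abelianization G) := fun y =>
  QuotientGroup.mk_surjective y

/-- A nilpotent group with cyclic abelianisation is commutative. -/
theorem comm_of_cyclic_abelianization (Q : Type*) [Group Q] [Group.IsNilpotent Q] :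
    IsCyclic (Abelianization Q) → ∀ a b : Q, a * b = b * a := by
  refine Group.nilpotent_center_quotient_ind
    (P := fun G _ _ => IsCyclic (Abelianization G) → ∀ a b : G, a * b = b * a) Q ?_ ?_
  · intro G _ _ _ a b; exact Subsingleton.elim _ _
  · intro G _ _ ih hc
    haveI := hc
    have hs : Function.Surjective (Abelianization.map (QuotientGroup.mk' (Subgroup.center G))) := by
      intro y
      obtain ⟨q, rfl⟩ := abelianizationOf_surj y
      obtain ⟨g, rfl⟩ := QuotientGroup.mk'_surjective _ q
      exact ⟨Abelianization.of g, by simp⟩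
    have hq := ih (isCyclic_of_surjective _ hs)
    have hle : commutator G ≤ Subgroup.center G := by
      rw [commutator_def, Subgroup.commutator_le]
      intro x _ y _
      rw [← QuotientGroup.eq_one_iff, commutatorElement_def]
      simp only [QuotientGroup.mk_mul, QuotientGroup.mk_inv, hq (x : G ⧸ Subgroup.center G) y]
      group
    intro a b
    exact commutative_of_cyclic_center_quotient (Abelianization.of : G →* Abelianization G)
      (by rw [Abelianization.ker_of]; exact hle) a b

/-- In a finite nilpotent group every prime divisor of the order divides that of the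
abelianisation. -/
theorem prime_dvd_card_abelianization {Q : Type*} [Group Q] [Finite Q] [hQ : Group.IsNilpotent Q]
    {r : ℕ} [hr : Fact r.Prime] (h : r ∣ Nat.card Q) : r ∣ Nat.card (Abelianization Q) := by
  have hn : ∀ {p : ℕ} [Fact p.Prime] (P : Sylow p Q), P.Normal :=
    fun {p} hp P =>
    (((Group.isNilpotent_of_finite_tfae (G := Q)).out 0 3 :
      Group.IsNilpotent Q ↔ ∀ (q : ℕ) (_hq : Fact q.Prime) (R : Sylow q Q), (R : Subgroup Q).Normal).mp hQ) p hp P
  let e := Sylow.directProductOfNormal hn
  have hmem : r ∈ (Nat.card Q).primeFactors :=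
    Nat.mem_primeFactors.mpr ⟨hr.out, h, Nat.card_pos.ne'⟩
  obtain ⟨R⟩ := (inferInstance : Nonempty (Sylow r Q))
  let f : Q →* R :=
    ((Pi.evalMonoidHom (fun P : Sylow r Q => ↥P) R).comp
      (Pi.evalMonoidHom (fun p : (Nat.card Q).primeFactors => ∀ P : Sylow p Q, ↥P) ⟨r, hmem⟩)).comp
      e.symm.toMonoidHom
  have hf : Function.Surjective f := by
    intro x
    refine ⟨e (Function.update 1 ⟨r, hmem⟩ (Function.update 1 R x)), ?_⟩
    simp [f]
  have hm : Function.Surjective (Abelianization.map f) := by
    intro y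
    obtain ⟨q, rfl⟩ := abelianizationOf_surj y
    obtain ⟨g, rfl⟩ := hf q
    exact ⟨Abelianization.of g, by simp⟩
  refine dvd_trans ?_ (Subgroup.card_dvd_of_surjective _ hm)
  haveI : Nontrivial R := by
    rw [← Finite.one_lt_card_iff_nontrivial]
    exact lt_of_lt_of_le hr.out.one_lt (Nat.le_of_dvd Nat.card_pos (R.dvd_card_of_dvd_card h))
  haveI : Group.IsNilpotent R := R.isPGroup'.isNilpotent
  have hne : Nontrivial (Abelianization R) := by
    by_contra hc
    rw [not_nontrivial_iff_subsingleton] at hc
    exact (Group.IsSolvable.commutator_lt_top_of_nontrivial R).ne (top_unique fun x _ => by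
      rw [← Abelianization.ker_of, MonoidHom.mem_ker]
      exact Subsingleton.elim _ _)
  obtain ⟨k, hk⟩ := IsPGroup.iff_card.mp
    (R.isPGroup'.of_surjective _ (abelianizationOf_surj (G := R)))
  rw [hk]
  refine dvd_pow_self r fun h0 => ?_
  rw [h0, pow_zero] at hk
  have := Finite.one_lt_card_iff_nontrivial.mpr hne
  omega

end Cfsg.Agent.OddChar
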