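import Cfsg.Agent.OddChar.Virtual

/-!
Irreducible characters up to sign.
-/

set_option autoImplicit false
set_option linter.unusedSectionVars false

namespace Cfsg.Agent.OddChar

universe u

variable {G : Type u} [Group G]

/-- Plus or minus an irreducible character. -/
def IsSigned (α : G → ℂ) : Prop := Cfsg.IsIrrCharacter G α ∨ Cfsg.IsIrrCharacter G (-α)

theorem IsSigned.virt {α : G → ℂ} (h : IsSigned α) : Cfsg.IsGeneralizedCharacter G α := by
  rcases h with h | h
  · exact virt_of_irr h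
  · simpa using virt_neg (virt_of_irr h)

theorem IsSigned.neg {α : G → ℂ} (h : IsSigned α) : IsSigned (-α) := by
  rcases h with h | h
  · right; rwa [neg_neg]
  · exact Or.inl h

theorem IsSigned.apply_one_ne_zero {α : G → ℂ} (h : IsSigned α) : α 1 ≠ 0 := by
  rcases h with h | h
  · exact Chars.irr_apply_one_ne_zero h
  · have := Chars.irr_apply_one_ne_zero h
    simpa using this

variable [Fintype G]

theorem IsSigned.norm {α : G → ℂ} (h : IsSigned α) : Cfsg.classInner α α = 1 := by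
  rcases h with h | h
  · exact Chars.classInner_self_irr h
  · have := Chars.classInner_self_irr h
    rwa [Chars.classInner_neg_left, ← Chars.classInner_conj_symm, Chars.classInner_neg_left,
      map_neg, neg_neg, Chars.classInner_conj_symm] at this

theorem IsSigned.inner_cases {α β : G → ℂ} (hα : IsSigned α) (hβ : IsSigned β) :
    Cfsg.classInner α β = 0 ∨ ∃ ε : ℂ, (ε = 1 ∨ ε = -1) ∧ α = ε • β ∧ Cfsg.classInner α β = ε := by
  obtain ⟨a, ha, e, he, hae⟩ : ∃ a, Cfsg.IsIrrCharacter G a ∧ ∃ e : ℂ, (e = 1 ∨ e = -1) ∧ α = e • a := by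
    rcases hα with h | h
    · exact ⟨α, h, 1, Or.inl rfl, (one_smul _ _).symm⟩
    · exact ⟨-α, h, -1, Or.inr rfl, by simp⟩
  obtain ⟨b, hb, f, hf, hbf⟩ : ∃ b, Cfsg.IsIrrCharacter G b ∧ ∃ f : ℂ, (f = 1 ∨ f = -1) ∧ β = f • b := by
    rcases hβ with h | h
    · exact ⟨β, h, 1, Or.inl rfl, (one_smul _ _).symm⟩
    · exact ⟨-β, h, -1, Or.inr rfl, by simp⟩
  by_cases hab : a = b
  · subst hab
    right
    refine ⟨e * f, ?_, ?_, ?_⟩
    · rcases he with rfl | rfl <;> rcases hf with rfl | rfl <;> simp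
    · rw [hae, hbf, smul_smul]; congr 1
      rcases hf with rfl | rfl <;> ring
    · rw [hae, hbf, Chars.classInner_smul_left, Chars.classInner_smul_right,
        Chars.classInner_self_irr ha]
      rcases hf with rfl | rfl <;> simp
  · left
    rw [hae, hbf, Chars.classInner_smul_left, Chars.classInner_smul_right,
      Chars.classInner_irr_of_ne ha hb hab, mul_zero, mul_zero]

/-- If `s α - t β` is orthogonal to `u γ - v δ`, both of degree zero, then `α ⊥ γ`. -/
theorem signed_orth_core {α β γ δ : G → ℂ} (hα : IsSigned α) (hβ : IsSigned β) (hγ : IsSigned γ)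
    (hδ : IsSigned δ) {s t u v : ℝ} (hs : s ≠ 0) (ht : t ≠ 0) (hu : u ≠ 0) (hv : v ≠ 0)
    (hab : Cfsg.classInner α β = 0) (hcd : Cfsg.classInner γ δ = 0)
    (hmix : Cfsg.classInner ((s : ℂ) • α - (t : ℂ) • β) ((u : ℂ) • γ - (v : ℂ) • δ) = 0)
    (h1 : (s : ℂ) * α 1 = (t : ℂ) * β 1) (h2 : (u : ℂ) * γ 1 = (v : ℂ) * δ 1) :
    Cfsg.classInner α γ = 0 := by
  by_contra hne
  rcases hα.inner_cases hγ with h | ⟨ε, hε, hαγ, hiαγ⟩
  · exact hne h
  have hεne : ε ≠ 0 := by rcases hε with rfl | rfl <;> norm_num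
  have hiαδ : Cfsg.classInner α δ = 0 := by
    rw [hαγ, Chars.classInner_smul_left, hcd, mul_zero]
  have hiβγ : Cfsg.classInner β γ = 0 := by
    have h := hab
    rw [hαγ, Chars.classInner_smul_left] at h
    rw [← Chars.classInner_conj_symm, (mul_eq_zero.mp h).resolve_left hεne, map_zero]
  simp only [Chars.classInner_sub_left, Chars.classInner_sub_right, Chars.classInner_smul_left,
    Chars.classInner_smul_right, Complex.conj_ofReal, hiαγ, hiαδ, hiβγ] at hmix
  rcases hβ.inner_cases hδ with h | ⟨ε', hε', hβδ, hiβδ⟩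
  · rw [h] at hmix
    simp at hmix
    tauto
  rw [hiβδ] at hmix
  rw [hαγ, hβδ] at h1
  simp only [Pi.smul_apply, smul_eq_mul] at h1
  have hg : γ 1 ≠ 0 := hγ.apply_one_ne_zero
  have e1 : ((s : ℂ) * ε * v - (t : ℂ) * ε' * u) * γ 1 = 0 := by
    linear_combination (v : ℂ) * h1 - (t : ℂ) * ε' * h2
  have e2 := (mul_eq_zero.mp e1).resolve_right hg
  have e3 : (s : ℂ) * ε * ((u : ℂ) ^ 2 + (v : ℂ) ^ 2) = 0 := by
    linear_combination (u : ℂ) * hmix + (v : ℂ) * e2
  have e4 : ((u : ℂ) ^ 2 + (v : ℂ) ^ 2) ≠ 0 := by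
    have : (0 : ℝ) < u ^ 2 + v ^ 2 := by positivity
    exact_mod_cast this.ne'
  exact mul_ne_zero (mul_ne_zero (by exact_mod_cast hs) hεne) e4 e3

/-- All four cross inner products vanish. -/
theorem signed_orth_four {α β γ δ : G → ℂ} (hα : IsSigned α) (hβ : IsSigned β) (hγ : IsSigned γ)
    (hδ : IsSigned δ) {s t u v : ℝ} (hs : s ≠ 0) (ht : t ≠ 0) (hu : u ≠ 0) (hv : v ≠ 0)
    (hab : Cfsg.classInner α β = 0) (hcd : Cfsg.classInner γ δ = 0)
    (hmix : Cfsg.classInner ((s : ℂ) • α - (t : ℂ) • β) ((u : ℂ) • γ - (v : ℂ) • δ) = 0)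
    (h1 : (s : ℂ) * α 1 = (t : ℂ) * β 1) (h2 : (u : ℂ) * γ 1 = (v : ℂ) * δ 1) :
    Cfsg.classInner α γ = 0 ∧ Cfsg.classInner α δ = 0 ∧
      Cfsg.classInner β γ = 0 ∧ Cfsg.classInner β δ = 0 := by
  have hba : Cfsg.classInner β α = 0 := by rw [← Chars.classInner_conj_symm, hab, map_zero]
  have hdc : Cfsg.classInner δ γ = 0 := by rw [← Chars.classInner_conj_symm, hcd, map_zero]
  have key : ∀ (x y z w : G → ℂ) (a b c d : ℂ),
      Cfsg.classInner (b • y - a • x) (d • w - c • z) =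
        Cfsg.classInner (a • x - b • y) (c • z - d • w) := by
    intro x y z w a b c d
    simp only [Chars.classInner_sub_left, Chars.classInner_sub_right]; ring
  have key2 : ∀ (x y z : G → ℂ) (a b : ℂ),
      Cfsg.classInner (b • y - a • x) z = -Cfsg.classInner (a • x - b • y) z := by
    intro x y z a b
    simp only [Chars.classInner_sub_left]; ring
  refine ⟨signed_orth_core hα hβ hγ hδ hs ht hu hv hab hcd hmix h1 h2,
    signed_orth_core hα hβ hδ hγ hs ht hv hu hab hdc ?_ h1 h2.symm,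
    signed_orth_core hβ hα hγ hδ ht hs hu hv hba hcd ?_ h1.symm h2,
    signed_orth_core hβ hα hδ hγ ht hs hv hu hba hdc ?_ h1.symm h2.symm⟩
  · have := key2 β α ((v : ℂ) • δ - (u : ℂ) • γ) (t : ℂ) (s : ℂ)
    rw [this, key, hmix, neg_zero]
  · rw [key2, hmix, neg_zero]
  · rw [key, hmix]

end Cfsg.Agent.OddChar
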