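import Cfsg.Agent.OddChar.InducedSet
import Cfsg.Agent.OddChar.Virtual
import Cfsg.Agent.S1531

/-!
Sibley's argument for gluing a coherent family of characters to a coherent family of constant
degree.
-/

set_option autoImplicit false
set_option linter.unusedSectionVars false

open scoped Classical ComplexConjugate

namespace Cfsg.Agent.OddChar

universe u v

variable {L : Type u} [Group L] [Fintype L] {G : Type v} [Group G] [Fintype G]

/-- On a pair of equal degree a coherent map may be swapped up to sign. -/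
theorem swap_pair {x y : L → ℂ} (hx : Cfsg.IsIrrCharacter L x) (hy : Cfsg.IsIrrCharacter L y)
    (hne : x ≠ y) (hdeg : x 1 = y 1) (σ : (L → ℂ) → (G → ℂ))
    (hσ : Cfsg.IsLinearIsometryOn (Cfsg.zspan ({x, y} : Set (L → ℂ))) σ) :
    ∃ σ' : (L → ℂ) → (G → ℂ),
      Cfsg.IsLinearIsometryOn (Cfsg.zspan ({x, y} : Set (L → ℂ))) σ' ∧
      (∀ α ∈ Cfsg.zspanOn ({x, y} : Set (L → ℂ)) {1}ᶜ, σ' α = σ α) ∧
      σ' x = -σ y ∧ σ' y = -σ x := by
  have hxm : x ∈ Cfsg.zspan ({x, y} : Set (L → ℂ)) := zspan_subset_apply (by simp)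
  have hym : y ∈ Cfsg.zspan ({x, y} : Set (L → ℂ)) := zspan_subset_apply (by simp)
  let v : (L → ℂ) → (G → ℂ) := fun φ => if φ = x then -σ y else -σ x
  have hcoe : ((({x, y} : Finset (L → ℂ))) : Set (L → ℂ)) = {x, y} := by simp
  have hO : OrthFamily ((({x, y} : Finset (L → ℂ))) : Set (L → ℂ)) := by
    rw [hcoe]
    exact orthFamily_of_irr (by rintro φ (rfl | rfl) <;> assumption)
  have hvx : v x = -σ y := if_pos rfl
  have hvy : v y = -σ x := if_neg (Ne.symm hne)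
  have hneg : ∀ f g : G → ℂ, Cfsg.classInner (-f) (-g) = Cfsg.classInner f g := fun f g => by
    rw [Chars.classInner_neg_left, ← Chars.classInner_conj_symm, Chars.classInner_neg_left,
      map_neg, Chars.classInner_conj_symm, neg_neg]
  have hi := orthExtend_isometry hO v ?_ ?_
  · rw [hcoe] at hi
    have hax := orthExtend_apply (G := G) hO v (show x ∈ ({x, y} : Finset (L → ℂ)) by simp)
    have hay := orthExtend_apply (G := G) hO v (show y ∈ ({x, y} : Finset (L → ℂ)) by simp)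
    rw [hvx] at hax
    rw [hvy] at hay
    refine ⟨orthExtend {x, y} v, hi, ?_, hax, hay⟩
    intro α hα
    obtain ⟨hαs, hα1⟩ := mem_zspanOn_one.mp hα
    obtain ⟨m, n, rfl⟩ := Submodule.mem_span_pair.mp hαs
    simp only [Pi.add_apply, Pi.smul_apply, hdeg, ← add_smul] at hα1
    have hy1 : y 1 ≠ 0 := Chars.irr_apply_one_ne_zero hy
    have hmn : m + n = 0 := (smul_eq_zero.mp hα1).resolve_right hy1
    rw [map_add, map_zsmul, map_zsmul, hax, hay, hσ.1 _ (zspan_zsmul_mem hxm m) _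
      (zspan_zsmul_mem hym n), hσ.2.1 x hxm, hσ.2.1 y hym, show n = -m by omega]
    simp only [smul_neg, neg_smul]
    abel
  · intro φ hφ
    simp only [Finset.mem_insert, Finset.mem_singleton] at hφ
    rcases hφ with h | h <;> rw [h]
    · rw [hvx]; exact virt_neg (hσ.2.2.2 y hym)
    · rw [hvy]; exact virt_neg (hσ.2.2.2 x hxm)
  · intro φ hφ ξ hξ
    simp only [Finset.mem_insert, Finset.mem_singleton] at hφ hξ
    rcases hφ with h | h <;> rcases hξ with h' | h' <;> rw [h, h'] <;>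
      simp only [hvx, hvy, hneg]
    · rw [hσ.2.2.1 y hym y hym, Chars.classInner_self_irr hx, Chars.classInner_self_irr hy]
    · rw [hσ.2.2.1 y hym x hxm, Chars.classInner_irr_of_ne hy hx hne.symm,
        Chars.classInner_irr_of_ne hx hy hne]
    · rw [hσ.2.2.1 x hxm y hym, Chars.classInner_irr_of_ne hy hx hne.symm,
        Chars.classInner_irr_of_ne hx hy hne]
    · rw [hσ.2.2.1 x hxm x hxm, Chars.classInner_self_irr hx, Chars.classInner_self_irr hy]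

theorem classInner_zsmul_sum_self {ι : Type*} (s : Finset ι) (v : ι → G → ℂ) (c : ι → ℤ)
    (hv : ∀ i ∈ s, ∀ j ∈ s, Cfsg.classInner (v i) (v j) = if i = j then 1 else 0) :
    Cfsg.classInner (∑ i ∈ s, c i • v i) (∑ i ∈ s, c i • v i) = ((∑ i ∈ s, c i ^ 2 : ℤ) : ℂ) := by
  rw [Chars.classInner_sum_left]
  push_cast
  refine Finset.sum_congr rfl fun i hi => ?_
  rw [Chars.classInner_sum_right, Finset.sum_eq_single_of_mem i hi fun j hj hne => by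
    rw [classInner_zsmul_left, classInner_zsmul_right, hv i hi j hj, if_neg (Ne.symm hne), mul_zero,
      mul_zero]]
  rw [classInner_zsmul_left, classInner_zsmul_right, hv i hi i hi, if_pos rfl]
  ring

/-- Integral Bessel inequality against two orthonormal families. -/
theorem bessel_two {ι κ : Type*} (s : Finset ι) (t : Finset κ) (v : ι → G → ℂ) (w : κ → G → ℂ)
    (hv : ∀ i ∈ s, ∀ j ∈ s, Cfsg.classInner (v i) (v j) = if i = j then 1 else 0)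
    (hw : ∀ i ∈ t, ∀ j ∈ t, Cfsg.classInner (w i) (w j) = if i = j then 1 else 0)
    (hvw : ∀ i ∈ s, ∀ j ∈ t, Cfsg.classInner (v i) (w j) = 0)
    (f : G → ℂ) (N : ℤ) (hN : Cfsg.classInner f f = (N : ℂ)) (c : ι → ℤ) (d : κ → ℤ)
    (hc : ∀ i ∈ s, Cfsg.classInner f (v i) = (c i : ℂ))
    (hd : ∀ i ∈ t, Cfsg.classInner f (w i) = (d i : ℂ)) :
    (∑ i ∈ s, c i ^ 2) + (∑ i ∈ t, d i ^ 2) ≤ N ∧
      ((∑ i ∈ s, c i ^ 2) + (∑ i ∈ t, d i ^ 2) = N →
        f = (∑ i ∈ s, c i • v i) + ∑ i ∈ t, d i • w i) := by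
  set A := ∑ i ∈ s, c i • v i
  set B := ∑ i ∈ t, d i • w i
  have hA : Cfsg.classInner A A = ((∑ i ∈ s, c i ^ 2 : ℤ) : ℂ) := classInner_zsmul_sum_self s v c hv
  have hB : Cfsg.classInner B B = ((∑ i ∈ t, d i ^ 2 : ℤ) : ℂ) := classInner_zsmul_sum_self t w d hw
  have hAB : Cfsg.classInner A B = 0 := by
    rw [Chars.classInner_sum_left]
    refine Finset.sum_eq_zero fun i hi => ?_
    rw [classInner_zsmul_left, Chars.classInner_sum_right, Finset.sum_eq_zero fun j hj => ?_,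
      mul_zero]
    rw [classInner_zsmul_right, hvw i hi j hj, mul_zero]
  have hBA : Cfsg.classInner B A = 0 := by rw [← Chars.classInner_conj_symm, hAB, map_zero]
  have hfA : Cfsg.classInner f A = ((∑ i ∈ s, c i ^ 2 : ℤ) : ℂ) := by
    rw [Chars.classInner_sum_right]
    push_cast
    exact Finset.sum_congr rfl fun i hi => by rw [classInner_zsmul_right, hc i hi]; ring
  have hfB : Cfsg.classInner f B = ((∑ i ∈ t, d i ^ 2 : ℤ) : ℂ) := by
    rw [Chars.classInner_sum_right]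
    push_cast
    exact Finset.sum_congr rfl fun i hi => by rw [classInner_zsmul_right, hd i hi]; ring
  have hAf : Cfsg.classInner A f = ((∑ i ∈ s, c i ^ 2 : ℤ) : ℂ) := by
    rw [← Chars.classInner_conj_symm, hfA, map_intCast]
  have hBf : Cfsg.classInner B f = ((∑ i ∈ t, d i ^ 2 : ℤ) : ℂ) := by
    rw [← Chars.classInner_conj_symm, hfB, map_intCast]
  have hkey : Cfsg.classInner (f - A - B) (f - A - B) =
      (((N - ((∑ i ∈ s, c i ^ 2) + ∑ i ∈ t, d i ^ 2) : ℤ)) : ℂ) := by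
    simp only [Chars.classInner_sub_left, Chars.classInner_sub_right, hN, hfA, hfB, hAf, hBf, hA,
      hB, hAB, hBA]
    push_cast
    ring
  have hnn := classInner_self_re_nonneg (f - A - B)
  rw [hkey, Complex.intCast_re] at hnn
  refine ⟨by have : (0 : ℤ) ≤ N - ((∑ i ∈ s, c i ^ 2) + ∑ i ∈ t, d i ^ 2) := by exact_mod_cast hnn
             omega, fun h => ?_⟩
  have h0 : f - A - B = 0 := eq_zero_of_classInner_self_re (by
    rw [hkey, Complex.intCast_re, h, sub_self, Int.cast_zero])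
  rwa [sub_sub, sub_eq_zero] at h0

theorem sum_sq_shift {ι : Type*} [DecidableEq ι] (s : Finset ι) {i₀ : ι} (hi : i₀ ∈ s) (b a : ℤ)
    (r : ι → ℤ) (hr : r i₀ = 1) :
    ∑ i ∈ s, ((if i = i₀ then a else 0) + r i * b) ^ 2 =
      a ^ 2 + 2 * a * b + b ^ 2 * ∑ i ∈ s, r i ^ 2 := by
  have hp : ∀ i, ((if i = i₀ then a else 0) + r i * b) ^ 2 =
      (if i = i₀ then a ^ 2 + 2 * a * b * r i else 0) + b ^ 2 * r i ^ 2 := fun i => by
    split_ifs <;> ring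
  rw [Finset.sum_congr rfl fun i _ => hp i, Finset.sum_add_distrib, Finset.sum_ite_eq', if_pos hi,
    Finset.mul_sum, hr, mul_one]

theorem sum_shift_smul {ι : Type*} [DecidableEq ι] (s : Finset ι) {i₀ : ι} (hi : i₀ ∈ s) (b a : ℤ)
    (r : ι → ℤ) (v : ι → G → ℂ) :
    ∑ i ∈ s, ((if i = i₀ then a else 0) + r i * b) • v i =
      a • v i₀ + b • ∑ i ∈ s, r i • v i := by
  rw [Finset.smul_sum]
  simp only [add_smul, ite_smul, zero_smul, Finset.sum_add_distrib, Finset.sum_ite_eq', hi,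
    if_true, smul_smul, mul_comm b]

/-- Sibley's gluing argument. -/
theorem sibley_join (Lg : Subgroup G) [Fintype Lg] (X Y : Finset (Lg → ℂ))
    (hXirr : ∀ φ ∈ X, Cfsg.IsIrrCharacter Lg φ) (hYirr : ∀ φ ∈ Y, Cfsg.IsIrrCharacter Lg φ)
    (hdisj : Disjoint X Y)
    (hXc : ∀ φ ∈ X, Cfsg.conjFun φ ∈ X ∧ Cfsg.conjFun φ ≠ φ)
    (hYc : ∀ φ ∈ Y, Cfsg.conjFun φ ∈ Y ∧ Cfsg.conjFun φ ≠ φ)
    (S : Set (Lg → ℂ)) (hSirr : ∀ φ ∈ S, Cfsg.IsIrrCharacter Lg φ)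
    (hXS : (↑X : Set (Lg → ℂ)) ⊆ S) (hYS : (↑Y : Set (Lg → ℂ)) ⊆ S)
    (hα : Cfsg.IsLinearIsometryOn (Cfsg.zspanOn S {1}ᶜ) (fun f : Lg → ℂ => Cfsg.indFun Lg f))
    (hα1 : ∀ θ ∈ Cfsg.zspanOn S {1}ᶜ, Cfsg.indFun Lg θ 1 = 0)
    {χ₀ η₀ : Lg → ℂ} (hχ₀ : χ₀ ∈ X) (hη₀ : η₀ ∈ Y) (r : (Lg → ℂ) → ℕ)
    (hr : ∀ χ ∈ X, χ 1 = (r χ : ℂ) * χ₀ 1) (hY1 : ∀ η ∈ Y, η 1 = η₀ 1)
    (a : ℕ) (ha : 0 < a) (hχη : χ₀ 1 = (a : ℂ) * η₀ 1)
    (σ τ : (Lg → ℂ) → (G → ℂ))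
    (hσ : Cfsg.IsLinearIsometryOn (Cfsg.zspan (↑X : Set (Lg → ℂ))) σ)
    (hσα : ∀ θ ∈ Cfsg.zspanOn (↑X : Set (Lg → ℂ)) {1}ᶜ, σ θ = Cfsg.indFun Lg θ)
    (hτ : Cfsg.IsLinearIsometryOn (Cfsg.zspan (↑Y : Set (Lg → ℂ))) τ)
    (hτα : ∀ θ ∈ Cfsg.zspanOn (↑Y : Set (Lg → ℂ)) {1}ᶜ, τ θ = Cfsg.indFun Lg θ)
    (hdvd : ∃ k : ℤ, Cfsg.classInner (Cfsg.indFun Lg (χ₀ - (a : ℤ) • η₀)) (τ η₀) =
      (((a : ℤ) * k : ℤ) : ℂ)) :
    Cfsg.IsCoherent ((↑X : Set (Lg → ℂ)) ∪ ↑Y) {1}ᶜ (fun f : Lg → ℂ => Cfsg.indFun Lg f) := by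
  have hdisj' : Disjoint (↑X : Set (Lg → ℂ)) ↑Y := Finset.disjoint_coe.mpr hdisj
  have hX2 : ∃ p ∈ (↑X : Set (Lg → ℂ)), ∃ q ∈ (↑X : Set (Lg → ℂ)), p ≠ q :=
    ⟨χ₀, hχ₀, _, (hXc χ₀ hχ₀).1, (hXc χ₀ hχ₀).2.symm⟩
  have hY2 : ∃ p ∈ (↑Y : Set (Lg → ℂ)), ∃ q ∈ (↑Y : Set (Lg → ℂ)), p ≠ q :=
    ⟨η₀, hη₀, _, (hYc η₀ hη₀).1, (hYc η₀ hη₀).2.symm⟩
  have horth := (S1531.result Lg S ↑X ↑Y hSirr hXS hYS hdisj' hX2 hY2 _ hα hα1 σ τ hσ hσα hτ hτα).1
  have hone : ∀ φ : Lg → ℂ, Cfsg.IsIrrCharacter Lg φ → Cfsg.classInner φ φ = 1 :=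
    fun φ h => Chars.classInner_self_irr h
  have hσon : ∀ p ∈ X, ∀ q ∈ X, Cfsg.classInner (σ p) (σ q) = if p = q then 1 else 0 := by
    intro p hp q hq
    rw [hσ.2.2.1 p (zspan_subset_apply hp) q (zspan_subset_apply hq),
      Chars.classInner_irr (hXirr p hp) (hXirr q hq)]
  have hτon : ∀ p ∈ Y, ∀ q ∈ Y, Cfsg.classInner (τ p) (τ q) = if p = q then 1 else 0 := by
    intro p hp q hq
    rw [hτ.2.2.1 p (zspan_subset_apply hp) q (zspan_subset_apply hq),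
      Chars.classInner_irr (hYirr p hp) (hYirr q hq)]
  have hχη0 : χ₀ ≠ η₀ := fun h => Finset.disjoint_left.mp hdisj hχ₀ (h ▸ hη₀)
  set β := χ₀ - (a : ℤ) • η₀ with hβ
  have hβS : β ∈ Cfsg.zspanOn S {1}ᶜ := mem_zspanOn_one.mpr
    ⟨zspan_sub_mem (zspan_subset_apply (hXS hχ₀))
      (zspan_zsmul_mem (zspan_subset_apply (hYS hη₀)) _), by simp [hβ, hχη]⟩
  set Γ := Cfsg.indFun Lg β with hΓdef
  have hΓv : Cfsg.IsGeneralizedCharacter G Γ := hα.2.2.2 β hβS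
  have hΓn : Cfsg.classInner Γ Γ = (((1 + (a : ℤ) ^ 2) : ℤ) : ℂ) := by
    rw [show Cfsg.classInner Γ Γ = Cfsg.classInner β β from hα.2.2.1 β hβS β hβS, hβ]
    simp only [Chars.classInner_sub_left, Chars.classInner_sub_right, classInner_zsmul_left,
      classInner_zsmul_right, hone _ (hXirr _ hχ₀), hone _ (hYirr _ hη₀),
      Chars.classInner_irr_of_ne (hXirr _ hχ₀) (hYirr _ hη₀) hχη0,
      Chars.classInner_irr_of_ne (hYirr _ hη₀) (hXirr _ hχ₀) hχη0.symm]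
    push_cast; ring
  obtain ⟨k, hk⟩ := hdvd
  set b : ℤ := (a : ℤ) * (k + 1) with hb
  obtain ⟨c₀, hc₀⟩ := exists_classInner_eq_int hΓv (hσ.2.2.2 χ₀ (zspan_subset_apply hχ₀))
  set c : ℤ := c₀ - 1 with hc
  have hYcoef : ∀ η ∈ Y, Cfsg.classInner Γ (τ η) =
      (((if η = η₀ then (-(a : ℤ)) else 0) + 1 * b : ℤ) : ℂ) := by
    intro η hη
    by_cases h : η = η₀
    · rw [h, if_pos rfl, hk, hb]; push_cast; ring
    have hd : η - η₀ ∈ Cfsg.zspanOn (↑Y : Set (Lg → ℂ)) {1}ᶜ := mem_zspanOn_one.mpr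
      ⟨zspan_sub_mem (zspan_subset_apply hη) (zspan_subset_apply hη₀), by simp [hY1 η hη]⟩
    have h1 : Cfsg.classInner Γ (τ (η - η₀)) = Cfsg.classInner β (η - η₀) := by
      rw [hτα _ hd]; exact hα.2.2.1 β hβS _ (zspanOn_mono hYS hd)
    have h2 : τ (η - η₀) = τ η - τ η₀ := iso_map_sub hτ
      (zspan_sub_mem (zspan_subset_apply hη) (zspan_subset_apply hη₀)) (zspan_subset_apply hη₀)
    rw [h2, hβ, Chars.classInner_sub_right, Chars.classInner_sub_left, Chars.classInner_sub_right,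
      Chars.classInner_sub_right, classInner_zsmul_left, classInner_zsmul_left,
      Chars.classInner_irr_of_ne (hXirr _ hχ₀) (hYirr _ hη)
        (fun h' => Finset.disjoint_left.mp hdisj hχ₀ (h' ▸ hη)),
      Chars.classInner_irr_of_ne (hXirr _ hχ₀) (hYirr _ hη₀) hχη0,
      Chars.classInner_irr_of_ne (hYirr _ hη₀) (hYirr _ hη) (Ne.symm h), hone _ (hYirr _ hη₀)] at h1
    rw [if_neg h, hb]
    push_cast
    have hk' : Cfsg.classInner Γ (τ η₀) = (a : ℂ) * (k : ℂ) := by rw [hk]; push_cast; ring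
    push_cast at h1
    linear_combination h1 + hk'
  have hr0 : r χ₀ = 1 := by
    have h := hr χ₀ hχ₀
    have h0 := Chars.irr_apply_one_ne_zero (hXirr _ hχ₀)
    exact_mod_cast ((mul_eq_right₀ h0).mp h.symm : (r χ₀ : ℂ) = 1)
  have hXcoef : ∀ χ ∈ X, Cfsg.classInner Γ (σ χ) =
      (((if χ = χ₀ then (1 : ℤ) else 0) + (r χ : ℤ) * c : ℤ) : ℂ) := by
    intro χ hχ
    by_cases h : χ = χ₀
    · rw [h, if_pos rfl, hr0, hc₀, hc]; push_cast; ring
    have hm : ((r χ : ℤ) • χ₀) ∈ Cfsg.zspan (↑X : Set (Lg → ℂ)) :=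
      zspan_zsmul_mem (zspan_subset_apply hχ₀) _
    have hd : χ - (r χ : ℤ) • χ₀ ∈ Cfsg.zspanOn (↑X : Set (Lg → ℂ)) {1}ᶜ := mem_zspanOn_one.mpr
      ⟨zspan_sub_mem (zspan_subset_apply hχ) hm, by simp [hr χ hχ]⟩
    have h1 : Cfsg.classInner Γ (σ (χ - (r χ : ℤ) • χ₀)) =
        Cfsg.classInner β (χ - (r χ : ℤ) • χ₀) := by
      rw [hσα _ hd]; exact hα.2.2.1 β hβS _ (zspanOn_mono hXS hd)
    rw [iso_map_sub hσ hd.1 hm, hσ.2.1 χ₀ (zspan_subset_apply hχ₀), hβ] at h1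
    simp only [Chars.classInner_sub_left, Chars.classInner_sub_right, classInner_zsmul_left,
      classInner_zsmul_right, hone _ (hXirr _ hχ₀),
      Chars.classInner_irr_of_ne (hXirr _ hχ₀) (hXirr _ hχ) (Ne.symm h),
      Chars.classInner_irr_of_ne (hYirr _ hη₀) (hXirr _ hχ)
        (fun h' => Finset.disjoint_left.mp hdisj hχ (h' ▸ hη₀)),
      Chars.classInner_irr_of_ne (hYirr _ hη₀) (hXirr _ hχ₀) hχη0.symm, hc₀] at h1
    rw [if_neg h, hc]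
    push_cast at h1 ⊢
    linear_combination h1
  obtain ⟨hle, heq⟩ := bessel_two X Y σ τ (fun p hp q hq => by convert hσon p hp q hq)
    (fun p hp q hq => by convert hτon p hp q hq) (fun p hp q hq => horth p hp q hq) Γ _ hΓn
    (fun χ => (if χ = χ₀ then (1 : ℤ) else 0) + (r χ : ℤ) * c)
    (fun η => (if η = η₀ then (-(a : ℤ)) else 0) + 1 * b) hXcoef hYcoef
  rw [sum_sq_shift X hχ₀ c 1 (fun χ => (r χ : ℤ)) (by rw [hr0]; rfl),
    sum_sq_shift Y hη₀ b (-(a : ℤ)) (fun _ => 1) rfl] at hle heq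
  rw [sum_shift_smul X hχ₀ c 1 (fun χ => (r χ : ℤ)) σ,
    sum_shift_smul Y hη₀ b (-(a : ℤ)) (fun _ => 1) τ] at heq
  simp only [one_pow, Finset.sum_const, nsmul_eq_mul, mul_one, one_smul] at hle heq
  set R : ℤ := ∑ χ ∈ X, (r χ : ℤ) ^ 2 with hRdef
  set n : ℤ := (Y.card : ℤ) with hndef
  -- lower bounds
  set χ₁ := Cfsg.conjFun χ₀ with hχ₁
  set η₁ := Cfsg.conjFun η₀ with hη₁
  have hr1 : r χ₁ = 1 := by
    have h := hr χ₁ (hXc χ₀ hχ₀).1
    rw [hχ₁, conjFun_apply_one (Chars.isCharacter_of_isIrr (hXirr _ hχ₀)), ← hχ₁] at h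
    exact_mod_cast ((mul_eq_right₀ (Chars.irr_apply_one_ne_zero (hXirr _ hχ₀))).mp h.symm :
      (r χ₁ : ℂ) = 1)
  have hpairX : ({χ₀, χ₁} : Finset (Lg → ℂ)) ⊆ X := by
    intro x hx
    simp only [Finset.mem_insert, Finset.mem_singleton] at hx
    rcases hx with h | h
    · exact h ▸ hχ₀
    · exact h ▸ (hXc χ₀ hχ₀).1
  have hpairY : ({η₀, η₁} : Finset (Lg → ℂ)) ⊆ Y := by
    intro x hx
    simp only [Finset.mem_insert, Finset.mem_singleton] at hx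
    rcases hx with h | h
    · exact h ▸ hη₀
    · exact h ▸ (hYc η₀ hη₀).1
  have hsumpair : ∑ χ ∈ ({χ₀, χ₁} : Finset (Lg → ℂ)), (r χ : ℤ) ^ 2 = 2 := by
    rw [Finset.sum_pair (hXc χ₀ hχ₀).2.symm, hr0, hr1]; norm_num
  have hR2 : 2 ≤ R := by
    rw [hRdef, ← hsumpair]
    exact Finset.sum_le_sum_of_subset_of_nonneg hpairX fun _ _ _ => sq_nonneg _
  have hn2 : 2 ≤ n := by
    rw [hndef]
    have := Finset.card_le_card hpairY
    rw [Finset.card_pair (hYc η₀ hη₀).2.symm] at this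
    exact_mod_cast this
  have hapos : (0 : ℤ) < a := by exact_mod_cast ha
  have hcc : 0 ≤ c * (c + 1) := by
    rcases le_or_gt 0 c with h | h
    · exact mul_nonneg h (by omega)
    · exact mul_nonneg_of_nonpos_of_nonpos h.le (by omega)
  have hkk : 0 ≤ (k + 1) * k := by
    rcases le_or_gt 0 k with h | h
    · exact mul_nonneg (by omega) h
    · exact mul_nonneg_of_nonpos_of_nonpos (by omega) h.le
  have e1 : 0 ≤ 2 * c + c ^ 2 * R := by
    nlinarith [mul_nonneg (sq_nonneg c) (sub_nonneg.mpr hR2)]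
  have e2 : 0 ≤ -(2 * (a : ℤ) * b) + b ^ 2 * n := by
    rw [hb]
    nlinarith [mul_nonneg (mul_nonneg (sq_nonneg (a : ℤ)) (sq_nonneg (k + 1))) (sub_nonneg.mpr hn2),
      mul_nonneg (sq_nonneg (a : ℤ)) hkk]
  have z1 : 2 * c + c ^ 2 * R = 0 := by linarith
  have z2 : -(2 * (a : ℤ) * b) + b ^ 2 * n = 0 := by linarith
  have hW := heq (by linarith)
  -- choose the maps
  obtain ⟨σ', hσ', hσ'α, hσ'0⟩ : ∃ σ' : (Lg → ℂ) → (G → ℂ),
      Cfsg.IsLinearIsometryOn (Cfsg.zspan (↑X : Set (Lg → ℂ))) σ' ∧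
      (∀ θ ∈ Cfsg.zspanOn (↑X : Set (Lg → ℂ)) {1}ᶜ, σ' θ = Cfsg.indFun Lg θ) ∧
      σ χ₀ + c • ∑ χ ∈ X, (r χ : ℤ) • σ χ = σ' χ₀ := by
    rcases eq_or_ne c 0 with h | h
    · exact ⟨σ, hσ, hσα, by rw [h, zero_smul, add_zero]⟩
    have hcR : c * R = -2 := by
      have : c * (c * R + 2) = 0 := by linear_combination z1
      have := (mul_eq_zero.mp this).resolve_left h
      omega
    have hc1 : c = -1 := by
      have h1 : c < 0 := by nlinarith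
      nlinarith
    have hR : R = 2 := by rw [hc1] at hcR; omega
    have hX : X = {χ₀, χ₁} := by
      refine Finset.Subset.antisymm (fun x hx => ?_) hpairX
      by_contra hn
      have h1 := Finset.sum_sdiff (f := fun χ => (r χ : ℤ) ^ 2) hpairX
      rw [hsumpair, ← hRdef, hR] at h1
      have h2 : (r x : ℤ) ^ 2 ≤ ∑ χ ∈ X \ {χ₀, χ₁}, (r χ : ℤ) ^ 2 :=
        Finset.single_le_sum (f := fun χ : Lg → ℂ => (r χ : ℤ) ^ 2) (fun _ _ => sq_nonneg _)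
          (Finset.mem_sdiff.mpr ⟨hx, hn⟩)
      have h3 : r x ≠ 0 := by
        intro h0
        have := hr x hx
        rw [h0, Nat.cast_zero, zero_mul] at this
        exact Chars.irr_apply_one_ne_zero (hXirr x hx) this
      have h4 : (0 : ℤ) < (r x : ℤ) ^ 2 := by positivity
      linarith
    have hset : (↑X : Set (Lg → ℂ)) = {χ₀, χ₁} := by rw [hX]; simp
    obtain ⟨σ', h1, h2, h3, -⟩ := swap_pair (hXirr _ hχ₀) (hXirr _ (hXc χ₀ hχ₀).1)
      (hXc χ₀ hχ₀).2.symm (conjFun_apply_one (Chars.isCharacter_of_isIrr (hXirr _ hχ₀))).symm σ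
      (hset ▸ hσ)
    refine ⟨σ', hset ▸ h1, fun θ hθ => (h2 θ (hset ▸ hθ)).trans (hσα θ hθ), ?_⟩
    rw [h3, hX, Finset.sum_pair (hXc χ₀ hχ₀).2.symm, hr0, hr1, hc1]
    simp only [Nat.cast_one, one_smul, neg_smul]
    abel
  obtain ⟨τ', hτ', hτ'α, hτ'0⟩ : ∃ τ' : (Lg → ℂ) → (G → ℂ),
      Cfsg.IsLinearIsometryOn (Cfsg.zspan (↑Y : Set (Lg → ℂ))) τ' ∧
      (∀ θ ∈ Cfsg.zspanOn (↑Y : Set (Lg → ℂ)) {1}ᶜ, τ' θ = Cfsg.indFun Lg θ) ∧
      (-(a : ℤ)) • τ η₀ + b • ∑ η ∈ Y, τ η = (-(a : ℤ)) • τ' η₀ := by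
    rcases eq_or_ne b 0 with h | h
    · exact ⟨τ, hτ, hτα, by rw [h, zero_smul, add_zero]⟩
    have hbn : b * n = 2 * (a : ℤ) := by
      have : b * (b * n - 2 * (a : ℤ)) = 0 := by linear_combination z2
      have := (mul_eq_zero.mp this).resolve_left h
      linarith
    have hk1 : (k + 1) * n = 2 := by
      rw [hb] at hbn
      exact mul_left_cancel₀ hapos.ne' (by linear_combination hbn)
    have hk0 : k + 1 = 1 := by
      rcases le_or_gt (k + 1) 0 with h' | h'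
      · nlinarith
      · nlinarith
    have hn : n = 2 := by rw [hk0] at hk1; omega
    have hba : b = a := by rw [hb, hk0, mul_one]
    have hY : Y = {η₀, η₁} := by
      refine (Finset.eq_of_subset_of_card_le hpairY ?_).symm
      rw [Finset.card_pair (hYc η₀ hη₀).2.symm]
      rw [hndef] at hn
      exact_mod_cast hn.le
    have hset : (↑Y : Set (Lg → ℂ)) = {η₀, η₁} := by rw [hY]; simp
    obtain ⟨τ', h1, h2, h3, -⟩ := swap_pair (hYirr _ hη₀) (hYirr _ (hYc η₀ hη₀).1)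
      (hYc η₀ hη₀).2.symm (conjFun_apply_one (Chars.isCharacter_of_isIrr (hYirr _ hη₀))).symm τ
      (hset ▸ hτ)
    refine ⟨τ', hset ▸ h1, fun θ hθ => (h2 θ (hset ▸ hθ)).trans (hτα θ hθ), ?_⟩
    rw [h3, hY, Finset.sum_pair (hYc η₀ hη₀).2.symm, hba]
    simp only [smul_add, neg_smul, smul_neg, neg_neg]
    abel
  refine (S1531.result Lg S ↑X ↑Y hSirr hXS hYS hdisj' hX2 hY2 _ hα hα1 σ' τ' hσ' hσ'α hτ' hτ'α).2
    ⟨χ₀, hχ₀, η₀, hη₀, ?_⟩
  show Cfsg.indFun Lg (χ₀ 1 • η₀ - η₀ 1 • χ₀) = χ₀ 1 • τ' η₀ - η₀ 1 • σ' χ₀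
  rw [hτ'0, hσ'0] at hW
  have hlin : χ₀ 1 • η₀ - η₀ 1 • χ₀ = (-η₀ 1) • β := by
    rw [hβ, hχη, smul_sub, ← Int.cast_smul_eq_zsmul ℂ, smul_smul]
    push_cast
    module
  rw [hlin, Chars.indFun_smul, ← hΓdef, hW, hχη, ← Int.cast_smul_eq_zsmul ℂ]
  push_cast
  module

end Cfsg.Agent.OddChar
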