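import Cfsg.Agent.OddChar.FrobSetup
import Cfsg.Agent.OddChar.SibleyJoin
import Cfsg.Agent.OddChar.TICongr
import Cfsg.Agent.OddChar.FreeCount
import Cfsg.Agent.S1521
import Cfsg.Agent.S1522

/-!
Sibley's coherence theorem for Frobenius groups of odd order with trivial intersection kernel.
-/

set_option autoImplicit false
set_option linter.unusedSectionVars false

open scoped Classical ComplexConjugate

namespace Cfsg.Agent.OddChar

variable {G : Type*} [Group G] [Fintype G] (H Lg : Subgroup G) [Fintype Lg]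
  [(H.subgroupOf Lg).Normal]

/-- The case in which the kernel is not a nonabelian `p`-group. -/
theorem sibley_easy (hHL : H ≤ Lg) (hTI : Cfsg.IsTISubset (H : Set G))
    (hN : Subgroup.normalizer (H : Set G) = Lg) (hodd : Odd (Nat.card Lg)) (hH1 : H ≠ ⊥)
    (hlt : H.subgroupOf Lg < ⊤) (hnil : Group.IsNilpotent (H.subgroupOf Lg))
    (hC : ∀ k ∈ H.subgroupOf Lg, k ≠ 1 → Subgroup.centralizer ({k} : Set Lg) ≤ H.subgroupOf Lg)
    (hcase : (¬ ∃ p m : ℕ, p.Prime ∧ Nat.card H = p ^ m) ∨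
      ⁅H.subgroupOf Lg, H.subgroupOf Lg⁆ = ⊥) :
    Cfsg.IsCoherent (Cfsg.inducedIrrAbove (H.subgroupOf Lg) ⊥) {1}ᶜ
      (fun α : Lg → ℂ => Cfsg.indFun Lg α) := by
  set K := H.subgroupOf Lg with hKdef
  haveI := hnil
  have hsolv : Group.IsSolvable K := inferInstance
  obtain ⟨R, hR⟩ := ti_frobenius_system H Lg hHL hTI hN hodd hH1 hsolv hC
  have hKne : K ≠ ⊥ := fun h => hH1 (by
    rw [← Subgroup.map_subgroupOf_eq_of_le hHL, ← hKdef, h, Subgroup.map_bot])
  have hH₁K : ⁅K, K⁆ < K := by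
    haveI : Nontrivial K := (Subgroup.nontrivial_iff_ne_bot K).mpr hKne
    have h := Group.IsSolvable.commutator_lt_top_of_nontrivial K
    rw [← Subgroup.map_subtype_commutator]
    refine lt_of_le_of_ne (Subgroup.map_subtype_le _) fun he => h.ne ?_
    apply Subgroup.map_injective K.subtype_injective
    rw [he, ← MonoidHom.range_eq_map, Subgroup.range_subtype]
  haveI : ((⊥ : Subgroup Lg).subgroupOf K).Normal := inferInstance
  refine S1521.result K hsolv _ R hR hodd ⊥ bot_le inferInstance ⁅K, K⁆ (sup_bot_eq _).symm hH₁K hlt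
    (fun k hk hk' x hx => frob_section hC ⁅K, K⁆ hk hk' hx) ?_
  rcases hcase with hc | hc
  · refine Or.inr (Or.inr (Or.inl ?_))
    rintro ⟨p, m, hp, hpm⟩
    refine hc ⟨p, m, hp, ?_⟩
    rw [Subgroup.relIndex, Subgroup.bot_subgroupOf, Subgroup.index_bot] at hpm
    rw [← hpm]
    exact (Nat.card_congr (Subgroup.subgroupOfEquivOfLe hHL).toEquiv).symm
  · exact Or.inr (Or.inr (Or.inr (Or.inl (le_of_eq hc))))

/-- The characters nontrivial on a central subgroup. -/
theorem ti_central_coherent (hHL : H ≤ Lg) (hTI : Cfsg.IsTISubset (H : Set G))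
    (hN : Subgroup.normalizer (H : Set G) = Lg) (hodd : Odd (Nat.card Lg)) (hH1 : H ≠ ⊥)
    (hlt : H.subgroupOf Lg < ⊤) (hnil : Group.IsNilpotent (H.subgroupOf Lg))
    (hC : ∀ k ∈ H.subgroupOf Lg, k ≠ 1 → Subgroup.centralizer ({k} : Set Lg) ≤ H.subgroupOf Lg)
    (Z : Subgroup Lg) [Z.Normal] (hZ1 : Z ≠ ⊥) (hZK : Z ≤ H.subgroupOf Lg)
    (hZc : ∀ z ∈ Z, ∀ k ∈ H.subgroupOf Lg, z * k = k * z) :
    Cfsg.inducedIrrAbove (H.subgroupOf Lg) ⊥ \ Cfsg.inducedIrrAbove (H.subgroupOf Lg) Z =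
        {χ | Cfsg.IsIrrCharacter Lg χ ∧ ∃ z ∈ Z, χ z ≠ χ 1} ∧
      Cfsg.IsCoherent
        (Cfsg.inducedIrrAbove (H.subgroupOf Lg) ⊥ \ Cfsg.inducedIrrAbove (H.subgroupOf Lg) Z)
        {1}ᶜ (fun α : Lg → ℂ => Cfsg.indFun Lg α) := by
  set K := H.subgroupOf Lg with hKdef
  haveI := hnil
  have hsolv : Group.IsSolvable K := inferInstance
  obtain ⟨R, hR⟩ := ti_frobenius_system H Lg hHL hTI hN hodd hH1 hsolv hC
  have hH₁K : ⁅K, K⁆ < K := by
    haveI : Nontrivial K := (Subgroup.nontrivial_iff_ne_bot K).mpr fun h => hH1 (by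
      rw [← Subgroup.map_subgroupOf_eq_of_le hHL, ← hKdef, h, Subgroup.map_bot])
    have h := Group.IsSolvable.commutator_lt_top_of_nontrivial K
    rw [← Subgroup.map_subtype_commutator]
    refine lt_of_le_of_ne (Subgroup.map_subtype_le _) fun he => h.ne ?_
    apply Subgroup.map_injective K.subtype_injective
    rw [he, ← MonoidHom.range_eq_map, Subgroup.range_subtype]
  refine S1522.result K hsolv _ R hR hodd hnil hH₁K hlt
    (fun k hk hk' x hx => frob_section hC ⁅K, K⁆ hk hk' hx) Z hZ1 hZK hZc ?_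
  rintro χ ⟨⟨θ, hθ, hne, -, rfl⟩, -⟩
  exact frob_ind_irr hC hθ hne

variable {p : ℕ} [hpf : Fact p.Prime] (P : Sylow p G)
  [Fintype ↥(Subgroup.normalizer ((P : Subgroup G) : Set G))]

local notation "NP" => Subgroup.normalizer ((P : Subgroup G) : Set G)
local notation "KP" => Subgroup.subgroupOf (P : Subgroup G) NP

/-- The case of a nonabelian Sylow subgroup. -/
theorem sibley_sylow (hTI : Cfsg.IsTISubset ((P : Subgroup G) : Set G)) (hodd : Odd (Nat.card NP))
    (hlt : KP < ⊤) (hC : ∀ k ∈ KP, k ≠ 1 → Subgroup.centralizer ({k} : Set NP) ≤ KP)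
    (hna : ⁅KP, KP⁆ ≠ ⊥) :
    Cfsg.IsCoherent (Cfsg.inducedIrrAbove KP ⊥) {1}ᶜ (fun α : NP → ℂ => Cfsg.indFun NP α) := by
  haveI : (KP).Normal := Subgroup.normal_in_normalizer
  set K := KP with hKdef
  set τ₀ := fun α : NP → ℂ => Cfsg.indFun NP α with hτ₀
  have hP1 : (P : Subgroup G) ≠ ⊥ := by
    intro h
    apply hna
    rw [hKdef, h, Subgroup.bot_subgroupOf, Subgroup.commutator_bot_left]
  have hPp : IsPGroup p K := P.isPGroup'.comap_subtype
  haveI hnil : Group.IsNilpotent K := hPp.isNilpotent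
  have hsolv : Group.IsSolvable K := inferInstance
  obtain ⟨R, hR⟩ := ti_frobenius_system (P : Subgroup G) NP Subgroup.le_normalizer hTI rfl hodd hP1
    hsolv hC
  set e := K.index with he
  have hepos : 0 < e := Nat.pos_of_ne_zero Subgroup.index_ne_zero_of_finite
  -- a central subgroup inside the commutator
  obtain ⟨N₀, hN₀⟩ : ∃ n, K.lowerCentralSeries n = ⊥ := by
    obtain ⟨n, hn⟩ := Subgroup.nilpotent_iff_lowerCentralSeries.mp hnil
    exact ⟨n, by rw [← Subgroup.top_subtype_lowerCentralSeries K n, hn, Subgroup.map_bot]⟩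
  have hex : ∃ n, K.lowerCentralSeries n = ⊥ := ⟨N₀, hN₀⟩
  have hmin := Nat.find_spec hex
  set n₀ := Nat.find hex with hn₀
  have hl1 : K.lowerCentralSeries 1 = ⁅K, K⁆ := by
    rw [Subgroup.lowerCentralSeries_succ, Subgroup.lowerCentralSeries_zero]
  have h2 : 2 ≤ n₀ := by
    by_contra h
    apply hna
    rw [← hl1, ← le_bot_iff, ← hmin]
    exact Subgroup.lowerCentralSeries_antitone _ (by omega)
  set Z := K.lowerCentralSeries (n₀ - 1) with hZdef
  haveI : Z.Normal := Subgroup.lowerCentralSeries_normal K (n₀ - 1)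
  have hZ1 : Z ≠ ⊥ := Nat.find_min hex (show n₀ - 1 < Nat.find hex by omega)
  have hZK' : Z ≤ ⁅K, K⁆ := hl1 ▸ Subgroup.lowerCentralSeries_antitone _ (by omega)
  have hcK : ⁅K, K⁆ ≤ K := Subgroup.commutator_le_self K
  have hZK : Z ≤ K := hZK'.trans hcK
  have hZc : ∀ z ∈ Z, ∀ k ∈ K, z * k = k * z := by
    intro z hz k hk
    have h : z * k * z⁻¹ * k⁻¹ ∈ K.lowerCentralSeries (n₀ - 1 + 1) := by
      rw [Subgroup.lowerCentralSeries_succ]
      exact Subgroup.commutator_mem_commutator hz hk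
    rw [show n₀ - 1 + 1 = n₀ by omega, hmin, Subgroup.mem_bot] at h
    exact mul_inv_eq_iff_eq_mul.mp (mul_inv_eq_one.mp h)
  obtain ⟨hXset, hXcoh⟩ := ti_central_coherent (P : Subgroup G) NP Subgroup.le_normalizer hTI rfl hodd
    hP1 hlt hnil hC Z hZ1 hZK hZc
  -- the finsets
  set F := indSet K (aboveSet K ⊥) with hFdef
  set FZ := indSet K (aboveSet K Z) with hFZdef
  set X := F \ FZ with hXdef
  set Y := indSet K (aboveSet K ⁅K, K⁆) with hYdef
  have hFcoe : (↑F : Set (NP → ℂ)) = Cfsg.inducedIrrAbove K ⊥ := coe_indSet_aboveSet K ⊥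
  have hFZcoe : (↑FZ : Set (NP → ℂ)) = Cfsg.inducedIrrAbove K Z := coe_indSet_aboveSet K Z
  have hYcoe : (↑Y : Set (NP → ℂ)) = Cfsg.inducedIrrAbove K ⁅K, K⁆ := coe_indSet_aboveSet K _
  have hXcoe : (↑X : Set (NP → ℂ)) = Cfsg.inducedIrrAbove K ⊥ \ Cfsg.inducedIrrAbove K Z := by
    rw [hXdef, Finset.coe_sdiff, hFcoe, hFZcoe]
  have hYFZ : Y ⊆ FZ := by
    intro φ hφ
    rw [← Finset.mem_coe, hYcoe] at hφ
    rw [← Finset.mem_coe, hFZcoe]
    exact indAbove_mono K (fun a _ ha => hZK' ha) hφ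
  have hdisj : Disjoint X Y := Finset.disjoint_left.mpr fun φ hX hY =>
    (Finset.mem_sdiff.mp hX).2 (hYFZ hY)
  have hirr : ∀ φ ∈ Cfsg.inducedIrrAbove K ⊥, Cfsg.IsIrrCharacter NP φ := by
    rintro φ ⟨θ, hθ, hne, -, rfl⟩
    exact frob_ind_irr hC hθ hne
  have hXsub : (↑X : Set (NP → ℂ)) ⊆ Cfsg.inducedIrrAbove K ⊥ := hXcoe ▸ Set.diff_subset
  have hYsub : (↑Y : Set (NP → ℂ)) ⊆ Cfsg.inducedIrrAbove K ⊥ :=
    hYcoe ▸ indAbove_subset_bot K _
  -- degrees
  have hdeg : ∀ φ ∈ Cfsg.inducedIrrAbove K ⊥,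
      ∃ i, deg φ = e * p ^ i ∧ (p ^ i) ^ 2 ≤ Z.relIndex K ∧
        (i = 0 → φ ∈ Cfsg.inducedIrrAbove K ⁅K, K⁆) := by
    rintro φ ⟨θ, hθ, hne, -, rfl⟩
    have hθc := Chars.isCharacter_of_isIrr hθ
    obtain ⟨d, -, hd, hdvd⟩ := Chars.irr_degree_dvd_card hθ
    obtain ⟨m, hm⟩ := IsPGroup.iff_card.mp hPp
    rw [hm] at hdvd
    obtain ⟨i, -, hi⟩ := (Nat.dvd_prime_pow hpf.out).mp hdvd
    have hd' : deg θ = p ^ i := by rw [deg, hd, Complex.natCast_re, Nat.floor_natCast, hi]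
    refine ⟨i, by rw [deg_indFun K hθc, hd'], ?_, fun h0 => ⟨θ, hθ, hne, fun a ha => ?_, rfl⟩⟩
    · have hb := S1492.result θ hθ ⊥ ⊤ (Z.subgroupOf K) bot_le le_top
        (fun c _ b hb => by rw [Subgroup.mem_bot.mp hb]; simp)
        (fun d hd c _ => Subgroup.mem_bot.mpr (Subtype.ext (by
          have h : (d : NP) * c = c * d := hZc _ hd _ c.2
          simp only [Subgroup.coe_mul, InvMemClass.coe_inv, OneMemClass.coe_one]
          rw [h]; group)))
        (fun b hb => by rw [Subgroup.mem_bot.mp hb])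
      rw [deg_spec hθc, hd', Complex.norm_natCast, Subgroup.card_top,
        Nat.card_congr (Subgroup.subgroupOfEquivOfLe hZK).toEquiv] at hb
      have h3 : (p ^ i) ^ 2 * Nat.card K * Nat.card Z ≤ Nat.card K ^ 2 := by exact_mod_cast hb
      have hKZ : Z.relIndex K * Nat.card Z = Nat.card K := by
        have h := (Z.subgroupOf K).index_mul_card
        rwa [Nat.card_congr (Subgroup.subgroupOfEquivOfLe hZK).toEquiv] at h
      refine Nat.le_of_mul_le_mul_right (c := Nat.card K * Nat.card Z) ?_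
        (Nat.mul_pos Nat.card_pos Nat.card_pos)
      rw [← mul_assoc]
      refine h3.trans (le_of_eq ?_)
      rw [show Z.relIndex K * (Nat.card K * Nat.card Z) =
        Nat.card K * (Z.relIndex K * Nat.card Z) by ring, hKZ, sq]
    · refine trivial_on_commutator_of_deg_one hθ (by rw [hd', h0, pow_zero]) a ?_
      rw [← Subgroup.mem_map_iff_mem K.subtype_injective, Subgroup.map_subtype_commutator]
      exact ha
  choose i hi hi2 hi0 using hdeg
  have hXne : X.Nonempty := by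
    obtain ⟨⟨α, hα, hα0⟩, -⟩ := hXcoh
    by_contra hE
    rw [Finset.not_nonempty_iff_eq_empty] at hE
    rw [← hXcoe, hE, Finset.coe_empty] at hα
    have hs := hα.1
    simp only [Cfsg.zspan, Submodule.span_empty, SetLike.mem_coe, Submodule.mem_bot] at hs
    exact hα0 hs
  obtain ⟨χ₀, hχ₀, hχmin⟩ := X.exists_min_image deg hXne
  have hKne : K ≠ ⊥ := fun h => hna (by rw [h, Subgroup.commutator_bot_left])
  haveI : Nontrivial K := (Subgroup.nontrivial_iff_ne_bot K).mpr hKne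
  have hH₁K : ⁅K, K⁆ < K := by
    have h := Group.IsSolvable.commutator_lt_top_of_nontrivial K
    rw [← Subgroup.map_subtype_commutator]
    refine lt_of_le_of_ne (Subgroup.map_subtype_le _) fun he => h.ne ?_
    apply Subgroup.map_injective K.subtype_injective
    rw [he, ← MonoidHom.range_eq_map, Subgroup.range_subtype]
  obtain ⟨η₀, hη₀', hη₀d⟩ := exists_linear_above K hsolv ⁅K, K⁆ hH₁K
  have hη₀ : η₀ ∈ Y := by rw [← Finset.mem_coe, hYcoe]; exact hη₀'
  have hYdeg : ∀ η ∈ Y, deg η = e := by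
    intro η hη
    rw [← Finset.mem_coe, hYcoe] at hη
    obtain ⟨θ, hθ, -, hker, rfl⟩ := hη
    rw [deg_indFun K (Chars.isCharacter_of_isIrr hθ), irr_deg_one_of_commutator_le hθ fun m hm =>
      hker m (by rw [← Subgroup.map_subtype_commutator]; exact Subgroup.mem_map_of_mem _ hm), mul_one]
  -- the coherent maps
  obtain ⟨-, σ, hσ, hσα⟩ := hXcoh
  rw [← hXcoe] at hσ hσα
  have hYc : ∀ φ ∈ Y, Cfsg.conjFun φ ∈ Y ∧ Cfsg.conjFun φ ≠ φ := by
    intro φ hφ
    refine ⟨?_, frob_conj_ne hodd hC (hYsub hφ)⟩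
    rw [← Finset.mem_coe, hYcoe] at hφ ⊢
    exact indAbove_conj_mem K _ hφ
  have hsysY : Cfsg.IsCoherenceSystem (↑Y : Set (NP → ℂ)) τ₀ R :=
    system_restrict hR hYsub ⟨η₀, hη₀⟩ fun φ hφ => (hYc φ hφ).1
  obtain ⟨-, τ, hτ, hτα⟩ := S1517.result _ τ₀ R hsysY fun φ hφ ψ hψ => by
    rw [deg_spec (hR.isCharacter φ (hYsub hφ)), deg_spec (hR.isCharacter ψ (hYsub hψ)),
      hYdeg φ hφ, hYdeg ψ hψ]
  have hXc : ∀ φ ∈ X, Cfsg.conjFun φ ∈ X ∧ Cfsg.conjFun φ ≠ φ := by
    intro φ hφ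
    refine ⟨?_, frob_conj_ne hodd hC (hXsub hφ)⟩
    rw [← Finset.mem_coe, hXcoe] at hφ ⊢
    exact ⟨indAbove_conj_mem K ⊥ hφ.1, fun h => hφ.2 (by
      rw [← conjFun_conjFun φ]; exact indAbove_conj_mem K Z h)⟩
  obtain ⟨hiso, hiso1⟩ := ti_isometry (P : Subgroup G) NP Subgroup.le_normalizer hTI rfl
  set m₀ := i χ₀ (hXsub hχ₀) with hm₀
  have hχ₀d : deg χ₀ = e * p ^ m₀ := hi χ₀ _
  set a := p ^ m₀ with ha
  set r : (NP → ℂ) → ℕ := fun χ => deg χ / deg χ₀ with hrdef
  have hd₀pos : 0 < deg χ₀ := deg_pos_irr (hirr _ (hXsub hχ₀))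
  have hdvdX : ∀ χ ∈ X, deg χ₀ ∣ deg χ := by
    intro χ hχ
    have hle := hχmin χ hχ
    rw [hχ₀d, hi χ (hXsub hχ)] at hle ⊢
    exact Nat.mul_dvd_mul_left _ (Nat.pow_dvd_pow _ ((Nat.pow_le_pow_iff_right hpf.out.one_lt).mp
      (Nat.le_of_mul_le_mul_left hle hepos)))
  have hr : ∀ χ ∈ X, χ 1 = (r χ : ℂ) * χ₀ 1 := by
    intro χ hχ
    rw [deg_spec (hR.isCharacter χ (hXsub hχ)), deg_spec (hR.isCharacter χ₀ (hXsub hχ₀)), hrdef,
      ← Nat.cast_mul, Nat.div_mul_cancel (hdvdX χ hχ)]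
  have hχη : χ₀ 1 = (a : ℂ) * η₀ 1 := by
    rw [deg_spec (hR.isCharacter χ₀ (hXsub hχ₀)), deg_spec (hR.isCharacter η₀ (hYsub hη₀)), hχ₀d,
      hη₀d, ← he]
    push_cast; ring
  -- the divisibility
  have hdvd : ∃ k : ℤ, Cfsg.classInner (Cfsg.indFun NP (χ₀ - (a : ℤ) • η₀)) (τ η₀) =
      (((a : ℤ) * k : ℤ) : ℂ) := by
    have hf : Cfsg.IsGeneralizedCharacter G (τ η₀) := hτ.2.2.2 _ (zspan_subset_apply hη₀)
    have hfcl := virt_isClassFunction hf
    obtain ⟨u, hu⟩ := exists_classInner_eq_int (Chars.isGen_restrict hf NP)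
      (virt_of_irr (hirr _ (hXsub hχ₀)))
    obtain ⟨w, hw⟩ := exists_classInner_eq_int (Chars.isGen_restrict hf NP)
      (virt_of_irr (hirr _ (hYsub hη₀)))
    set f' : NP → ℂ := fun x => τ η₀ x with hf'
    have hres : Cfsg.classInner (Cfsg.indFun NP (χ₀ - (a : ℤ) • η₀)) (τ η₀) =
        ((u - (a : ℤ) * w : ℤ) : ℂ) := by
      rw [Chars.classInner_indFun NP _ hfcl, Chars.classInner_sub_left, classInner_zsmul_left,
        ← Chars.classInner_conj_symm f' χ₀, hu, ← Chars.classInner_conj_symm f' η₀, hw,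
        map_intCast, map_intCast]
      push_cast; ring
    suffices (a : ℤ) ∣ u by
      obtain ⟨k, hk⟩ := this
      exact ⟨k - w, by rw [hres, hk, mul_sub]⟩
    have horth := (S1531.result NP (Cfsg.inducedIrrAbove K ⊥) ↑X ↑Y hirr hXsub hYsub
      (Finset.disjoint_coe.mpr hdisj) ⟨χ₀, hχ₀, _, (hXc χ₀ hχ₀).1, (hXc χ₀ hχ₀).2.symm⟩
      ⟨η₀, hη₀, _, (hYc η₀ hη₀).1, (hYc η₀ hη₀).2.symm⟩ τ₀ hiso hiso1 σ τ hσ hσα hτ hτα).1
    have hcoef : ∀ χ ∈ X, Cfsg.classInner f' χ = ((r χ : ℤ) : ℂ) * (u : ℂ) := by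
      intro χ hχ
      have hm : ((r χ : ℤ) • χ₀) ∈ Cfsg.zspan (↑X : Set (NP → ℂ)) :=
        zspan_zsmul_mem (zspan_subset_apply hχ₀) _
      have hd : χ - (r χ : ℤ) • χ₀ ∈ Cfsg.zspanOn (↑X : Set (NP → ℂ)) {1}ᶜ :=
        mem_zspanOn_one.mpr ⟨zspan_sub_mem (zspan_subset_apply hχ) hm, by simp [hr χ hχ]⟩
      have h0 : Cfsg.classInner (σ (χ - (r χ : ℤ) • χ₀)) (τ η₀) = 0 := by
        rw [iso_map_sub hσ hd.1 hm, hσ.2.1 χ₀ (zspan_subset_apply hχ₀), Chars.classInner_sub_left,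
          classInner_zsmul_left, horth χ hχ η₀ hη₀, horth χ₀ hχ₀ η₀ hη₀, mul_zero, sub_zero]
      replace h0 : Cfsg.classInner (Cfsg.indFun NP (χ - (r χ : ℤ) • χ₀)) (τ η₀) = 0 := by
        have e' := hσα _ hd
        rw [e'] at h0; exact h0
      rw [Chars.classInner_indFun NP _ hfcl, Chars.classInner_sub_left,
        classInner_zsmul_left, ← Chars.classInner_conj_symm f' χ, ← Chars.classInner_conj_symm f' χ₀,
        hu, map_intCast, sub_eq_zero] at h0
      have h1 := congrArg conj h0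
      rw [map_mul, map_intCast, map_intCast, Complex.conj_conj] at h1
      exact h1
    -- the values on `Z`
    have hval : ∀ z ∈ Z, z ≠ 1 →
        (τ η₀ (z : G) - τ η₀ 1) * (deg χ₀ : ℂ) = -(u : ℂ) * (Nat.card NP : ℂ) := by
      intro z hz hz1
      have hexp := fun x : NP => Chars2.apply_eq_sum (virt_isClassFunction (Chars.isGen_restrict hf NP)) x
      have hreg : ∑ χ : Cfsg.IrrCharacter NP, (χ : NP → ℂ) 1 * ((χ : NP → ℂ) z - (χ : NP → ℂ) 1) =
          -(Nat.card NP : ℂ) := by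
        have c1 := Chars.column_orth (G := NP) z 1
        have c2 := Chars.column_orth (G := NP) 1 1
        rw [if_neg (fun h => hz1 (isConj_one_left.mp h))] at c1
        rw [if_pos (IsConj.refl _), show Subgroup.centralizer ({(1 : NP)} : Set NP) = ⊤ from
          top_unique fun y _ => Subgroup.mem_centralizer_singleton_iff.mpr (by simp),
          Subgroup.card_top] at c2
        simp only [mul_sub, Finset.sum_sub_distrib]
        have hc : ∀ χ : Cfsg.IrrCharacter NP, conj ((χ : NP → ℂ) 1) = (χ : NP → ℂ) 1 := fun χ =>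
          Chars.irr_apply_one_conj (Chars.irr_isCharacter χ)
        simp only [hc] at c1 c2
        have c1' : ∑ χ : Cfsg.IrrCharacter NP, (χ : NP → ℂ) 1 * (χ : NP → ℂ) z = 0 :=
          (Finset.sum_congr rfl fun χ _ => mul_comm _ _).trans c1
        rw [c1', c2, zero_sub]
      have hterm : ∀ χ : Cfsg.IrrCharacter NP,
          Cfsg.classInner f' (χ : NP → ℂ) * ((χ : NP → ℂ) z - (χ : NP → ℂ) 1) * (deg χ₀ : ℂ) =
            (u : ℂ) * ((χ : NP → ℂ) 1 * ((χ : NP → ℂ) z - (χ : NP → ℂ) 1)) := by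
        intro χ
        by_cases h : (χ : NP → ℂ) z = (χ : NP → ℂ) 1
        · rw [h, sub_self, mul_zero, mul_zero, zero_mul, mul_zero]
        have hχX : (χ : NP → ℂ) ∈ X := by
          rw [← Finset.mem_coe, hXcoe, hXset]
          exact ⟨χ.2, z, hz, h⟩
        rw [hcoef _ hχX, hr _ hχX, deg_spec (hR.isCharacter χ₀ (hXsub hχ₀))]
        push_cast; ring
      rw [show τ η₀ 1 = τ η₀ ((1 : NP) : G) from rfl, hexp z, hexp 1,
        ← Finset.sum_sub_distrib, Finset.sum_mul]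
      simp only [← mul_sub]
      rw [Finset.sum_congr rfl fun χ _ => hterm χ, ← Finset.mul_sum, hreg]
      ring
    -- congruence
    have hn1 : Cfsg.classInner (τ η₀) (τ η₀) = 1 := by
      rw [hτ.2.2.1 η₀ (zspan_subset_apply hη₀) η₀ (zspan_subset_apply hη₀),
        Chars.classInner_self_irr (hirr _ (hYsub hη₀))]
    obtain ⟨ψ, hψ, ε, hε, hψε⟩ : ∃ ψ, Cfsg.IsIrrCharacter G ψ ∧
        ∃ ε : ℤ, (ε = 1 ∨ ε = -1) ∧ τ η₀ = ε • ψ := by
      rcases virt_norm_one hf hn1 with h | h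
      · exact ⟨τ η₀, h, 1, Or.inl rfl, by rw [one_smul]⟩
      · exact ⟨-τ η₀, h, -1, Or.inr rfl, by simp⟩
    have hεne : (ε : ℂ) ≠ 0 := by rcases hε with h | h <;> simp [h]
    have hψval : ∀ g : G, τ η₀ g = (ε : ℂ) * ψ g := fun g => by simp [hψε]
    obtain ⟨z, hz, hz1⟩ := (Subgroup.bot_or_exists_ne_one Z).resolve_left hZ1
    obtain ⟨n, d, hn, hd, hPdvd⟩ := ti_congr (P := P) hTI hodd (Z.map (NP).subtype)
      (by rintro _ ⟨x, hx, rfl⟩; exact hZK hx)
      (fun x hx z hz => by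
        obtain ⟨y, hy, rfl⟩ := hz
        exact ⟨⟨x, hx⟩ * y * ⟨x, hx⟩⁻¹, (inferInstance : Z.Normal).conj_mem y hy _, rfl⟩)
      (by
        rintro _ ⟨x, hx, rfl⟩ y hy
        exact congrArg Subtype.val (hZc x hx ⟨y, Subgroup.le_normalizer hy⟩ hy))
      hψ (by
        rintro _ ⟨x, hx, rfl⟩ _ ⟨y, hy, rfl⟩ hx1 hy1
        have h1 := hval x hx (fun h => hx1 (by simp [h]))
        have h2 := hval y hy (fun h => hy1 (by simp [h]))
        have h3 := mul_right_cancel₀ (by exact_mod_cast hd₀pos.ne' : (deg χ₀ : ℂ) ≠ 0)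
          (h1.trans h2.symm)
        rw [sub_left_inj, hψval, hψval] at h3
        exact mul_left_cancel₀ hεne h3)
      (Subgroup.mem_map_of_mem _ hz) (fun h => hz1 ((NP).subtype_injective (h.trans (map_one _).symm)))
    obtain ⟨q, hq⟩ := hPdvd
    have hNcard : (Nat.card NP : ℤ) = (e : ℤ) * Nat.card (P : Subgroup G) := by
      rw [← Nat.card_congr (Subgroup.subgroupOfEquivOfLe
        (Subgroup.le_normalizer (H := (P : Subgroup G)))).toEquiv, he, hKdef]
      exact_mod_cast (KP).index_mul_card.symm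
    have hmain := hval z hz hz1
    rw [hψval, hψval, show ψ ((z : NP) : G) = (n : ℂ) from hn, hd, hχ₀d] at hmain
    have hmain' : ε * (n - d) * ((e : ℤ) * (a : ℤ)) = -u * Nat.card NP := by
      have : ((ε * (n - d) * ((e : ℤ) * (a : ℤ)) : ℤ) : ℂ) = ((-u * Nat.card NP : ℤ) : ℂ) := by
        push_cast
        push_cast at hmain
        linear_combination hmain
      exact_mod_cast this
    rw [hNcard, show n - d = -((Nat.card (P : Subgroup G) : ℤ) * q) by omega] at hmain'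
    refine ⟨ε * q, mul_left_cancel₀ (show ((e : ℤ) * Nat.card (P : Subgroup G)) ≠ 0 from
      mul_ne_zero (by exact_mod_cast hepos.ne') (by exact_mod_cast Nat.card_pos.ne')) ?_⟩
    linear_combination hmain'
  have hjoin := sibley_join NP X Y (fun φ h => hirr φ (hXsub h)) (fun φ h => hirr φ (hYsub h)) hdisj
    hXc hYc _ hirr hXsub hYsub hiso hiso1 hχ₀ hη₀ r hr
    (fun η hη => by
      rw [deg_spec (hR.isCharacter η (hYsub hη)), deg_spec (hR.isCharacter η₀ (hYsub hη₀)),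
        hYdeg η hη, hYdeg η₀ hη₀])
    a (pow_pos hpf.out.pos _) hχη σ τ hσ hσα hτ hτα hdvd
  rw [← Finset.coe_union] at hjoin
  -- the remaining characters
  have h := coherent_extend hR (X ∪ Y)
    (by rw [Finset.coe_union]; exact Set.union_subset hXsub hYsub)
    (fun φ hφ => by
      rcases Finset.mem_union.mp hφ with h | h
      · exact Finset.mem_union_left _ (hXc φ h).1
      · exact Finset.mem_union_right _ (hYc φ h).1)
    hjoin (Finset.mem_union_right _ hη₀) F (by rw [hFcoe])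
    (fun φ hφ => by
      rw [← Finset.mem_coe, hFcoe] at hφ ⊢
      exact indAbove_conj_mem K ⊥ hφ) ?_
  · rw [Finset.union_eq_right.mpr (Finset.union_subset (by
      intro φ hφ; rw [← Finset.mem_coe, hFcoe]; exact hXsub hφ) (by
      intro φ hφ; rw [← Finset.mem_coe, hFcoe]; exact hYsub hφ)), hFcoe] at h
    exact h
  intro φ hφ
  rw [← Finset.mem_coe, hFcoe] at hφ
  by_cases hmem : φ ∈ X ∪ Y
  · exact Or.inl hmem
  right
  have hj : i φ hφ ≠ 0 := fun h0 => hmem (Finset.mem_union_right _ (by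
    rw [← Finset.mem_coe, hYcoe]; exact hi0 φ hφ h0))
  rw [hi φ hφ, hη₀d, ← he]
  refine ⟨dvd_mul_right _ _, lt_of_lt_of_le ?_ (weight_mono Finset.subset_union_left)⟩
  -- the weight of `X`
  have hsub : FZ ⊆ F := by
    intro x hx
    rw [← Finset.mem_coe, hFZcoe] at hx
    rw [← Finset.mem_coe, hFcoe]
    exact indAbove_subset_bot K Z hx
  have hwX : weight X = (e : ℝ) * ((Nat.card K : ℝ) - Z.relIndex K) := by
    have h1 : weight X + weight FZ = weight F := Finset.sum_sdiff hsub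
    rw [hFZdef, hFdef, weight_indAbove K Z hZK, weight_indAbove K ⊥ bot_le,
      Subgroup.relIndex_bot_left] at h1
    linarith
  rw [hwX]
  -- `2 e + 1 ≤ |Z|`
  have hcen : ∀ z ∈ Z, z ≠ 1 → ∀ x : NP, (x * z * x⁻¹ = z ↔ x ∈ K) := by
    intro z hz hz1 x
    constructor
    · intro h
      exact hC z (hZK hz) hz1 (Subgroup.mem_centralizer_singleton_iff.mpr
        (by first | exact mul_inv_eq_iff_eq_mul.mp h | exact (mul_inv_eq_iff_eq_mul.mp h).symm))
    · intro hx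
      rw [← hZc z hz x hx, mul_inv_cancel_right]
  obtain ⟨j, hj'⟩ := index_dvd_card_sub_one Z K hcen
  haveI : Nontrivial Z := (Subgroup.nontrivial_iff_ne_bot Z).mpr hZ1
  have hZ2 : 1 < Nat.card Z := Finite.one_lt_card
  obtain ⟨ez, hez⟩ := Odd.of_dvd_nat hodd Z.card_subgroup_dvd_card
  obtain ⟨ee, hee⟩ := Odd.of_dvd_nat hodd K.index_dvd_card
  have hj2 : 2 ≤ j := by
    rcases j with _ | _ | j
    · simp only [mul_zero] at hj'; omega
    · simp only [zero_add, mul_one, ← he] at hj'; rw [← he] at hee; omega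
    · omega
  have hKZ : Z.relIndex K * Nat.card Z = Nat.card K := by
    have h := (Z.subgroupOf K).index_mul_card
    rwa [Nat.card_congr (Subgroup.subgroupOfEquivOfLe hZK).toEquiv] at h
  have hsq := hi2 φ hφ
  have hp2 : 2 ≤ p ^ i φ hφ := le_trans hpf.out.two_le (Nat.le_self_pow hj p)
  have hkey : 2 * (e * p ^ i φ hφ) * e + e * Z.relIndex K < e * Nat.card K := by
    rw [← hKZ, show Nat.card Z = e * j + 1 by rw [he]; omega]
    set t := Z.relIndex K
    set P' := p ^ i φ hφ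
    have h1 : P' < t := by nlinarith
    have h2 : 2 * (e * P') * e < e * (e * (j * t)) := by
      have h3 : 2 * P' < j * t := by nlinarith
      have h4 : e * e * (2 * P') < e * e * (j * t) :=
        Nat.mul_lt_mul_of_pos_left h3 (Nat.mul_pos hepos hepos)
      calc 2 * (e * P') * e = e * e * (2 * P') := by ring
        _ < e * e * (j * t) := h4
        _ = e * (e * (j * t)) := by ring
    calc 2 * (e * P') * e + e * t < e * (e * (j * t)) + e * t := Nat.add_lt_add_right h2 _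
      _ = e * (t * (e * j + 1)) := by ring
  have hkey' := (Nat.cast_lt (α := ℝ)).mpr hkey
  push_cast at hkey' ⊢
  linarith

end Cfsg.Agent.OddChar
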