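/-
The exceptional characters of one trivial-intersection Frobenius kernel.
-/
import Cfsg.Agent.OddChar.SibleyCase
import Cfsg.Agent.OddChar.FrobNilpotent
import Cfsg.Agent.OddChar.FrobCoprime
import Cfsg.Agent.OddChar.InducedSet
import Cfsg.Agent.Chars2.TI
import Cfsg.Agent.Chars.InducedNormal

set_option autoImplicit false
set_option linter.style.haveILetI false
set_option linter.unusedSectionVars false

open scoped Classical ComplexConjugate

namespace Cfsg.Agent.OddChar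

universe u

variable {G : Type u} [Group G] [Fintype G]

/-- The conjugates of the nonidentity elements of `H`. -/
def cov (H : Subgroup G) : Set G := {g | g ≠ 1 ∧ ∃ x : G, x * g * x⁻¹ ∈ H}

/-- The average over `C`. -/
noncomputable def cmass (C : Set G) (f : G → ℂ) : ℂ :=
  (Nat.card G : ℂ)⁻¹ * ∑ g : G, if g ∈ C then f g else 0

theorem conjFun_indFun {X : Type u} [Group X] [Fintype X] (L : Subgroup X) (α : L → ℂ) :
    Cfsg.conjFun (Cfsg.indFun L α) = Cfsg.indFun L (Cfsg.conjFun α) := by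
  funext g
  simp only [Cfsg.conjFun, Cfsg.indFun, map_mul, map_inv₀, map_natCast, map_sum]
  congr 1
  refine Finset.sum_congr rfl fun x _ => ?_
  by_cases h : x⁻¹ * g * x ∈ L
  · rw [Chars2.extByZero_mem _ _ _ h, Chars2.extByZero_mem _ _ _ h]
    rfl
  · rw [Chars2.extByZero_not_mem _ _ _ h, Chars2.extByZero_not_mem _ _ _ h, map_zero]

section local_part

variable {L : Type u} [Group L] [Fintype L] (K : Subgroup L) [hKn : K.Normal]

/-- The indicator of `K`. -/
noncomputable def kInd : L → ℂ := fun x => if x ∈ K then 1 else 0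

/-- The regular character minus the one of the quotient, divided by the index. -/
noncomputable def kReg : L → ℂ := fun x =>
  if x = 1 then (Nat.card K : ℂ) - 1 else if x ∈ K then -1 else 0

theorem kInd_classFun : Cfsg.IsClassFunction L (kInd K) := fun x g => by
  have h : g * x * g⁻¹ ∈ K ↔ x ∈ K := (hKn.mem_comm_iff).trans (by simp)
  simp [kInd, h]

theorem indFun_one_eq : Cfsg.indFun K (fun _ => (1 : ℂ)) = (K.index : ℂ) • kInd K := by
  funext x
  by_cases hx : x ∈ K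
  · rw [show x = ((⟨x, hx⟩ : K) : L) from rfl, Chars.indFun_coe_normal]
    simp only [Finset.sum_const, Finset.card_univ, nsmul_eq_mul, mul_one, Pi.smul_apply, kInd, hx, if_true,
      smul_eq_mul]
    rw [← Nat.card_eq_fintype_card, ← K.card_mul_index, Nat.cast_mul,
      inv_mul_cancel_left₀ (Chars.subgroup_card_ne_zero K)]
  · rw [Chars.indFun_of_not_mem_normal _ _ hx]
    simp [kInd, hx]

theorem classInner_kInd (f : L → ℂ) : Cfsg.classInner f (kInd K) =
    (Nat.card L : ℂ)⁻¹ * ∑ x : L, if x ∈ K then f x else 0 := by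
  rw [Chars.classInner_def]
  congr 1
  refine Finset.sum_congr rfl fun x _ => ?_
  by_cases hx : x ∈ K <;> simp [kInd, hx]

theorem kReg_eq : kReg K = (fun x : L => if x = 1 then (Nat.card K : ℂ) else 0) - kInd K := by
  funext x
  by_cases hx : x = 1
  · simp [kReg, kInd, hx]
  · by_cases hk : x ∈ K <;> simp [kReg, kInd, hx, hk]

theorem classInner_kReg (f : L → ℂ) :
    Cfsg.classInner f (kReg K) = (K.index : ℂ)⁻¹ * f 1 - Cfsg.classInner f (kInd K) := by
  rw [kReg_eq, Chars.classInner_sub_right]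
  congr 1
  rw [Chars.classInner_def, Finset.sum_eq_single (1 : L) (fun x _ hx => by simp [hx]) (by simp)]
  simp only [if_true, map_natCast]
  rw [← K.card_mul_index, Nat.cast_mul]
  field_simp [Chars.subgroup_card_ne_zero K]

theorem index_ne_zero' : (K.index : ℂ) ≠ 0 := by exact_mod_cast Subgroup.index_ne_zero_of_finite

theorem kInd_self : Cfsg.classInner (kInd K) (kInd K) = (K.index : ℂ)⁻¹ := by
  rw [classInner_kInd]
  simp only [kInd]
  rw [Finset.sum_congr rfl (g := fun x : L => if x ∈ K then (1 : ℂ) else 0) (fun x _ => by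
    by_cases hx : x ∈ K <;> simp [hx]), Finset.sum_boole, ← K.card_mul_index, Nat.cast_mul,
    ← Fintype.card_subtype, ← Nat.card_eq_fintype_card, mul_inv, mul_comm, ← mul_assoc,
    mul_inv_cancel₀ (Chars.subgroup_card_ne_zero K), one_mul]

theorem kInd_one : Cfsg.classInner (kInd K) (fun _ => 1) = (K.index : ℂ)⁻¹ := by
  rw [← kInd_self K, classInner_kInd, Chars.classInner_def]
  congr 1
  refine Finset.sum_congr rfl fun x _ => ?_
  by_cases hx : x ∈ K <;> simp [kInd, hx]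

theorem kInd_orth {θ : K → ℂ} (hθ : Cfsg.IsIrrCharacter K θ) (hne : θ ≠ fun _ => 1) :
    Cfsg.classInner (Cfsg.indFun K θ) (kInd K) = 0 := by
  rw [Chars.classInner_indFun K θ (kInd_classFun K)]
  have : (fun k : K => kInd K k) = fun _ => (1 : ℂ) := funext fun k => by simp [kInd]
  rw [this]
  exact Chars.classInner_irr_of_ne hθ Chars.isIrrCharacter_one hne

end local_part

theorem ti_kernel_coherent (H L : Subgroup G) (hodd : Odd (Nat.card G)) (hHL : H ≤ L) (hH1 : H ≠ ⊥)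
    [(H.subgroupOf L).Normal] (hlt : H.subgroupOf L < ⊤)
    (hC : ∀ k ∈ H.subgroupOf L, k ≠ 1 → Subgroup.centralizer ({k} : Set L) ≤ H.subgroupOf L)
    (hTI : Cfsg.IsTISubset (H : Set G)) (hN : Subgroup.normalizer (H : Set G) = L) :
    Cfsg.IsCoherent (Cfsg.inducedIrrAbove (H.subgroupOf L) ⊥) {1}ᶜ
      (fun α : L → ℂ => Cfsg.indFun L α) := by
  have hoddL : Odd (Nat.card L) := Odd.of_dvd_nat hodd (Subgroup.card_subgroup_dvd_card L)
  have hnil : Group.IsNilpotent (H.subgroupOf L) := frob_nilpotent _ hC hlt.ne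
  by_cases hcase : (¬ ∃ p m : ℕ, p.Prime ∧ Nat.card H = p ^ m) ∨
      ⁅H.subgroupOf L, H.subgroupOf L⁆ = ⊥
  · exact sibley_easy H L hHL hTI hN hoddL hH1 hlt hnil hC hcase
  push Not at hcase
  obtain ⟨⟨p, m, hp, hm⟩, hna⟩ := hcase
  haveI : Fact p.Prime := ⟨hp⟩
  subst hN
  obtain ⟨P, hP⟩ := exists_sylow_eq (p := p) H (IsPGroup.iff_card.mpr ⟨m, hm⟩) (by
    intro hd
    have hcop := frob_coprime _ hC
    rw [Nat.card_congr (Subgroup.subgroupOfEquivOfLe hHL).toEquiv, hm] at hcop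
    have hm0 : m ≠ 0 := fun h => hH1 (Subgroup.card_eq_one.mp (by rw [hm, h, pow_zero]))
    exact Nat.Prime.not_coprime_iff_dvd.mpr ⟨p, hp, dvd_pow_self p hm0, hd⟩ hcop)
  subst hP
  exact sibley_sylow P hTI hoddL hlt hC hna

/-- Averages over the conjugates of a TI kernel are averages over the normaliser. -/
theorem cmass_ti (H L : Subgroup G) (hHL : H ≤ L) (hTI : Cfsg.IsTISubset (H : Set G))
    (hN : Subgroup.normalizer (H : Set G) = L) {f : G → ℂ} (hf : Cfsg.IsClassFunction G f) :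
    cmass (cov H) f =
      (Nat.card L : ℂ)⁻¹ * ∑ x : L, if (x : G) ∈ H ∧ x ≠ 1 then f x else 0 := by
  set φ : L → ℂ := fun x => if (x : G) ∈ H ∧ x ≠ 1 then f x else 0
  set T : Set G := {g | g ∈ H ∧ g ≠ 1}
  have hsupp : ∀ x : L, (x : G) ∉ T → φ x = 0 := fun x hx => if_neg fun h => hx ⟨h.1, fun h1 =>
    h.2 (Subtype.ext h1)⟩
  have hTI' : ∀ g : G, g ∉ L → ∀ s ∈ T, g * s * g⁻¹ ∉ T := fun g hg s hs hgs =>
    hs.2 (hTI g (by rw [hN]; exact hg) s hs.1 hgs.1)
  have hφ : Cfsg.IsClassFunction L φ := by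
    intro x y
    have h1 : ((y : G) * x * (y : G)⁻¹ ∈ H) ↔ (x : G) ∈ H :=
      (Subgroup.mem_normalizer_iff.mp (by rw [hN]; exact y.2) (x : G)).symm
    have h2 : y * x * y⁻¹ ≠ 1 ↔ x ≠ 1 := not_congr conj_eq_one_iff
    simp only [φ, Subgroup.coe_mul, Subgroup.coe_inv, h1, h2]
    rw [hf (x : G) (y : G)]
  have key : ∀ g : G, Cfsg.indFun L φ g = if g ∈ cov H then f g else 0 := by
    intro g
    by_cases hg : g ∈ cov H
    · obtain ⟨hg1, x, hx⟩ := hg
      rw [if_pos ⟨hg1, x, hx⟩, ← Chars2.indFun_conj L φ g x,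
        show x * g * x⁻¹ = ((⟨x * g * x⁻¹, hHL hx⟩ : L) : G) from rfl,
        Chars2.indFun_eq_of_ti L φ T hsupp hTI' hφ _ ⟨hx, fun h => hg1 (conj_eq_one_iff.mp h)⟩]
      have h1 : (⟨x * g * x⁻¹, hHL hx⟩ : L) ≠ 1 := fun h => hg1 (conj_eq_one_iff.mp (congrArg Subtype.val h))
      simp only [φ, hx, h1, and_self, ne_eq, not_false_eq_true, if_true]
      exact hf g x
    · rw [if_neg hg]
      refine Chars2.indFun_eq_zero_of_support L φ T hsupp g fun x hx => hg ⟨?_, x⁻¹, ?_⟩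
      · rintro rfl; exact hx.2 (by group)
      · simpa using hx.1
  have h := Chars2.indFun_reciprocity L φ (ψ := fun _ => (1 : ℂ)) (fun _ _ => rfl)
  simp only [Chars.classInner_def, map_one, mul_one, key] at h
  exact h

/-- The exceptional characters attached to a TI Frobenius kernel. -/
structure Exc (H L : Subgroup G) where
  /-- index -/
  e : ℕ
  /-- number of exceptional characters, weighted -/
  D : ℕ
  /-- sign -/
  ε : ℤ
  /-- value on the kernel -/
  b : ℤ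
  /-- the basic virtual character -/
  B : G → ℂ
  /-- index set -/
  S : Finset (Cfsg.IrrCharacter L)
  /-- degrees -/
  d : Cfsg.IrrCharacter L → ℕ
  /-- exceptional characters -/
  t : Cfsg.IrrCharacter L → Cfsg.IrrCharacter G
  /-- base point -/
  o : Cfsg.IrrCharacter L
  /-- its conjugate -/
  ob : Cfsg.IrrCharacter L
  e_odd : Odd e
  e_ge : 3 ≤ e
  card_H : Nat.card H = e * D + 1
  card_L : Nat.card L = e * Nat.card H
  D_even : Even D
  D_ge : 2 ≤ D
  sign : ε = 1 ∨ ε = -1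
  t_inj : ∀ ψ ∈ S, ∀ φ ∈ S, t ψ = t φ → ψ = φ
  o_mem : o ∈ S
  ob_mem : ob ∈ S
  o_ne : o ≠ ob
  sum_sq : ∑ ψ ∈ S, d ψ ^ 2 = D
  t_conj : ∀ ψ ∈ S, ∃ φ ∈ S, φ ≠ ψ ∧ Cfsg.conjFun (t ψ : G → ℂ) = (t φ : G → ℂ) ∧
    ∀ g : G, g ∉ cov H → (t ψ : G → ℂ) g = (t φ : G → ℂ) g
  t_diff : ∀ ψ ∈ S, ∀ g : G, g ∉ cov H → (t ψ : G → ℂ) g = (d ψ : ℂ) * (t o : G → ℂ) g
  t_conj_o : Cfsg.conjFun (t o : G → ℂ) = (t ob : G → ℂ)
  B_virt : Cfsg.IsGeneralizedCharacter G B
  B_supp : ∀ g : G, g ∉ cov H → B g = 0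
  B_norm : Cfsg.classInner B B = (e : ℂ) + 1
  B_one : Cfsg.classInner B (fun _ => 1) = 1
  B_conj : Cfsg.conjFun B = B + (ε : ℂ) • ((t o : G → ℂ) - (t ob : G → ℂ))
  B_o : Cfsg.classInner B (t o : G → ℂ) = (b : ℂ) - ε
  B_ob : Cfsg.classInner B (t ob : G → ℂ) = b
  mass_o : cmass (cov H) (fun g => (t o : G → ℂ) g * conj ((t o : G → ℂ) g)) =
    1 - ((e : ℂ) + 2 * ε * b) / Nat.card H + (b : ℂ) ^ 2 * D / Nat.card H
  const : ∀ χ : Cfsg.IrrCharacter G, (∀ ψ ∈ S, t ψ ≠ χ) →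
    ∀ g ∈ cov H, (χ : G → ℂ) g = Cfsg.classInner B (χ : G → ℂ)

theorem exists_exc (H L : Subgroup G) (hodd : Odd (Nat.card G)) (hHL : H ≤ L) (hH1 : H ≠ ⊥)
    [(H.subgroupOf L).Normal] (hlt : H.subgroupOf L < ⊤)
    (hC : ∀ k ∈ H.subgroupOf L, k ≠ 1 → Subgroup.centralizer ({k} : Set L) ≤ H.subgroupOf L)
    (hTI : Cfsg.IsTISubset (H : Set G)) (hN : Subgroup.normalizer (H : Set G) = L) :
    Nonempty (Exc H L) := by
  set K := H.subgroupOf L with hK
  set e := K.index with he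
  have heC : (e : ℂ) ≠ 0 := index_ne_zero' K
  have hoddL : Odd (Nat.card L) := Odd.of_dvd_nat hodd (Subgroup.card_subgroup_dvd_card L)
  have hcardK : Nat.card K = Nat.card H := Nat.card_congr (Subgroup.subgroupOfEquivOfLe hHL).toEquiv
  have hcardL : Nat.card L = e * Nat.card H := by rw [← hcardK, mul_comm]; exact (K.card_mul_index).symm
  have he_odd : Odd e := Odd.of_dvd_nat hoddL (Dvd.intro _ hcardL.symm)
  have he3 : 3 ≤ e := by
    have h1 : e ≠ 1 := fun h => hlt.ne (Subgroup.index_eq_one.mp h)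
    obtain ⟨k, hk⟩ := he_odd
    omega
  have hnil : Group.IsNilpotent K := frob_nilpotent _ hC hlt.ne
  haveI := hnil
  have hsolv : Group.IsSolvable K := inferInstance
  set S₀ := Cfsg.inducedIrrAbove K ⊥ with hS₀
  obtain ⟨τ₁, hτ, hτe⟩ : ∃ τ₁ : (L → ℂ) → (G → ℂ), Cfsg.IsLinearIsometryOn (Cfsg.zspan S₀) τ₁ ∧
      ∀ α ∈ Cfsg.zspanOn S₀ {1}ᶜ, τ₁ α = Cfsg.indFun L α :=
    (ti_kernel_coherent H L hodd hHL hH1 hlt hC hTI hN).2
  have hirr : ∀ φ ∈ S₀, Cfsg.IsIrrCharacter L φ := fun φ hφ => by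
    rw [hS₀, frob_indAbove_eq hC] at hφ; exact hφ.1
  have hout : ∀ φ : L → ℂ, Cfsg.IsIrrCharacter L φ → φ ∉ S₀ → ∀ k ∈ K, φ k = φ 1 := by
    intro φ hφ hn k hk
    by_contra h
    exact hn (by rw [hS₀, frob_indAbove_eq hC]; exact ⟨hφ, k, hk, h⟩)
  have hKbot : (⊥ : Subgroup L) < K := Ne.bot_lt fun h => hH1 (by
    rw [← Subgroup.map_subgroupOf_eq_of_le hHL, ← hK, h, Subgroup.map_bot])
  obtain ⟨ψ₁, hψ₁, hdeg₁⟩ := exists_linear_above K hsolv ⊥ hKbot
  -- degrees
  have hdeg : ∀ φ ∈ S₀, ∃ n : ℕ, 0 < n ∧ φ 1 = (e : ℂ) * n := by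
    rintro φ ⟨θ, hθ, -, -, rfl⟩
    obtain ⟨n, hn0, hn⟩ := Chars.exists_irr_apply_one_eq hθ
    exact ⟨n, hn0, by rw [Chars.indFun_apply_one, hn]⟩
  have hψ₁1 : ψ₁ 1 = e := by
    obtain ⟨n, -, hn⟩ := hdeg ψ₁ hψ₁
    rw [deg, hn, show ((e : ℂ) * n) = ((e * n : ℕ) : ℂ) by push_cast; ring, Complex.natCast_re,
      Nat.floor_natCast] at hdeg₁
    rw [hn, show n = 1 from by
      have : e * n = e * 1 := by rw [mul_one]; exact hdeg₁
      exact Nat.eq_of_mul_eq_mul_left (by omega) this, Nat.cast_one, mul_one]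
  let d : Cfsg.IrrCharacter L → ℕ := fun ψ => deg (ψ : L → ℂ) / e
  have hd : ∀ ψ : Cfsg.IrrCharacter L, (ψ : L → ℂ) ∈ S₀ → 0 < d ψ ∧ (ψ : L → ℂ) 1 = (e : ℂ) * d ψ := by
    intro ψ hψ
    obtain ⟨n, hn0, hn⟩ := hdeg _ hψ
    have : d ψ = n := by
      show deg (ψ : L → ℂ) / e = n
      rw [deg, hn, show ((e : ℂ) * n) = ((e * n : ℕ) : ℂ) by push_cast; ring, Complex.natCast_re,
        Nat.floor_natCast, Nat.mul_div_cancel_left _ (by omega)]
    rw [this]; exact ⟨hn0, hn⟩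
  -- the differences
  have hmem : ∀ φ ∈ S₀, φ ∈ Cfsg.zspan S₀ := fun φ hφ => zspan_subset_apply hφ
  have hdiff : ∀ φ ∈ S₀, ∀ n : ℕ, φ 1 = (e : ℂ) * n → ∀ ψ ∈ S₀, ψ 1 = (e : ℂ) →
      φ - (n : ℤ) • ψ ∈ Cfsg.zspanOn S₀ {1}ᶜ := by
    intro φ hφ n hn ψ hψ hψe
    rw [mem_zspanOn_one]
    refine ⟨zspan_sub_mem (hmem _ hφ) (zspan_zsmul_mem (hmem _ hψ) _), ?_⟩
    simp [hn, hψe, mul_comm]
  have hτdiff : ∀ φ ∈ S₀, ∀ n : ℕ, φ 1 = (e : ℂ) * n → ∀ ψ ∈ S₀, ψ 1 = (e : ℂ) →
      τ₁ φ - (n : ℤ) • τ₁ ψ = Cfsg.indFun L (φ - (n : ℤ) • ψ) := by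
    intro φ hφ n hn ψ hψ hψe
    rw [← hτe _ (hdiff φ hφ n hn ψ hψ hψe), iso_map_sub hτ
      (zspan_sub_mem (hmem _ hφ) (zspan_zsmul_mem (hmem _ hψ) _)) (zspan_zsmul_mem (hmem _ hψ) _),
      hτ.2.1 _ (hmem _ hψ)]
  have hindsupp : ∀ α ∈ Cfsg.zspanOn S₀ {1}ᶜ, ∀ g : G, g ∉ cov H → Cfsg.indFun L α g = 0 := by
    intro α hα g hg
    obtain ⟨hα1, hα0⟩ := mem_zspanOn_one.mp hα
    refine Chars2.indFun_eq_zero_of_support L α {g | g ∈ H ∧ g ≠ 1} (fun x hx => ?_) g
      fun x hx => hg ⟨fun h => hx.2 (by rw [h]; group), x⁻¹, by simpa using hx.1⟩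
    by_cases hx1 : x = 1
    · rw [hx1]; exact hα0
    · exact indAbove_vanish_outside hα1 fun h => hx ⟨h, fun h' => hx1 (Subtype.ext h')⟩
  -- the signed images
  obtain ⟨ε, hε, hεirr⟩ : ∃ ε : ℤ, (ε = 1 ∨ ε = -1) ∧
      Cfsg.IsIrrCharacter G ((ε : ℂ) • τ₁ ψ₁) := by
    rcases virt_norm_one (hτ.2.2.2 _ (hmem _ hψ₁))
      (by rw [hτ.2.2.1 _ (hmem _ hψ₁) _ (hmem _ hψ₁), Chars.classInner_self_irr (hirr _ hψ₁)]) with h | h
    · exact ⟨1, Or.inl rfl, by simpa using h⟩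
    · exact ⟨-1, Or.inr rfl, by simpa using h⟩
  have hε2 : (ε : ℂ) * ε = 1 := by rcases hε with rfl | rfl <;> simp
  have hεc : conj (ε : ℂ) = ε := map_intCast _ ε
  have himg : ∀ φ ∈ S₀, Cfsg.IsIrrCharacter G ((ε : ℂ) • τ₁ φ) := by
    intro φ hφ
    obtain ⟨n, hn0, hn⟩ := hdeg φ hφ
    have h1 : ((ε : ℂ) • τ₁ φ) 1 = (n : ℂ) * ((ε : ℂ) • τ₁ ψ₁) 1 := by
      have h := congrFun (hτdiff φ hφ n hn ψ₁ hψ₁ hψ₁1) 1
      rw [Chars.indFun_apply_one, (mem_zspanOn_one.mp (hdiff φ hφ n hn ψ₁ hψ₁ hψ₁1)).2, mul_zero,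
        Pi.sub_apply, Pi.smul_apply, zsmul_eq_mul, sub_eq_zero] at h
      simp only [Pi.smul_apply, smul_eq_mul, h]
      push_cast; ring
    obtain ⟨m, hm0, hm⟩ := Chars.exists_irr_apply_one_eq hεirr
    rcases virt_norm_one (hτ.2.2.2 _ (hmem _ hφ))
      (by rw [hτ.2.2.1 _ (hmem _ hφ) _ (hmem _ hφ), Chars.classInner_self_irr (hirr _ hφ)]) with h | h
    · rcases hε with rfl | rfl
      · simpa using h
      · exfalso
        obtain ⟨k, hk0, hk⟩ := Chars.exists_irr_apply_one_eq h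
        rw [hm, Pi.smul_apply, smul_eq_mul, hk] at h1
        have : (((-(k : ℤ)) : ℤ) : ℂ) = ((n * m : ℕ) : ℤ) := by push_cast; push_cast at h1; linear_combination h1
        have := Int.cast_injective this
        have : 0 < n * m := Nat.mul_pos hn0 hm0
        omega
    · rcases hε with rfl | rfl
      · exfalso
        obtain ⟨k, hk0, hk⟩ := Chars.exists_irr_apply_one_eq h
        rw [Pi.neg_apply] at hk
        rw [hm, Pi.smul_apply, smul_eq_mul, show τ₁ φ 1 = -(k : ℂ) by rw [← hk, neg_neg]] at h1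
        have : (((-(k : ℤ)) : ℤ) : ℂ) = ((n * m : ℕ) : ℤ) := by push_cast; push_cast at h1; linear_combination h1
        have := Int.cast_injective this
        have : 0 < n * m := Nat.mul_pos hn0 hm0
        omega
      · simpa using h
  let t : Cfsg.IrrCharacter L → Cfsg.IrrCharacter G := fun ψ =>
    if h : (ψ : L → ℂ) ∈ S₀ then ⟨(ε : ℂ) • τ₁ ψ, himg _ h⟩ else ⟨(ε : ℂ) • τ₁ ψ₁, hεirr⟩
  have ht : ∀ ψ : Cfsg.IrrCharacter L, (ψ : L → ℂ) ∈ S₀ → (t ψ : G → ℂ) = (ε : ℂ) • τ₁ ψ := fun ψ h => by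
    simp only [t, dif_pos h]
  have htinner : ∀ φ ∈ S₀, ∀ ψ ∈ S₀,
      Cfsg.classInner ((ε : ℂ) • τ₁ φ) ((ε : ℂ) • τ₁ ψ) = Cfsg.classInner φ ψ := by
    intro φ hφ ψ hψ
    rw [Chars.classInner_smul_left, Chars.classInner_smul_right, hεc, ← mul_assoc, hε2, one_mul,
      hτ.2.2.1 _ (hmem _ hφ) _ (hmem _ hψ)]
  have htne : ∀ φ ∈ S₀, ∀ ψ ∈ S₀, φ ≠ ψ → (ε : ℂ) • τ₁ φ ≠ (ε : ℂ) • τ₁ ψ := by
    intro φ hφ ψ hψ hne h
    have h1 := htinner φ hφ ψ hψ
    rw [h, htinner ψ hψ ψ hψ, Chars.classInner_self_irr (hirr _ hψ),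
      Chars.classInner_irr_of_ne (hirr _ hφ) (hirr _ hψ) hne] at h1
    exact one_ne_zero h1
  -- complex conjugation
  have hconj : ∀ φ ∈ S₀, Cfsg.conjFun ((ε : ℂ) • τ₁ φ) = (ε : ℂ) • τ₁ (Cfsg.conjFun φ) ∧
      Cfsg.indFun L (φ - Cfsg.conjFun φ) = τ₁ φ - τ₁ (Cfsg.conjFun φ) ∧
      φ - Cfsg.conjFun φ ∈ Cfsg.zspanOn S₀ {1}ᶜ := by
    intro φ hφ
    have hφb : Cfsg.conjFun φ ∈ S₀ := indAbove_conj_mem K ⊥ hφ
    have hne : Cfsg.conjFun φ ≠ φ := frob_conj_ne hoddL hC hφ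
    have hz : φ - Cfsg.conjFun φ ∈ Cfsg.zspanOn S₀ {1}ᶜ := by
      rw [mem_zspanOn_one]
      refine ⟨zspan_sub_mem (hmem _ hφ) (hmem _ hφb), ?_⟩
      rw [Pi.sub_apply, conjFun_apply_one (Chars.isCharacter_of_isIrr (hirr _ hφ)), sub_self]
    have hD : Cfsg.indFun L (φ - Cfsg.conjFun φ) = τ₁ φ - τ₁ (Cfsg.conjFun φ) := by
      rw [← hτe _ hz, iso_map_sub hτ (zspan_sub_mem (hmem _ hφ) (hmem _ hφb)) (hmem _ hφb)]
    refine ⟨?_, hD, hz⟩
    set A := (ε : ℂ) • τ₁ φ with hA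
    set A' := (ε : ℂ) • τ₁ (Cfsg.conjFun φ) with hA'
    have hirrA := himg _ hφ
    have hirrA' := himg _ hφb
    have hAA : A' ≠ A := htne _ hφb _ hφ hne
    have e1 : Cfsg.conjFun A - Cfsg.conjFun A' = A' - A := by
      have h : A - A' = (ε : ℂ) • Cfsg.indFun L (φ - Cfsg.conjFun φ) := by rw [hD, hA, hA', smul_sub]
      have h2 : Cfsg.indFun L (Cfsg.conjFun (φ - Cfsg.conjFun φ)) =
          -Cfsg.indFun L (φ - Cfsg.conjFun φ) := by
        rw [show Cfsg.conjFun (φ - Cfsg.conjFun φ) = Cfsg.conjFun φ - φ from funext fun x => by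
          simp [Cfsg.conjFun], Chars.indFun_sub, Chars.indFun_sub, neg_sub]
      rw [← conjFun_indFun] at h2
      funext g
      have hg := congrFun h g
      have hg2 := congrFun h2 g
      simp only [Cfsg.conjFun, Pi.sub_apply, Pi.smul_apply, smul_eq_mul, Pi.neg_apply] at hg hg2 ⊢
      rw [← map_sub, hg, map_mul, hεc, hg2]
      linear_combination hg
    have hsA : Cfsg.IsIrrCharacter G (Cfsg.conjFun A) := Chars.isIrrCharacter_star hirrA
    have hsA' : Cfsg.IsIrrCharacter G (Cfsg.conjFun A') := Chars.isIrrCharacter_star hirrA'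
    have h3 := congrArg (fun f => Cfsg.classInner f (Cfsg.conjFun A)) e1
    simp only [Chars.classInner_sub_left, Chars.classInner_self_irr hsA] at h3
    rw [Chars.classInner_irr_of_ne hsA' hsA (fun h => hAA (by
      rw [← conjFun_conjFun A', h, conjFun_conjFun]))] at h3
    by_contra hne'
    rw [Chars.classInner_irr_of_ne hirrA' hsA (Ne.symm hne')] at h3
    rcases eq_or_ne A (Cfsg.conjFun A) with h | h
    · rw [← h, Chars.classInner_self_irr hirrA] at h3; norm_num at h3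
    · rw [Chars.classInner_irr_of_ne hirrA hsA h] at h3; norm_num at h3
  let S : Finset (Cfsg.IrrCharacter L) := Finset.univ.filter fun ψ => (ψ : L → ℂ) ∈ S₀
  have hS : ∀ ψ, ψ ∈ S ↔ (ψ : L → ℂ) ∈ S₀ := fun ψ => by simp [S]
  let o : Cfsg.IrrCharacter L := ⟨ψ₁, hirr _ hψ₁⟩
  have hψb : Cfsg.conjFun ψ₁ ∈ S₀ := indAbove_conj_mem K ⊥ hψ₁
  let ob : Cfsg.IrrCharacter L := ⟨Cfsg.conjFun ψ₁, hirr _ hψb⟩
  -- the regular part
  have hR : Cfsg.IsClassFunction L (kReg K) := by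
    intro x g
    have h : g * x * g⁻¹ ∈ K ↔ x ∈ K := ⟨fun h => by
      simpa [mul_assoc] using (inferInstance : K.Normal).conj_mem _ h g⁻¹,
      fun h => (inferInstance : K.Normal).conj_mem _ h g⟩
    simp [kReg, h]
  have hRS : ∀ ψ : Cfsg.IrrCharacter L, Cfsg.classInner (ψ : L → ℂ) (kReg K) =
      if ψ ∈ S then (d ψ : ℂ) else 0 := by
    intro ψ
    rw [classInner_kReg]
    by_cases hψ : ψ ∈ S
    · rw [if_pos hψ]
      have hψ' := (hS ψ).mp hψ
      obtain ⟨θ, hθ, hne, -, hθe⟩ := hψ'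
      rw [(hd ψ ((hS ψ).mp hψ)).2, hθe, kInd_orth K hθ hne, sub_zero, ← he, inv_mul_cancel_left₀ heC]
    · rw [if_neg hψ, classInner_kInd, Finset.sum_congr rfl (g := fun x : L =>
        if x ∈ K then (ψ : L → ℂ) 1 else 0) (fun x _ => by
          by_cases hx : x ∈ K
          · rw [if_pos hx, if_pos hx]; exact hout _ ψ.2 (fun h => hψ ((hS ψ).mpr h)) x hx
          · rw [if_neg hx, if_neg hx]),
        ← Finset.sum_filter, Finset.sum_const, nsmul_eq_mul, ← Fintype.card_subtype,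
        ← Nat.card_eq_fintype_card, hcardL, ← hcardK, ← he]
      push_cast
      field_simp [Chars.subgroup_card_ne_zero K, heC]
      ring
  -- a class function orthogonal to the differences is constant on `K#`
  have hconst : ∀ f : L → ℂ, Cfsg.IsClassFunction L f →
      (∀ ψ ∈ S, Cfsg.classInner f (ψ : L → ℂ) = (d ψ : ℂ) * Cfsg.classInner f ψ₁) →
      ∃ n : ℂ, ∀ x ∈ K, x ≠ 1 → f x = n := by
    intro f hf h
    set c := Cfsg.classInner f ψ₁
    set γ := f - c • kReg K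
    have hγ : Cfsg.IsClassFunction L γ := Chars.isClassFunction_sub hf (Chars.isClassFunction_smul c hR)
    have hγ0 : ∀ ψ ∈ S, Cfsg.classInner γ (ψ : L → ℂ) = 0 := by
      intro ψ hψ
      rw [Chars.classInner_sub_left, Chars.classInner_smul_left, h ψ hψ,
        ← Chars.classInner_conj_symm (ψ : L → ℂ) (kReg K), hRS, if_pos hψ, map_natCast]
      ring
    refine ⟨γ 1 - c, fun x hx hx1 => ?_⟩
    have hγx : γ x = γ 1 := by
      rw [Chars.eq_sum_classInner hγ, Finset.sum_apply, Finset.sum_apply]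
      refine Finset.sum_congr rfl fun ψ _ => ?_
      by_cases hψ : ψ ∈ S
      · simp [hγ0 ψ hψ]
      · simp only [Pi.smul_apply, hout _ ψ.2 (fun h => hψ ((hS ψ).mpr h)) x hx]
    rw [← hγx]
    simp [γ, kReg, hx1, hx]
  -- the virtual character
  set β : L → ℂ := (e : ℂ) • kInd K - ψ₁ with hβ
  have hβ0 : ∀ x : L, x ∉ K ∨ x = 1 → β x = 0 := by
    rintro x (hx | rfl)
    · have h2 : ψ₁ x = 0 := indAbove_vanish_outside (hmem _ hψ₁) hx
      simp [β, kInd, hx, h2]
    · simp [β, kInd, hψ₁1]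
  have hJψ : ∀ φ ∈ S₀, Cfsg.classInner (kInd K) φ = 0 := by
    rintro φ ⟨θ, hθ, hne, -, rfl⟩
    rw [← Chars.classInner_conj_symm, kInd_orth K hθ hne, map_zero]
  have hone : (fun _ => (1 : ℂ)) ∉ S₀ := fun h => by
    rw [hS₀, frob_indAbove_eq hC] at h
    obtain ⟨-, k, -, hk⟩ := h
    exact hk rfl
  have hβ1 : Cfsg.classInner β (fun _ => 1) = 1 := by
    rw [Chars.classInner_sub_left, Chars.classInner_smul_left, kInd_one, ← he, mul_inv_cancel₀ heC,
      Chars.classInner_irr_of_ne (hirr _ hψ₁) Chars.isIrrCharacter_one (fun h => hone (h ▸ hψ₁)), sub_zero]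
  have hββ : Cfsg.classInner β β = (e : ℂ) + 1 := by
    rw [Chars.classInner_sub_left, Chars.classInner_sub_right, Chars.classInner_sub_right,
      Chars.classInner_smul_left, Chars.classInner_smul_left, Chars.classInner_smul_right,
      Chars.classInner_smul_right, kInd_self, hJψ _ hψ₁, ← Chars.classInner_conj_symm (kInd K) ψ₁,
      hJψ _ hψ₁, Chars.classInner_self_irr (hirr _ hψ₁), ← he]
    simp only [map_natCast, map_zero, mul_zero]
    field_simp
    ring
  have hβval : ∀ (f : L → ℂ) (n : ℂ), (∀ x ∈ K, x ≠ 1 → f x = n) →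
      Cfsg.classInner β f = conj n := by
    intro f n hf
    rw [← mul_one (conj n), ← hβ1, Chars.classInner_def β f, Chars.classInner_def β (fun _ => 1), ← mul_assoc,
      mul_comm (conj n), mul_assoc, Finset.mul_sum, Finset.mul_sum, Finset.mul_sum]
    refine Finset.sum_congr rfl fun x _ => ?_
    by_cases hx : x ∈ K ∧ x ≠ 1
    · rw [hf x hx.1 hx.2, map_one, mul_one]; ring
    · have : x ∉ K ∨ x = 1 := by tauto
      simp [hβ0 x this]
  set B := Cfsg.indFun L β with hB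
  have hβvirt : Cfsg.IsGeneralizedCharacter L β := by
    rw [hβ, ← indFun_one_eq]
    exact virt_sub (virt_of_char (Chars.isCharacter_indFun K (Chars.isCharacter_of_isIrr Chars.isIrrCharacter_one)))
      (virt_of_irr (hirr _ hψ₁))
  have hBv : Cfsg.IsGeneralizedCharacter G B := Chars.isGen_indFun L hβvirt
  have hBrec : ∀ χ : G → ℂ, Cfsg.IsClassFunction G χ →
      Cfsg.classInner B χ = Cfsg.classInner β (fun x : L => χ x) := fun χ hχ =>
    Chars2.indFun_reciprocity L β hχ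
  have hres : ∀ χ : G → ℂ, Cfsg.IsClassFunction G χ → Cfsg.IsClassFunction L (fun x : L => χ x) :=
    fun χ hχ x y => by simpa using hχ (x : G) (y : G)
  have hpair : ∀ χ : G → ℂ, Cfsg.IsClassFunction G χ → ∀ ψ ∈ S,
      Cfsg.classInner (fun x : L => χ x) (ψ : L → ℂ) -
        (d ψ : ℂ) * Cfsg.classInner (fun x : L => χ x) ψ₁ =
      (ε : ℂ) * (Cfsg.classInner χ (t ψ : G → ℂ) - (d ψ : ℂ) * Cfsg.classInner χ ((ε : ℂ) • τ₁ ψ₁)) := by
    intro χ hχ ψ hψ
    have hψ' := (hS ψ).mp hψ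
    have hdψ := (hd ψ hψ').2
    have h := Chars.classInner_indFun_right L ((ψ : L → ℂ) - ((d ψ : ℕ) : ℤ) • ψ₁) hχ
    rw [← hτdiff _ hψ' _ hdψ ψ₁ hψ₁ hψ₁1, Chars.classInner_sub_right, Chars.classInner_sub_right,
      classInner_zsmul_right, classInner_zsmul_right] at h
    push_cast at h
    rw [← h, ht ψ hψ', Chars.classInner_smul_right, Chars.classInner_smul_right, hεc]
    linear_combination -(Cfsg.classInner χ (τ₁ ψ) - (d ψ : ℂ) * Cfsg.classInner χ (τ₁ ψ₁)) * hε2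
  have hto : (t o : G → ℂ) = (ε : ℂ) • τ₁ ψ₁ := ht o hψ₁
  have htob : (t ob : G → ℂ) = (ε : ℂ) • τ₁ (Cfsg.conjFun ψ₁) := ht ob hψb
  have htconj : Cfsg.conjFun (t o : G → ℂ) = (t ob : G → ℂ) := by
    rw [hto, htob]; exact (hconj _ hψ₁).1
  have hclG : ∀ χ : Cfsg.IrrCharacter G, Cfsg.IsClassFunction G (χ : G → ℂ) := Chars.isClassFunction_irr
  -- value of the base exceptional character
  obtain ⟨n, hn⟩ := hconst ((fun x : L => (t o : G → ℂ) x) - (ε : ℂ) • ψ₁)
    (Chars.isClassFunction_sub (hres _ (hclG _))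
      (Chars.isClassFunction_smul _ (Chars.isClassFunction_of_isCharacter (Chars.isCharacter_of_isIrr (hirr _ hψ₁)))))
    (fun ψ hψ => by
      have h := hpair _ (hclG (t o)) ψ hψ
      rw [← hto, Chars.classInner_self_irr (t o).2] at h
      simp only [Chars.classInner_sub_left, Chars.classInner_smul_left]
      rw [Chars.classInner_self_irr (hirr _ hψ₁)]
      have hδ : Cfsg.classInner (t o : G → ℂ) (t ψ : G → ℂ) = Cfsg.classInner ψ₁ (ψ : L → ℂ) := by
        rw [hto, ht ψ ((hS ψ).mp hψ), htinner _ hψ₁ _ ((hS ψ).mp hψ)]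
      rw [hδ] at h
      linear_combination h)
  have hβψ : Cfsg.classInner β ψ₁ = -1 := by
    rw [Chars.classInner_sub_left, Chars.classInner_smul_left, hJψ _ hψ₁,
      Chars.classInner_self_irr (hirr _ hψ₁)]; ring
  have hβψb : Cfsg.classInner β (Cfsg.conjFun ψ₁) = 0 := by
    rw [Chars.classInner_sub_left, Chars.classInner_smul_left, hJψ _ hψb,
      Chars.classInner_irr_of_ne (hirr _ hψ₁) (hirr _ hψb) (Ne.symm (frob_conj_ne hoddL hC hψ₁))]; ring
  obtain ⟨c, hc⟩ := exists_classInner_eq_int hBv (virt_of_irr (t o).2)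
  set b : ℤ := c + ε with hb
  have hnb : conj n = (b : ℂ) := by
    rw [← hβval _ n hn, Chars.classInner_sub_right, Chars.classInner_smul_right, hεc, hβψ,
      ← hBrec _ (hclG _), hc, hb]
    push_cast; ring
  have hnb' : n = (b : ℂ) := by rw [← Complex.conj_conj n, hnb, map_intCast]
  have hBob : Cfsg.classInner B (t ob : G → ℂ) = b := by
    have h := hβval ((fun x : L => (t ob : G → ℂ) x) - (ε : ℂ) • Cfsg.conjFun ψ₁) n (fun x hx hx1 => by
      have h1 := hn x hx hx1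
      simp only [Pi.sub_apply, Pi.smul_apply, smul_eq_mul, Cfsg.conjFun] at h1 ⊢
      rw [← htconj]
      simp only [Cfsg.conjFun]
      rw [show (ε : ℂ) * conj (ψ₁ x) = conj ((ε : ℂ) * ψ₁ x) by rw [map_mul, hεc], ← map_sub, h1,
        hnb', map_intCast])
    rw [Chars.classInner_sub_right, Chars.classInner_smul_right, hβψb, mul_zero, sub_zero, hnb] at h
    rw [hBrec _ (hclG _), h]
  -- the number of exceptional characters
  set D := ∑ ψ ∈ S, d ψ ^ 2 with hD
  have hh1 : (Nat.card H : ℂ) = (e : ℂ) * D + 1 := by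
    have h1 : Cfsg.classInner (kReg K) (kReg K) = (D : ℂ) := by
      rw [Chars.classInner_eq_sum hR, Finset.sum_congr rfl (g := fun ψ : Cfsg.IrrCharacter L =>
        if ψ ∈ S then ((d ψ ^ 2 : ℕ) : ℂ) else 0) (fun ψ _ => ?_)]
      · rw [← Finset.sum_filter, hD, Nat.cast_sum]
        congr 1
        ext ψ; simp
      · rw [← Chars.classInner_conj_symm (ψ : L → ℂ) (kReg K), hRS]
        by_cases hψ : ψ ∈ S
        · simp [hψ, pow_two]
        · simp [hψ]
    have h2 : Cfsg.classInner (kReg K) (kReg K) = ((Nat.card H : ℂ) - 1) / e := by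
      have hR1 : kReg K 1 = (Nat.card H : ℂ) - 1 := by simp only [kReg, if_true, hcardK]
      have hJR : Cfsg.classInner (kReg K) (kInd K) = 0 := by
        rw [classInner_kInd, ← Finset.sum_filter, kReg_eq]
        simp only [Pi.sub_apply, kInd]
        rw [Finset.sum_sub_distrib, Finset.sum_eq_single (1 : L) (fun x _ hx => by simp [hx])
            (fun h => absurd (Finset.mem_filter.mpr ⟨Finset.mem_univ _, K.one_mem⟩) h),
          Finset.sum_congr rfl (g := fun _ => (1 : ℂ)) (fun x hx => by simp [(Finset.mem_filter.mp hx).2]),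
          Finset.sum_const, nsmul_eq_mul, mul_one, ← Fintype.card_subtype, ← Nat.card_eq_fintype_card]
        simp
      rw [classInner_kReg, hR1, hJR, ← he]
      ring
    rw [h1] at h2
    field_simp at h2
    linear_combination -h2
  have hh : Nat.card H = e * D + 1 := by exact_mod_cast hh1
  have hDe : Even D := by
    have hH : Odd (Nat.card H) := Odd.of_dvd_nat hodd (Subgroup.card_subgroup_dvd_card H)
    rw [hh] at hH
    rcases Nat.even_or_odd D with h | h
    · exact h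
    · exact absurd ((he_odd.mul h).add_one) (Nat.not_even_iff_odd.mpr hH)
  have hD2 : 2 ≤ D := by
    have h1 : 1 < Nat.card H := by
      rw [Subgroup.one_lt_card_iff_ne_bot]; exact hH1
    have : D ≠ 0 := fun h => by rw [h, mul_zero] at hh; omega
    obtain ⟨k, hk⟩ := hDe
    omega
  -- the mass of the base exceptional character
  have hmass : cmass (cov H) (fun g => (t o : G → ℂ) g * conj ((t o : G → ℂ) g)) =
      1 - ((e : ℂ) + 2 * ε * b) / Nat.card H + (b : ℂ) ^ 2 * D / Nat.card H := by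
    rw [cmass_ti H L hHL hTI hN (fun g x => by rw [hclG (t o) g x])]
    set γ : L → ℂ := (b : ℂ) • kInd K + (ε : ℂ) • ψ₁
    have hγ1 : γ 1 = (b : ℂ) + ε * e := by simp [γ, kInd, hψ₁1]
    have hsum : ∀ x : L, (if (x : G) ∈ H ∧ x ≠ 1 then (t o : G → ℂ) x * conj ((t o : G → ℂ) x) else 0) =
        γ x * conj (γ x) - if x = 1 then γ x * conj (γ x) else 0 := by
      intro x
      by_cases hx1 : x = 1
      · simp [hx1]
      by_cases hxK : (x : G) ∈ H
      · have h1 := hn x hxK hx1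
        simp only [Pi.sub_apply, Pi.smul_apply, smul_eq_mul, hnb'] at h1
        have h2 : (t o : G → ℂ) x = γ x := by
          simp only [γ, Pi.add_apply, Pi.smul_apply, smul_eq_mul, kInd, show x ∈ K from hxK, if_true]
          linear_combination h1
        simp [hxK, hx1, h2]
      · have h2 : ψ₁ x = 0 := indAbove_vanish_outside (hmem _ hψ₁) hxK
        have h3 : x ∉ K := hxK
        simp [γ, kInd, hx1, hxK, h2, h3]
    rw [Finset.sum_congr rfl (fun x _ => hsum x), Finset.sum_sub_distrib, Finset.sum_ite_eq' _ (1 : L) _,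
      if_pos (Finset.mem_univ _), mul_sub, ← Chars.classInner_def]
    have hγγ : Cfsg.classInner γ γ = (b : ℂ) ^ 2 * (e : ℂ)⁻¹ + 1 := by
      simp only [γ, Chars.classInner_add_left, Chars.classInner_add_right, Chars.classInner_smul_left,
        Chars.classInner_smul_right, kInd_self, hJψ _ hψ₁, Chars.classInner_self_irr (hirr _ hψ₁),
        ← Chars.classInner_conj_symm (kInd K) ψ₁, map_zero, map_intCast, ← he]
      linear_combination hε2
    rw [hγγ, hγ1, hcardL]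
    simp only [map_add, map_mul, map_natCast, map_intCast]
    push_cast
    have hHC : (Nat.card H : ℂ) ≠ 0 := Chars.subgroup_card_ne_zero H
    field_simp
    rw [hh1]
    linear_combination (-(e : ℂ) ^ 2) * hε2
  refine ⟨{
    e := e, D := D, ε := ε, b := b, B := B, S := S, d := d, t := t, o := o, ob := ob
    e_odd := he_odd, e_ge := he3, card_H := hh, card_L := hcardL, D_even := hDe, D_ge := hD2, sign := hε
    t_inj := fun ψ hψ φ hφ h => by
      by_contra hne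
      refine htne _ ((hS ψ).mp hψ) _ ((hS φ).mp hφ) (fun h' => hne (Subtype.ext h')) ?_
      rw [← ht ψ ((hS ψ).mp hψ), ← ht φ ((hS φ).mp hφ), h]
    o_mem := (hS o).mpr hψ₁, ob_mem := (hS ob).mpr hψb
    o_ne := fun h => frob_conj_ne hoddL hC hψ₁ (congrArg Subtype.val h).symm
    sum_sq := rfl
    t_conj := fun ψ hψ => by
      have hψ' := (hS ψ).mp hψ
      have hb' := indAbove_conj_mem K ⊥ hψ'
      obtain ⟨h1, h2, h3⟩ := hconj _ hψ'
      refine ⟨⟨_, hirr _ hb'⟩, (hS _).mpr hb', fun h => frob_conj_ne hoddL hC hψ' (congrArg Subtype.val h), ?_, ?_⟩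
      · rw [ht ψ hψ', ht _ hb', h1]
      · intro g hg
        have h4 := hindsupp _ h3 g hg
        rw [h2, Pi.sub_apply, sub_eq_zero] at h4
        rw [ht ψ hψ', ht _ hb']
        simp [h4]
    t_diff := fun ψ hψ g hg => by
      have hψ' := (hS ψ).mp hψ
      have h4 := hindsupp _ (hdiff _ hψ' _ (hd ψ hψ').2 ψ₁ hψ₁ hψ₁1) g hg
      rw [← hτdiff _ hψ' _ (hd ψ hψ').2 ψ₁ hψ₁ hψ₁1, Pi.sub_apply, Pi.smul_apply, zsmul_eq_mul, sub_eq_zero] at h4
      rw [ht ψ hψ', hto]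
      simp only [Pi.smul_apply, smul_eq_mul, h4]
      push_cast; ring
    t_conj_o := htconj
    B_virt := hBv
    B_supp := fun g hg => Chars2.indFun_eq_zero_of_support L β {g | g ∈ H ∧ g ≠ 1} (fun x hx => hβ0 x (by
        by_cases h : x = 1
        · exact Or.inr h
        · exact Or.inl fun h' => hx ⟨h', fun h'' => h (Subtype.ext h'')⟩)) g
      fun x hx => hg ⟨fun h => hx.2 (by rw [h]; group), x⁻¹, by simpa using hx.1⟩
    B_norm := by
      rw [hB, Chars2.indFun_inner_ti L β {g | g ∈ H ∧ g ≠ 1} ?_ ?_ β (virt_isClassFunction hβvirt) ?_, hββ]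
      · intro x hx; refine hβ0 x ?_
        by_cases h : x = 1
        · exact Or.inr h
        · exact Or.inl fun h' => hx ⟨h', fun h'' => h (Subtype.ext h'')⟩
      · exact fun g hg s hs hgs => hs.2 (hTI g (by rw [hN]; exact hg) s hs.1 hgs.1)
      · intro x hx; refine hβ0 x ?_
        by_cases h : x = 1
        · exact Or.inr h
        · exact Or.inl fun h' => hx ⟨h', fun h'' => h (Subtype.ext h'')⟩
    B_one := by rw [hBrec _ (fun _ _ => rfl)]; exact hβ1
    B_conj := by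
      rw [hB, conjFun_indFun, show Cfsg.conjFun β = β + (ψ₁ - Cfsg.conjFun ψ₁) from funext fun x => by
          simp only [β, Cfsg.conjFun, Pi.sub_apply, Pi.add_apply, Pi.smul_apply, smul_eq_mul, map_sub,
            map_mul, map_natCast]
          by_cases hx : x ∈ K <;> simp [kInd, hx] <;> ring,
        Chars.indFun_add, (hconj _ hψ₁).2.1, hto, htob, smul_sub, smul_smul, smul_smul, hε2, one_smul, one_smul]
    B_o := by rw [hc, hb]; push_cast; ring
    B_ob := hBob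
    mass_o := hmass
    const := fun χ hχ g hg => by
      obtain ⟨hg1, x, hx⟩ := hg
      obtain ⟨m, hm⟩ := hconst _ (hres _ (hclG χ)) (fun ψ hψ => by
        have h := hpair _ (hclG χ) ψ hψ
        rw [← hto, Chars.classInner_irr_of_ne χ.2 (t ψ).2 (fun h' => hχ ψ hψ (Subtype.ext h'.symm)),
          Chars.classInner_irr_of_ne χ.2 (t o).2 (fun h' => hχ o ((hS o).mpr hψ₁) (Subtype.ext h'.symm))] at h
        linear_combination h)
      have h2 := hβval _ m hm
      rw [← hBrec _ (hclG χ)] at h2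
      obtain ⟨z, hz⟩ := exists_classInner_eq_int hBv (virt_of_irr χ.2)
      have hmz : m = (z : ℂ) := by rw [← Complex.conj_conj m, ← h2, hz, map_intCast]
      rw [hz, ← hmz, ← hclG χ g x]
      exact hm ⟨x * g * x⁻¹, hHL hx⟩ hx fun h => hg1 (conj_eq_one_iff.mp (congrArg Subtype.val h)) }⟩

end Cfsg.Agent.OddChar
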