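/-
No group of odd order is covered by conjugates of TI Frobenius kernels of coprime orders.
-/
import Cfsg.Agent.OddChar.CoverPiece
import Mathlib.Data.ZMod.Basic

set_option autoImplicit false
set_option linter.style.haveILetI false
set_option linter.unusedSectionVars false

open scoped Classical ComplexConjugate

namespace Cfsg.Agent.OddChar

universe u

variable {G : Type u} [Group G] [Fintype G]

/-- The mass of `χ` on `C`. -/
noncomputable def rmass (C : Set G) (χ : G → ℂ) : ℝ :=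
  (Nat.card G : ℝ)⁻¹ * ∑ g : G, if g ∈ C then Complex.normSq (χ g) else 0

theorem cmass_eq_rmass (C : Set G) (χ : G → ℂ) :
    cmass C (fun g => χ g * conj (χ g)) = (rmass C χ : ℂ) := by
  rw [cmass, rmass]
  push_cast
  congr 1
  refine Finset.sum_congr rfl fun g _ => ?_
  by_cases hg : g ∈ C
  · simp [hg, Complex.mul_conj]
  · simp [hg]

theorem sum_rmass_le {ι : Type*} [Fintype ι] (C : ι → Set G)
    (hdisj : ∀ i j, i ≠ j → ∀ g, g ∈ C i → g ∉ C j) (χ : G → ℂ) (hχ : Cfsg.classInner χ χ = 1) :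
    ∑ i, rmass (C i) χ ≤ 1 := by
  have h : (Nat.card G : ℝ)⁻¹ * ∑ g : G, Complex.normSq (χ g) = 1 := by
    have h1 : (((Nat.card G : ℝ)⁻¹ * ∑ g : G, Complex.normSq (χ g) : ℝ) : ℂ) = 1 := by
      rw [← hχ, Chars.classInner_def]
      push_cast
      simp [Complex.mul_conj]
    exact_mod_cast h1
  rw [← h]
  simp only [rmass, ← Finset.mul_sum]
  rw [Finset.sum_comm]
  refine mul_le_mul_of_nonneg_left (Finset.sum_le_sum fun g _ => ?_) (by positivity)
  rcases em (∃ i, g ∈ C i) with ⟨i, hi⟩ | hno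
  · rw [Finset.sum_eq_single i (fun j _ hj => if_neg (hdisj i j (Ne.symm hj) g hi)) (by simp), if_pos hi]
  · push Not at hno
    rw [Finset.sum_eq_zero fun j _ => if_neg (hno j)]
    exact Complex.normSq_nonneg _

theorem no_cover {ι : Type*} [Fintype ι] [Nonempty ι] (hodd : Odd (Nat.card G))
    (L H : ι → Subgroup G) (E : ∀ i, Exc (H i) (L i)) (hHL : ∀ i, H i ≤ L i)
    (hTI : ∀ i, Cfsg.IsTISubset (H i : Set G)) (hN : ∀ i, Subgroup.normalizer (H i : Set G) = L i)
    (hcop : ∀ i j, i ≠ j → Nat.Coprime (Nat.card (H i)) (Nat.card (H j)))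
    (hcover : ∀ g : G, g ≠ 1 → ∃ i, ∃ x : G, x * g * x⁻¹ ∈ H i) : False := by
  set C : ι → Set G := fun i => cov (H i)
  have hdisj : ∀ i j, i ≠ j → ∀ g, g ∈ C i → g ∉ C j := by
    rintro i j hij g ⟨hg1, x, hx⟩ ⟨-, y, hy⟩
    refine hg1 ((orderOf_eq_one_iff).mp (Nat.eq_one_of_dvd_coprimes (hcop i j hij) ?_ ?_))
    · have := Subgroup.orderOf_dvd_natCard _ hx
      rwa [show x * g * x⁻¹ = MulAut.conj x g from rfl, MulEquiv.orderOf_eq] at this
    · have := Subgroup.orderOf_dvd_natCard _ hy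
      rwa [show y * g * y⁻¹ = MulAut.conj y g from rfl, MulEquiv.orderOf_eq] at this
  -- weights
  set w : ι → ℝ := fun i => rmass (C i) (fun _ => 1) with hw
  have hwval : ∀ i, w i = ((E i).D : ℝ) / Nat.card (H i) := by
    intro i
    have h := cmass_ti (H i) (L i) (hHL i) (hTI i) (hN i)
      (f := fun g => (1 : ℂ) * conj (1 : ℂ)) (fun _ _ => rfl)
    rw [cmass_eq_rmass (C i) (fun _ => (1 : ℂ))] at h
    simp only [map_one, mul_one] at h
    rw [← Finset.sum_filter, Finset.sum_const, nsmul_eq_mul, mul_one] at h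
    have hcard : ((Finset.univ : Finset (L i)).filter fun x : L i => (x : G) ∈ H i ∧ x ≠ 1).card + 1 =
        Nat.card (H i) := by
      rw [show ((Finset.univ : Finset (L i)).filter fun x : L i => (x : G) ∈ H i ∧ x ≠ 1) =
        ((Finset.univ : Finset (L i)).filter fun x : L i => (x : G) ∈ H i).erase 1 by ext x; simp [and_comm],
        Finset.card_erase_add_one (by simp [(H i).one_mem]), ← Fintype.card_subtype,
        ← Nat.card_eq_fintype_card]
      exact Nat.card_congr (Subgroup.subgroupOfEquivOfLe (hHL i)).toEquiv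
    rw [(E i).card_H, Nat.add_right_cancel_iff] at hcard
    rw [hcard, (E i).card_L] at h
    have heq : ((w i : ℝ) : ℂ) = ((((E i).D : ℝ) / Nat.card (H i) : ℝ) : ℂ) := by
      rw [show (w i : ℂ) = _ from h]
      push_cast
      have : ((E i).e : ℂ) ≠ 0 := by
        have := (E i).e_ge
        exact_mod_cast (by omega : (E i).e ≠ 0)
      field_simp
    exact_mod_cast heq
  have hsum : ∑ i, w i = 1 - (Nat.card G : ℝ)⁻¹ := by
    have hG : (Nat.card G : ℝ) ≠ 0 := by exact_mod_cast Nat.card_pos.ne'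
    simp only [hw, rmass, ← Finset.mul_sum]
    rw [Finset.sum_comm, Finset.sum_congr rfl (g := fun g : G => if g = 1 then (0 : ℝ) else 1)]
    · rw [← Finset.sum_erase_add _ _ (Finset.mem_univ (1 : G)), if_pos rfl, add_zero,
        Finset.sum_congr rfl (g := fun _ => (1 : ℝ)) (fun g hg => by simp [(Finset.mem_erase.mp hg).1]),
        Finset.sum_const, Finset.card_erase_of_mem (Finset.mem_univ _), Finset.card_univ, nsmul_eq_mul, mul_one,
        ← Nat.card_eq_fintype_card, Nat.cast_sub Nat.card_pos, Nat.cast_one, mul_sub, inv_mul_cancel₀ hG, mul_one]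
    · intro g _
      by_cases hg : g = 1
      · rw [if_pos hg, Finset.sum_eq_zero fun j _ => if_neg fun h => h.1 hg]
      · obtain ⟨i, x, hx⟩ := hcover g hg
        have hi : g ∈ C i := ⟨hg, x, hx⟩
        rw [if_neg hg, Finset.sum_eq_single i (fun j _ hj => if_neg (hdisj i j (Ne.symm hj) g hi)) (by simp),
          if_pos hi]
        simp
  -- coefficients
  choose c hc using fun (i : ι) (χ : Cfsg.IrrCharacter G) =>
    exists_classInner_eq_int (E i).B_virt (virt_of_irr χ.2)
  set θ : ι → Cfsg.IrrCharacter G := fun i => (E i).t (E i).o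
  set θb : ι → Cfsg.IrrCharacter G := fun i => (E i).t (E i).ob
  have hfam : ∀ i j, i ≠ j → ∀ ψ ∈ (E i).S, ∀ φ ∈ (E j).S, (E i).t ψ ≠ (E j).t φ := by
    intro i j hij ψ hψ φ hφ he
    obtain ⟨ψ', hψ', hne, hcj, hd⟩ := (E i).t_conj ψ hψ
    obtain ⟨φ', hφ', -, hcj', hd'⟩ := (E j).t_conj φ hφ
    refine hne ((E i).t_inj ψ' hψ' ψ hψ (Subtype.ext (funext fun g => ?_)))
    have e' : ((E i).t ψ' : G → ℂ) = ((E j).t φ' : G → ℂ) := by rw [← hcj, ← hcj', he]
    by_cases hg : g ∈ C i
    · have h1 := hd' g (hdisj i j hij g hg)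
      rw [← he, ← e'] at h1
      exact h1.symm
    · exact (hd g hg).symm
  have hne1 : ∀ i, ∀ ψ ∈ (E i).S, ∀ χ : Cfsg.IrrCharacter G,
      Cfsg.conjFun (χ : G → ℂ) = (χ : G → ℂ) → (E i).t ψ ≠ χ := by
    intro i ψ hψ χ hχ he
    obtain ⟨φ, hφ, hne, hcj, -⟩ := (E i).t_conj ψ hψ
    refine hne ((E i).t_inj φ hφ ψ hψ (Subtype.ext ?_))
    rw [← hcj, he, hχ]
  let σ : Cfsg.IrrCharacter G → Cfsg.IrrCharacter G := fun χ =>
    ⟨Cfsg.conjFun (χ : G → ℂ), Chars.isIrrCharacter_star χ.2⟩
  have hσθ : ∀ i, σ (θ i) = θb i := fun i => Subtype.ext (E i).t_conj_o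
  have hσσ : ∀ χ, σ (σ χ) = χ := fun χ => Subtype.ext (conjFun_conjFun _)
  let one' : Cfsg.IrrCharacter G := ⟨fun _ => 1, Chars.isIrrCharacter_one⟩
  have hσ1 : σ one' = one' := Subtype.ext (funext fun x => by simp [σ, one', Cfsg.conjFun])
  have hθθb : ∀ i, θ i ≠ θb i := fun i h =>
    (E i).o_ne ((E i).t_inj _ (E i).o_mem _ (E i).ob_mem h)
  have hinv : ∀ i χ, χ ≠ θ i → χ ≠ θb i → c i (σ χ) = c i χ := by
    intro i χ h1 h2
    have h : Cfsg.classInner (E i).B (Cfsg.conjFun (χ : G → ℂ)) =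
        conj (Cfsg.classInner (Cfsg.conjFun (E i).B) (χ : G → ℂ)) := by
      rw [← classInner_conjFun, conjFun_conjFun]
    rw [(E i).B_conj, Chars.classInner_add_left, Chars.classInner_smul_left, Chars.classInner_sub_left,
      Chars.classInner_irr_of_ne (θ i).2 χ.2 (fun h => h1 (Subtype.ext h.symm)),
      Chars.classInner_irr_of_ne (θb i).2 χ.2 (fun h => h2 (Subtype.ext h.symm)), sub_zero, mul_zero,
      add_zero, hc i χ, map_intCast] at h
    have := (hc i (σ χ)).symm.trans h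
    exact_mod_cast this
  have hscale : ∀ i j, i ≠ j → ∀ ψ ∈ (E j).S, c i ((E j).t ψ) = (E j).d ψ * c i (θ j) := by
    intro i j hij ψ hψ
    have h : Cfsg.classInner (E i).B
        (((E j).t ψ : G → ℂ) - (((E j).d ψ : ℕ) : ℂ) • (θ j : G → ℂ)) = 0 := by
      rw [Chars.classInner_def, Finset.sum_eq_zero fun g _ => ?_, mul_zero]
      by_cases hg : g ∈ C i
      · have h1 := (E j).t_diff ψ hψ g (hdisj i j hij g hg)
        simp only [Pi.sub_apply, Pi.smul_apply, smul_eq_mul]
        rw [h1, sub_self, map_zero, mul_zero]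
      · rw [(E i).B_supp g hg, zero_mul]
    rw [Chars.classInner_sub_right, Chars.classInner_smul_right, map_natCast, hc, hc, sub_eq_zero] at h
    exact_mod_cast h
  have hcθb : ∀ i j, i ≠ j → c j (θb i) = c j (θ i) := fun i j hij => by
    rw [← hσθ]
    exact hinv j (θ i) (hfam i j hij _ (E i).o_mem _ (E j).o_mem) (hfam i j hij _ (E i).o_mem _ (E j).ob_mem)
  have hcone : ∀ i, c i one' = 1 := fun i => by
    have := (hc i one').symm.trans (E i).B_one
    exact_mod_cast this
  have hcθ : ∀ i, c i (θ i) = (E i).b - (E i).ε := fun i => by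
    have := (hc i (θ i)).symm.trans (E i).B_o
    exact_mod_cast this
  have hcb : ∀ i, c i (θb i) = (E i).b := fun i => by
    have := (hc i (θb i)).symm.trans (E i).B_ob
    exact_mod_cast this
  -- one of the two cross coefficients is nonzero
  have hcross : ∀ i j, i ≠ j → c j (θ i) ≠ 0 ∨ c i (θ j) ≠ 0 := by
    intro i j hij
    by_contra hboth
    push Not at hboth
    have hBB : ∑ χ : Cfsg.IrrCharacter G, c i χ * c j χ = 0 := by
      have h : Cfsg.classInner (E i).B (E j).B = 0 := by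
        rw [Chars.classInner_def, Finset.sum_eq_zero fun g _ => ?_, mul_zero]
        by_cases hg : g ∈ C i
        · rw [(E j).B_supp g (hdisj i j hij g hg), map_zero, mul_zero]
        · rw [(E i).B_supp g hg, zero_mul]
      rw [Chars.classInner_eq_sum (virt_isClassFunction (E i).B_virt)] at h
      have h' : ((∑ χ : Cfsg.IrrCharacter G, c i χ * c j χ : ℤ) : ℂ) = 0 := by
        push_cast
        rw [← h]
        refine Finset.sum_congr rfl fun χ _ => ?_
        rw [classInner_symm_of_virt (virt_of_irr χ.2) (E j).B_virt, hc, hc]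
      exact_mod_cast h'
    set f : Cfsg.IrrCharacter G → ZMod 2 := fun χ => ((c i χ * c j χ : ℤ) : ZMod 2)
    have hf0 : ∑ χ, f χ = 0 := by simp only [f, ← Int.cast_sum, hBB, Int.cast_zero]
    set T : Finset (Cfsg.IrrCharacter G) := {one', θ i, θb i, θ j, θb j} with hT
    have hrest : ∑ χ ∈ Finset.univ \ T, f χ = 0 := by
      refine Finset.sum_involution (fun χ _ => σ χ) ?_ ?_ ?_ (fun χ _ => hσσ χ)
      · intro χ hχ
        simp only [hT, Finset.mem_sdiff, Finset.mem_univ, true_and, Finset.mem_insert,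
          Finset.mem_singleton, not_or] at hχ
        simp only [f, hinv i χ hχ.2.1 hχ.2.2.1, hinv j χ hχ.2.2.2.1 hχ.2.2.2.2, ← two_mul]
        rw [show (2 : ZMod 2) = 0 from rfl, zero_mul]
      · intro χ hχ _ he
        simp only [hT, Finset.mem_sdiff, Finset.mem_univ, true_and, Finset.mem_insert,
          Finset.mem_singleton, not_or] at hχ
        exact hχ.1 (Subtype.ext (eq_one_of_real_of_odd hodd χ.2 (congrArg Subtype.val he)))
      · intro χ hχ
        simp only [hT, Finset.mem_sdiff, Finset.mem_univ, true_and, Finset.mem_insert,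
          Finset.mem_singleton, not_or] at hχ ⊢
        refine ⟨fun h => hχ.1 ?_, fun h => hχ.2.2.1 ?_, fun h => hχ.2.1 ?_, fun h => hχ.2.2.2.2 ?_,
          fun h => hχ.2.2.2.1 ?_⟩
        · rw [← hσσ χ, h, hσ1]
        · rw [← hσσ χ, h, hσθ]
        · rw [← hσσ χ, h, ← hσθ, hσσ]
        · rw [← hσσ χ, h, hσθ]
        · rw [← hσσ χ, h, ← hσθ, hσσ]
    rw [← Finset.sum_sdiff (Finset.subset_univ T), hrest, zero_add] at hf0
    have n1 : ∀ k, ∀ ψ ∈ (E k).S, one' ≠ (E k).t ψ := fun k ψ hψ =>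
      (hne1 k ψ hψ one' (funext fun x => by simp [one', Cfsg.conjFun])).symm
    rw [hT, Finset.sum_insert (by
        simp only [Finset.mem_insert, Finset.mem_singleton, not_or]
        exact ⟨n1 i _ (E i).o_mem, n1 i _ (E i).ob_mem, n1 j _ (E j).o_mem, n1 j _ (E j).ob_mem⟩),
      Finset.sum_insert (by
        simp only [Finset.mem_insert, Finset.mem_singleton, not_or]
        exact ⟨hθθb i, hfam i j hij _ (E i).o_mem _ (E j).o_mem, hfam i j hij _ (E i).o_mem _ (E j).ob_mem⟩),
      Finset.sum_insert (by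
        simp only [Finset.mem_insert, Finset.mem_singleton, not_or]
        exact ⟨hfam i j hij _ (E i).ob_mem _ (E j).o_mem, hfam i j hij _ (E i).ob_mem _ (E j).ob_mem⟩),
      Finset.sum_insert (by simpa using hθθb j), Finset.sum_singleton] at hf0
    simp [f, hcone, hcθb i j hij, hcθb j i (Ne.symm hij), hboth.1, hboth.2] at hf0
  -- the bound on incoming coefficients
  have hin : ∀ i, ∑ j ∈ Finset.univ.erase i, ((E j).D : ℤ) * c i (θ j) ^ 2 ≤ (E i).e - 1 := by
    intro i
    have hP : ∑ χ : Cfsg.IrrCharacter G, c i χ ^ 2 = (E i).e + 1 := by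
      have h := (E i).B_norm
      rw [Chars.classInner_eq_sum (virt_isClassFunction (E i).B_virt)] at h
      have h' : ((∑ χ : Cfsg.IrrCharacter G, c i χ ^ 2 : ℤ) : ℂ) = (((E i).e + 1 : ℤ) : ℂ) := by
        push_cast
        rw [← h]
        refine Finset.sum_congr rfl fun χ _ => ?_
        rw [classInner_symm_of_virt (virt_of_irr χ.2) (E i).B_virt, hc, pow_two]
      exact_mod_cast h'
    set U : ι → Finset (Cfsg.IrrCharacter G) := fun j => (E j).S.image (E j).t
    have hU : ∀ j ∈ Finset.univ.erase i, ∑ χ ∈ U j, c i χ ^ 2 = ((E j).D : ℤ) * c i (θ j) ^ 2 := by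
      intro j hj
      rw [Finset.sum_image fun ψ hψ φ hφ h => (E j).t_inj ψ hψ φ hφ h, ← (E j).sum_sq, Nat.cast_sum,
        Finset.sum_mul]
      refine Finset.sum_congr rfl fun ψ hψ => ?_
      rw [hscale i j (Ne.symm (Finset.mem_erase.mp hj).1) ψ hψ, mul_pow]
      push_cast; ring
    rw [← Finset.sum_congr rfl hU, ← Finset.sum_biUnion (fun j _ k _ hjk => Finset.disjoint_left.mpr
      fun χ hχ hχ' => by
        obtain ⟨ψ, hψ, rfl⟩ := Finset.mem_image.mp hχ
        obtain ⟨φ, hφ, he⟩ := Finset.mem_image.mp hχ'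
        exact hfam j k hjk ψ hψ φ hφ he.symm)]
    set V := (Finset.univ.erase i).biUnion U
    have hnot : ∀ ψ ∈ (E i).S, (E i).t ψ ∉ V := fun ψ hψ h => by
      obtain ⟨j, hj, hχ⟩ := Finset.mem_biUnion.mp h
      obtain ⟨φ, hφ, he⟩ := Finset.mem_image.mp hχ
      exact hfam j i (Finset.mem_erase.mp hj).1 φ hφ ψ hψ he
    have hnot1 : one' ∉ V := fun h => by
      obtain ⟨j, hj, hχ⟩ := Finset.mem_biUnion.mp h
      obtain ⟨φ, hφ, he⟩ := Finset.mem_image.mp hχ
      exact hne1 j φ hφ one' (funext fun x => by simp [one', Cfsg.conjFun]) he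
    have hle := Finset.sum_le_univ_sum_of_nonneg (s := insert one' (insert (θ i) (insert (θb i) V)))
      (f := fun χ => c i χ ^ 2) (fun χ => sq_nonneg _)
    have n1 : ∀ ψ ∈ (E i).S, one' ≠ (E i).t ψ := fun ψ hψ =>
      (hne1 i ψ hψ one' (funext fun x => by simp [one', Cfsg.conjFun])).symm
    rw [Finset.sum_insert (by
        simp only [Finset.mem_insert, not_or]
        exact ⟨n1 _ (E i).o_mem, n1 _ (E i).ob_mem, hnot1⟩),
      Finset.sum_insert (by
        simp only [Finset.mem_insert, not_or]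
        exact ⟨hθθb i, hnot _ (E i).o_mem⟩),
      Finset.sum_insert (hnot _ (E i).ob_mem), hP, hcone, hcθ, hcb] at hle
    rcases (E i).sign with h | h <;> rw [h] at hle <;>
      nlinarith [sq_nonneg ((E i).b - 1), sq_nonneg ((E i).b), sq_nonneg ((E i).b + 1)]
  -- the bound on outgoing weights
  have hout : ∀ i, ∑ j ∈ Finset.univ.erase i, (c j (θ i) : ℝ) ^ 2 * w j ≤
      ((E i).e + 2 * (E i).ε * (E i).b : ℝ) / Nat.card (H i) -
        ((E i).b : ℝ) ^ 2 * (E i).D / Nat.card (H i) := by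
    intro i
    have hle := sum_rmass_le C hdisj (θ i : G → ℂ) (Chars.classInner_self_irr (θ i).2)
    rw [← Finset.add_sum_erase _ _ (Finset.mem_univ i)] at hle
    have h1 : rmass (C i) (θ i : G → ℂ) = 1 - ((E i).e + 2 * (E i).ε * (E i).b : ℝ) / Nat.card (H i) +
        ((E i).b : ℝ) ^ 2 * (E i).D / Nat.card (H i) := by
      have h := (cmass_eq_rmass (C i) (θ i : G → ℂ)).symm.trans (E i).mass_o
      have h' : ((rmass (C i) (θ i : G → ℂ) : ℝ) : ℂ) = ((1 - ((E i).e + 2 * (E i).ε * (E i).b : ℝ) /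
          Nat.card (H i) + ((E i).b : ℝ) ^ 2 * (E i).D / Nat.card (H i) : ℝ) : ℂ) := by
        rw [h]; push_cast; ring
      exact_mod_cast h'
    have h2 : ∀ j ∈ Finset.univ.erase i, rmass (C j) (θ i : G → ℂ) = (c j (θ i) : ℝ) ^ 2 * w j := by
      intro j hj
      have hij : i ≠ j := Ne.symm (Finset.mem_erase.mp hj).1
      simp only [hw, rmass]
      rw [Finset.mul_sum, Finset.mul_sum, Finset.mul_sum]
      refine Finset.sum_congr rfl fun g _ => ?_
      rw [mul_left_comm]
      refine congrArg (fun z : ℝ => (Nat.card G : ℝ)⁻¹ * z) ?_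
      by_cases hg : g ∈ C j
      · rw [if_pos hg, if_pos hg, (E j).const (θ i) (fun ψ hψ => (hfam i j hij _ (E i).o_mem ψ hψ).symm) g hg,
          hc, show ((c j (θ i) : ℂ)) = (((c j (θ i) : ℝ)) : ℂ) by push_cast; rfl, Complex.normSq_ofReal]
        simp [pow_two]
      · rw [if_neg hg, if_neg hg, mul_zero]
    rw [Finset.sum_congr rfl h2, h1] at hle
    linarith
  -- conclusion
  obtain ⟨i, -, hmin⟩ := Finset.exists_min_image (Finset.univ : Finset ι) (fun j => (E j).e)
    Finset.univ_nonempty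
  set e := (E i).e with he
  set O := (Finset.univ.erase i).filter fun j => c j (θ i) ≠ 0
  set I := (Finset.univ.erase i).filter fun j => ¬ c j (θ i) ≠ 0
  have hwnn : ∀ j, 0 ≤ w j := fun j => by rw [hwval]; positivity
  have hsplit : ∑ j, w j = w i + (∑ j ∈ O, w j + ∑ j ∈ I, w j) := by
    rw [Finset.sum_filter_add_sum_filter_not, Finset.add_sum_erase _ _ (Finset.mem_univ i)]
  have hO : ∑ j ∈ O, w j ≤ ((E i).e + 2 * (E i).ε * (E i).b : ℝ) / Nat.card (H i) -
      ((E i).b : ℝ) ^ 2 * (E i).D / Nat.card (H i) := by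
    refine le_trans ?_ (hout i)
    refine le_trans (Finset.sum_le_sum fun j hj => ?_)
      (Finset.sum_le_sum_of_subset_of_nonneg (Finset.filter_subset _ _)
        fun j _ _ => mul_nonneg (sq_nonneg _) (hwnn j))
    have h0 : (1 : ℤ) ≤ c j (θ i) ^ 2 :=
      Int.add_one_le_iff.mpr (lt_of_le_of_ne (sq_nonneg _)
        (Ne.symm (pow_ne_zero 2 (Finset.mem_filter.mp hj).2)))
    exact le_mul_of_one_le_left (hwnn j) (by exact_mod_cast h0)
  have hI : ∑ j ∈ I, ((E j).D : ℝ) ≤ (e : ℝ) - 1 := by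
    have h : ∑ j ∈ I, ((E j).D : ℤ) ≤ (e : ℤ) - 1 := by
      refine le_trans (le_trans (Finset.sum_le_sum fun j hj => ?_)
        (Finset.sum_le_sum_of_subset_of_nonneg (Finset.filter_subset _ _) fun j _ _ => by positivity)) (hin i)
      obtain ⟨hj1, hj2⟩ := Finset.mem_filter.mp hj
      rw [not_not] at hj2
      have h0 : (1 : ℤ) ≤ c i (θ j) ^ 2 :=
        Int.add_one_le_iff.mpr (lt_of_le_of_ne (sq_nonneg _) (Ne.symm (pow_ne_zero 2
          ((hcross i j (Ne.symm (Finset.mem_erase.mp hj1).1)).resolve_left (fun h => h hj2)))))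
      exact le_mul_of_one_le_right (by positivity) h0
    have := (Int.cast_le (R := ℝ)).mpr h
    push_cast at this
    exact this
  have hIw : ∀ K : ℝ, 0 < K → (∀ j ∈ I, K ≤ (Nat.card (H j) : ℝ)) →
      ∑ j ∈ I, w j ≤ ((e : ℝ) - 1) / K := by
    intro K hK hb
    refine le_trans (Finset.sum_le_sum (g := fun j => ((E j).D : ℝ) / K) fun j hj => ?_) ?_
    · rw [hwval]
      exact div_le_div_of_nonneg_left (by positivity) hK (hb j hj)
    · rw [← Finset.sum_div]
      exact div_le_div_of_nonneg_right hI hK.le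
  have hh : (Nat.card (H i) : ℝ) = (e : ℝ) * (E i).D + 1 := by exact_mod_cast (E i).card_H
  have he3 : (3 : ℝ) ≤ e := by exact_mod_cast (E i).e_ge
  have hg : (e : ℝ) * Nat.card (H i) ≤ Nat.card G := by
    exact_mod_cast (E i).card_L ▸ Subgroup.card_le_card_group (L i)
  have hgpos : (0 : ℝ) < Nat.card G := by exact_mod_cast Nat.card_pos
  have hgi : (Nat.card G : ℝ)⁻¹ ≤ ((e : ℝ) * Nat.card (H i))⁻¹ := by
    refine inv_anti₀ (mul_pos (by linarith) (by exact_mod_cast Nat.card_pos)) hg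
  have hεb : ((E i).ε : ℝ) ^ 2 = 1 := by rcases (E i).sign with h | h <;> rw [h] <;> simp
  have hmain := hsum.symm.trans hsplit
  rw [hwval i] at hmain
  by_cases hD : 4 ≤ (E i).D
  · have hD' : (4 : ℝ) ≤ (E i).D := by exact_mod_cast hD
    have hb : ∀ j ∈ I, (2 * (e : ℝ) + 1) ≤ (Nat.card (H j) : ℝ) := fun j _ => by
      rw [show (2 * (e : ℝ) + 1) = ((2 * e + 1 : ℕ) : ℝ) by push_cast; ring, Nat.cast_le, (E j).card_H]
      nlinarith [hmin j (Finset.mem_univ j), (E j).D_ge]
    have hI' := hIw _ (by linarith) hb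
    set D : ℝ := ((E i).D : ℝ)
    set h : ℝ := (Nat.card (H i) : ℝ)
    set b : ℝ := ((E i).b : ℝ)
    set ε : ℝ := ((E i).ε : ℝ)
    have hhpos : 0 < h := by rw [hh]; positivity
    have hr : ((e : ℝ) + 2 * ε * b) / h - b ^ 2 * D / h ≤ 1 / 4 := by
      rw [← sub_div, div_le_iff₀ hhpos, hh]
      nlinarith [sq_nonneg (b * D - ε)]
    have hwi : D / h ≤ 1 / e := by
      rw [div_le_div_iff₀ hhpos (by linarith), hh]; nlinarith
    have hinv' : ((e : ℝ) * h)⁻¹ ≤ 1 / 39 := by
      rw [← one_div]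
      refine one_div_le_one_div_of_le (by norm_num) ?_
      rw [hh]; nlinarith
    have hfin : 1 / (e : ℝ) + ((e : ℝ) - 1) / (2 * e + 1) < 3 / 4 - 1 / 39 := by
      rw [div_add_div _ _ (by linarith) (by linarith), div_lt_iff₀ (by positivity)]
      nlinarith
    linarith
  · have hD2 : (E i).D = 2 := by
      have := (E i).D_ge
      obtain ⟨k, hk⟩ := (E i).D_even
      omega
    have hb : ∀ j ∈ I, (2 * (e : ℝ) + 5) ≤ (Nat.card (H j) : ℝ) := fun j hj => by
      rw [show (2 * (e : ℝ) + 5) = ((2 * e + 5 : ℕ) : ℝ) by push_cast; ring, Nat.cast_le, (E j).card_H]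
      have h1 := hmin j (Finset.mem_univ j)
      have h3 := (E i).e_ge
      obtain ⟨k, hk⟩ := (E j).D_even
      have h4 := (E j).D_ge
      by_cases h5 : (E j).D = 2
      · have hne : (E j).e ≠ e := fun h6 => by
          have hij : i ≠ j := Ne.symm (Finset.mem_erase.mp (Finset.mem_filter.mp hj).1).1
          have h7 := hcop i j hij
          rw [(E i).card_H, (E j).card_H, hD2, h5, ← he, h6, Nat.coprime_self] at h7
          omega
        obtain ⟨a, ha⟩ := (E j).e_odd
        obtain ⟨a', ha'⟩ := (E i).e_odd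
        rw [h5]
        omega
      · nlinarith [show 4 ≤ (E j).D by omega]
    have hI' := hIw _ (by linarith) hb
    rw [hD2] at hmain hO hh
    push_cast at hmain hO hh
    set b : ℝ := ((E i).b : ℝ)
    set ε : ℝ := ((E i).ε : ℝ)
    have hbint : ε * b ≤ b ^ 2 := by
      have h : (E i).ε * (E i).b ≤ (E i).b ^ 2 := by
        rcases (E i).sign with h | h <;> rw [h] <;> rcases le_or_gt (E i).b 0 with hb | hb <;> nlinarith
      show ((E i).ε : ℝ) * ((E i).b : ℝ) ≤ ((E i).b : ℝ) ^ 2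
      exact_mod_cast h
    set h : ℝ := (Nat.card (H i) : ℝ)
    have hhpos : 0 < h := by rw [hh]; positivity
    have hr : ((e : ℝ) + 2 * ε * b) / h - b ^ 2 * 2 / h ≤ e / h := by
      rw [← sub_div]
      exact div_le_div_of_nonneg_right (by linarith) hhpos.le
    have hfin : 2 / h + (e : ℝ) / h + ((e : ℝ) - 1) / (2 * e + 5) + ((e : ℝ) * h)⁻¹ < 1 := by
      rw [hh, ← sub_pos]
      have : 1 - (2 / ((e : ℝ) * 2 + 1) + (e : ℝ) / ((e : ℝ) * 2 + 1) + ((e : ℝ) - 1) / (2 * e + 5) +
          ((e : ℝ) * ((e : ℝ) * 2 + 1))⁻¹) =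
          ((4 * e - 4) * e - (2 * e + 5)) / ((e : ℝ) * ((e : ℝ) * 2 + 1) * (2 * e + 5)) := by
        field_simp
        ring
      rw [this]
      exact div_pos (by nlinarith) (by positivity)
    linarith

end Cfsg.Agent.OddChar
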