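import Mathlib.GroupTheory.OrderOfElement
import Mathlib.GroupTheory.Index
import Mathlib.GroupTheory.QuotientGroup.Basic
import Cfsg.Prelude.Def_OddOrderChar

/-!
Elementary group theory for the character-theoretic part of the odd order theorem:
coprime decomposition of elements and first consequences of the Dade hypothesis.
-/

set_option autoImplicit false
set_option linter.unusedSectionVars false

namespace Cfsg.Agent.OddChar

variable {G : Type*} [Group G]

/-- A single exponent picks out the `N`-part of every product of commuting elements. -/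
theorem exists_split_exponent {N M : ℕ} (h : Nat.Coprime N M) :
    ∃ m : ℕ, ∀ {G : Type*} [Group G] (a u : G),
      a * u = u * a → a ^ N = 1 → u ^ M = 1 → (a * u) ^ m = a := by
  obtain ⟨m, hmN, hmM⟩ := Nat.chineseRemainder h 1 0
  refine ⟨m, ?_⟩
  intro G _ a u hc haN huM
  rw [(show Commute a u from hc).mul_pow]
  have h1 : a ^ m = a ^ 1 := pow_eq_pow_iff_modEq.mpr
    (Nat.ModEq.of_dvd (orderOf_dvd_of_pow_eq_one haN) hmN)
  have h2 : u ^ m = u ^ 0 := pow_eq_pow_iff_modEq.mpr
    (Nat.ModEq.of_dvd (orderOf_dvd_of_pow_eq_one huM) hmM)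
  simp [h1, h2]

theorem pow_card_eq_one_of_mem (H : Subgroup G) {x : G} (hx : x ∈ H) :
    x ^ Nat.card H = 1 := by
  have := pow_card_eq_one' (x := (⟨x, hx⟩ : H))
  exact congrArg Subtype.val this

theorem mem_centralizer_singleton {a c : G} :
    c ∈ Subgroup.centralizer ({a} : Set G) ↔ a * c = c * a := by
  simp [Subgroup.mem_centralizer_iff]

theorem conj_eq_self_of_mem_centralizer {a c : G}
    (h : c ∈ Subgroup.centralizer ({a} : Set G)) : c * a * c⁻¹ = a := by
  rw [← mem_centralizer_singleton.mp h]; group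

variable [Finite G] {A : Set G} {L : Subgroup G} {H : G → Subgroup G}

theorem dade_self_mem (hD : Cfsg.DadeHypothesis A L H) {a : G} (ha : a ∈ A) :
    a ∈ L ⊓ Subgroup.centralizer ({a} : Set G) :=
  ⟨hD.subset ha, mem_centralizer_singleton.mpr rfl⟩

theorem dade_commute (hD : Cfsg.DadeHypothesis A L H) {a u : G} (ha : a ∈ A) (hu : u ∈ H a) :
    a * u = u * a :=
  mem_centralizer_singleton.mp (hD.le_centralizer a ha hu)

/-- Under the Dade hypothesis `H a` is the set of elements of `C(a)` of order prime to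
`|C_L(a)|`. -/
theorem dade_mem_iff (hD : Cfsg.DadeHypothesis A L H) {a : G} (ha : a ∈ A) (u : G) :
    u ∈ H a ↔ u ∈ Subgroup.centralizer ({a} : Set G) ∧
      Nat.Coprime (orderOf u) (Nat.card ↥(L ⊓ Subgroup.centralizer ({a} : Set G))) := by
  constructor
  · intro hu
    refine ⟨hD.le_centralizer a ha hu, ?_⟩
    exact Nat.Coprime.coprime_dvd_left
      (orderOf_dvd_of_pow_eq_one (pow_card_eq_one_of_mem _ hu)) (hD.coprime a ha a ha)
  · rintro ⟨huC, hcop⟩
    let C := Subgroup.centralizer ({a} : Set G)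
    let K := L ⊓ C
    have hle : H a ≤ C := hD.le_centralizer a ha
    have hnorm : ((H a).subgroupOf C).Normal := ⟨fun n hn c => by
      simpa [Subgroup.mem_subgroupOf] using hD.conj_mem_H a ha c.1 c.2 n.1 hn⟩
    have hsup : (H a).subgroupOf C ⊔ K.subgroupOf C = ⊤ := by
      rw [← Subgroup.subgroupOf_sup hle inf_le_right, hD.sup_eq a ha]
      exact Subgroup.subgroupOf_self C
    have : (⟨u, huC⟩ : C) ∈ (H a).subgroupOf C ⊔ K.subgroupOf C := by simp [hsup]
    obtain ⟨y, hy, z, hz, hyz⟩ := Subgroup.mem_sup_of_normal_left.mp this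
    have hmk : QuotientGroup.mk' ((H a).subgroupOf C) ⟨u, huC⟩ =
        QuotientGroup.mk' ((H a).subgroupOf C) z := by
      rw [← hyz, map_mul]; simp [hy]
    have d1 : orderOf (QuotientGroup.mk' ((H a).subgroupOf C) ⟨u, huC⟩) ∣ orderOf u := by
      apply (orderOf_map_dvd _ _).trans
      rw [← Subgroup.orderOf_coe]
    have d2 : orderOf (QuotientGroup.mk' ((H a).subgroupOf C) ⟨u, huC⟩) ∣ Nat.card K := by
      rw [hmk]
      apply (orderOf_map_dvd _ _).trans
      rw [← Subgroup.orderOf_coe]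
      exact orderOf_dvd_of_pow_eq_one (pow_card_eq_one_of_mem K hz)
    have h1 := Nat.eq_one_of_dvd_coprimes hcop d1 d2
    rw [orderOf_eq_one_iff, QuotientGroup.mk'_apply, QuotientGroup.eq_one_iff] at h1
    exact h1

/-- A single exponent extracts `a` from `a * u` and `b` from `b * v`. -/
theorem dade_split_pair (hD : Cfsg.DadeHypothesis A L H) {a b : G} (ha : a ∈ A) (hb : b ∈ A) :
    ∃ m : ℕ, (∀ u ∈ H a, (a * u) ^ m = a) ∧ ∀ v ∈ H b, (b * v) ^ m = b := by
  obtain ⟨m, hm⟩ := exists_split_exponent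
    (N := Nat.card ↥(L ⊓ Subgroup.centralizer ({a} : Set G)) *
      Nat.card ↥(L ⊓ Subgroup.centralizer ({b} : Set G)))
    (M := Nat.card (H a) * Nat.card (H b))
    (Nat.Coprime.mul_left
      (Nat.Coprime.mul_right (hD.coprime a ha a ha).symm (hD.coprime b hb a ha).symm)
      (Nat.Coprime.mul_right (hD.coprime a ha b hb).symm (hD.coprime b hb b hb).symm))
  refine ⟨m, fun u hu => hm a u (dade_commute hD ha hu) ?_ ?_,
    fun v hv => hm b v (dade_commute hD hb hv) ?_ ?_⟩
  · rw [pow_mul, pow_card_eq_one_of_mem _ (dade_self_mem hD ha), one_pow]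
  · rw [pow_mul, pow_card_eq_one_of_mem _ hu, one_pow]
  · rw [mul_comm, pow_mul, pow_card_eq_one_of_mem _ (dade_self_mem hD hb), one_pow]
  · rw [mul_comm, pow_mul, pow_card_eq_one_of_mem _ hv, one_pow]

/-- Conjugate elements of `a H(a)` and `b H(b)` come with an exponent-free conjugation of `a` to `b`. -/
theorem dade_conj_base (hD : Cfsg.DadeHypothesis A L H) {a b u v g : G} (ha : a ∈ A) (hb : b ∈ A)
    (hu : u ∈ H a) (hv : v ∈ H b) (h : g * (a * u) * g⁻¹ = b * v) :
    g * a * g⁻¹ = b := by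
  obtain ⟨m, h1, h2⟩ := dade_split_pair hD ha hb
  have := congrArg (· ^ m) h
  simpa [conj_pow, h1 u hu, h2 v hv] using this

end Cfsg.Agent.OddChar
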