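import Cfsg.Agent.OddChar.InducedSet
import Cfsg.Agent.OddChar.Virtual
import Cfsg.Agent.S1487
import Cfsg.Agent.S1514
import Cfsg.Agent.S1528
import Cfsg.Agent.Chars2.TI
import Cfsg.Agent.Chars.Gen
import Cfsg.Prelude.Def_OddOrderLocal

/-!
Groups with a normal subgroup containing the centralizers of its nonidentity elements, and the
coherence system given by induction from a trivial intersection kernel.
-/

set_option autoImplicit false
set_option linter.unusedSectionVars false

open scoped Classical ComplexConjugate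

namespace Cfsg.Agent.OddChar

universe u

variable {L : Type u} [Group L] [Fintype L]

theorem eq_one_of_real_of_odd (hodd : Odd (Nat.card L)) {θ : L → ℂ}
    (hθ : Cfsg.IsIrrCharacter L θ) (hreal : Cfsg.conjFun θ = θ) : θ = fun _ => 1 := by
  by_contra hne
  have hθc := Chars.isCharacter_of_isIrr hθ
  have h0 := Chars.classInner_irr_of_ne hθ (Chars.isIrrCharacter_one (G := L)) hne
  rw [Chars.classInner_def, mul_eq_zero] at h0
  simp only [map_one, mul_one] at h0
  have h1 : ∑ g : L, θ g = 0 := h0.resolve_left (inv_ne_zero Chars.card_ne_zero)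
  set e := Fintype.equivFin L
  have hsym : ∀ g : L, θ g⁻¹ = θ g := fun g => by
    rw [Chars.char_inv_eq_conj hθc]
    exact congrFun hreal g
  have hinv : ∀ g : L, g⁻¹ = g → g = 1 := by
    intro g hg
    have h2 : orderOf g ∣ 2 := orderOf_dvd_of_pow_eq_one (by
      rw [sq]; nth_rw 1 [← hg]; exact inv_mul_cancel g)
    rcases (Nat.dvd_prime Nat.prime_two).mp h2 with h | h
    · exact orderOf_eq_one_iff.mp h
    · have := Odd.of_dvd_nat hodd (orderOf_dvd_natCard g)
      rw [h] at this; exact absurd this (by decide)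
  set A := (Finset.univ : Finset L).filter fun g => e g < e g⁻¹
  set B := (Finset.univ : Finset L).filter fun g => e g⁻¹ < e g
  have hAB : ∑ g ∈ A, θ g = ∑ g ∈ B, θ g := by
    refine Finset.sum_equiv (Equiv.inv L) (fun g => by simp [A, B]) fun g _ => ?_
    simp [hsym]
  have hsplit : ∑ g : L, θ g = θ 1 + (∑ g ∈ A, θ g + ∑ g ∈ B, θ g) := by
    rw [← Finset.sum_union (Finset.disjoint_left.mpr fun g hA hB => by
      simp only [A, B, Finset.mem_filter] at hA hB
      exact lt_asymm hA.2 hB.2)]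
    rw [← Finset.add_sum_erase _ _ (Finset.mem_univ (1 : L))]
    refine congrArg _ (Finset.sum_congr ?_ fun _ _ => rfl)
    ext g
    simp only [A, B, Finset.mem_erase, Finset.mem_univ, and_true, Finset.mem_union,
      Finset.mem_filter, true_and]
    constructor
    · intro hg
      exact lt_or_gt_of_ne fun h => hg (hinv g (e.injective h).symm)
    · rintro (h | h) rfl <;> simp at h
  rw [← hAB, h1] at hsplit
  obtain ⟨d, hd0, hd, hdvd⟩ := Chars.irr_degree_dvd_card hθ
  have hint : IsIntegral ℤ ((d : ℂ) / ((2 : ℕ) : ℂ)) := by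
    rw [← hd, show θ 1 / ((2 : ℕ) : ℂ) = -∑ g ∈ A, θ g by push_cast; linear_combination (-1 / 2 : ℂ) * hsplit]
    exact (IsIntegral.sum _ fun g _ => Chars.isIntegral_of_isCharacter hθc g).neg
  have h2 := Chars.dvd_of_isIntegral_div (by norm_num) hint
  have h3 := Odd.of_dvd_nat hodd hdvd
  exact Nat.not_even_iff_odd.mpr h3 (even_iff_two_dvd.mpr h2)

variable {K : Subgroup L} [hK : K.Normal]

theorem frob_fixed_principal (hC : ∀ k ∈ K, k ≠ 1 → Subgroup.centralizer ({k} : Set L) ≤ K)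
    {θ : K → ℂ} (hθ : Cfsg.IsIrrCharacter K θ) {x : L} (hx : x ∉ K) (hfix : cj θ x = θ) :
    θ = fun _ => 1 := by
  refine eq_one_of_fixed (x := x) (fun n hn => ?_) hθ hfix
  by_contra hn1
  obtain ⟨c, hc⟩ := isConj_iff.mp hn
  have hc' : (c : L) * (x * n * x⁻¹) * (c : L)⁻¹ = n := congrArg Subtype.val hc
  have hcomm : (c : L) * x * n = n * ((c : L) * x) := by
    calc (c : L) * x * n = (c : L) * (x * n * x⁻¹) * (c : L)⁻¹ * ((c : L) * x) := by group
      _ = n * ((c : L) * x) := by rw [hc']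
  exact hx ((K.mul_mem_cancel_left c.2).mp (hC n n.2 (fun h => hn1 (Subtype.ext h))
    (Subgroup.mem_centralizer_singleton_iff.mpr (by first | exact hcomm | exact hcomm.symm))))

theorem frob_ind_irr (hC : ∀ k ∈ K, k ≠ 1 → Subgroup.centralizer ({k} : Set L) ≤ K)
    {θ : K → ℂ} (hθ : Cfsg.IsIrrCharacter K θ) (hne : θ ≠ fun _ => 1) :
    Cfsg.IsIrrCharacter L (Cfsg.indFun K θ) := by
  have hθc := Chars.isCharacter_of_isIrr hθ
  have hc := Chars.isCharacter_indFun K hθc
  refine Chars.isIrrCharacter_of_norm_one hc ?_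
  have hcl := Chars.isClassFunction_of_isCharacter hθc
  rw [Chars.classInner_indFun K θ (Chars.isClassFunction_of_isCharacter hc)]
  rw [show (fun k : K => Cfsg.indFun K θ k) = _ from res_indFun_orbit θ]
  have hcard : Nat.card {g : L // cj θ g = θ} = Nat.card K := by
    refine Nat.card_congr (Equiv.subtypeEquivRight fun g => ⟨fun h => ?_, fun h => cj_of_mem hcl h⟩)
    by_contra hg
    exact hne (frob_fixed_principal hC hθ hg h)
  rw [hcard, div_self (Chars.subgroup_card_ne_zero K), one_smul, Chars.classInner_sum_right,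
    Finset.sum_eq_single_of_mem θ (Finset.mem_image.mpr ⟨1, Finset.mem_univ _, cj_one θ⟩)
      (fun ψ hψ hψne => ?_), Chars.classInner_self_irr hθ]
  obtain ⟨g, -, rfl⟩ := Finset.mem_image.mp hψ
  exact Chars.classInner_irr_of_ne hθ (isIrr_cj hθ g) (Ne.symm hψne)

theorem frob_indAbove_eq (hC : ∀ k ∈ K, k ≠ 1 → Subgroup.centralizer ({k} : Set L) ≤ K) :
    Cfsg.inducedIrrAbove K ⊥ =
      {χ | Cfsg.IsIrrCharacter L χ ∧ ∃ k ∈ K, χ k ≠ χ 1} := by
  ext χ
  constructor
  · rintro ⟨θ, hθ, hne, -, rfl⟩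
    refine ⟨frob_ind_irr hC hθ hne, ?_⟩
    by_contra hall
    push Not at hall
    have h := (S1487.result K K le_rfl θ hθ).mpr hall
    have h1 : ∀ a : K, θ a = θ 1 := fun a => h a a.2
    apply hne
    have h2 := Chars.classInner_self_irr hθ
    rw [Chars.classInner_def, Finset.sum_congr rfl (fun a _ => by rw [h1 a]), Finset.sum_const,
      Finset.card_univ, nsmul_eq_mul, ← Nat.card_eq_fintype_card, inv_mul_cancel_left₀
        Chars.card_ne_zero] at h2
    obtain ⟨n, hn0, hn⟩ := Chars.exists_irr_apply_one_eq hθ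
    rw [hn, map_natCast] at h2
    have hn1 : n = 1 := Nat.eq_one_of_mul_eq_one_right (by exact_mod_cast h2 : n * n = 1)
    funext a
    rw [h1 a, hn, hn1, Nat.cast_one]
  · rintro ⟨hχ, k, hk, hne⟩
    obtain ⟨φ, hφ, rfl⟩ := S1528.result K hC χ hχ ⟨k, hk, hne⟩
    refine ⟨φ, hφ, fun h => ?_, fun a ha => ?_, rfl⟩
    · apply hne
      subst h
      exact (S1487.result K K le_rfl (fun _ => 1) hφ).mp (fun _ _ => rfl) k hk
    · rw [show a = 1 from Subtype.ext (Subgroup.mem_bot.mp ha)]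

theorem frob_conj_ne (hodd : Odd (Nat.card L))
    (hC : ∀ k ∈ K, k ≠ 1 → Subgroup.centralizer ({k} : Set L) ≤ K) {φ : L → ℂ}
    (hφ : φ ∈ Cfsg.inducedIrrAbove K ⊥) : Cfsg.conjFun φ ≠ φ := by
  obtain ⟨θ, hθ, hne, -, rfl⟩ := hφ
  intro h
  have hirr := frob_ind_irr hC hθ hne
  have h1 := eq_one_of_real_of_odd hodd hirr h
  obtain ⟨n, hn0, hn⟩ := Chars.exists_irr_apply_one_eq hθ
  by_cases hK1 : K = ⊤
  · apply hne
    funext a
    have h2 := congrFun h1 a
    subst hK1
    rwa [Chars.indFun_top_apply (Chars.isClassFunction_of_isCharacter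
      (Chars.isCharacter_of_isIrr hθ))] at h2
  · obtain ⟨x, hx⟩ : ∃ x, x ∉ K := by
      by_contra hno
      push Not at hno
      exact hK1 (top_unique fun x _ => hno x)
    have h2 := congrFun h1 x
    rw [Chars.indFun_of_not_mem_normal _ _ hx] at h2
    exact zero_ne_one h2

/-- The quotient by a normal subgroup inside `K` keeps the Frobenius property. -/
theorem frob_section (hC : ∀ k ∈ K, k ≠ 1 → Subgroup.centralizer ({k} : Set L) ≤ K)
    (M : Subgroup L) [M.Normal] {k : L} (hk : k ∈ K) (hkM : k ∉ M) {x : L}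
    (hx : x * k * x⁻¹ * k⁻¹ ∈ M) : x ∈ K := by
  by_contra hxK
  set π := QuotientGroup.mk' M with hπ
  have hπs : Function.Surjective π := QuotientGroup.mk'_surjective M
  haveI : (K.map π).Normal := Subgroup.Normal.map inferInstance _ hπs
  set n : K.map π := ⟨π k, Subgroup.mem_map_of_mem _ hk⟩
  have hn1 : n ≠ 1 := fun h => hkM ((QuotientGroup.eq_one_iff k).mp (congrArg Subtype.val h))
  have hconj : (⟨π x * n * (π x)⁻¹,
      (inferInstance : (K.map π).Normal).conj_mem n n.2 (π x)⟩ : K.map π) = n := by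
    apply Subtype.ext
    show π x * π k * (π x)⁻¹ = π k
    rw [← mul_inv_eq_one, ← map_inv, ← map_mul, ← map_mul, ← map_inv, ← map_mul]
    exact (QuotientGroup.eq_one_iff _).mpr hx
  obtain ⟨θ, hθ, hne, hfix⟩ := exists_fixed (x := π x) hn1 (by rw [hconj])
  set f : K →* K.map π := π.subgroupMap K
  have hf : Function.Surjective f := π.subgroupMap_surjective K
  refine hne ?_
  have h1 := frob_fixed_principal hC (θ := fun a => θ (f a))
    (Chars.isIrrCharacter_comp_surjective hθ f hf) hxK (funext fun a => ?_)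
  · funext b
    obtain ⟨a, rfl⟩ := hf b
    exact congrFun h1 a
  · have h2 := congrFun hfix (f a)
    simp only [cj] at h2 ⊢
    rw [← h2]
    exact congrArg θ (Subtype.ext (by simp [f]))

/-! ### Induction from a trivial intersection kernel -/

theorem indAbove_vanish_outside {A : Subgroup L} {α : L → ℂ}
    (hα : α ∈ Cfsg.zspan (Cfsg.inducedIrrAbove K A)) {x : L} (hx : x ∉ K) : α x = 0 := by
  refine Submodule.span_induction (p := fun f _ => f x = 0) ?_ rfl ?_ ?_ hα
  · rintro f ⟨θ, -, -, -, rfl⟩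
    exact Chars.indFun_of_not_mem_normal _ _ hx
  · intro f g _ _ hf hg; simp [hf, hg]
  · intro n f _ hf; simp [hf]

variable {G : Type*} [Group G] [Fintype G]

/-- Induction is an isometry on the virtual characters supported on a TI kernel. -/
theorem ti_isometry (H : Subgroup G) (Lg : Subgroup G) [Fintype Lg]
    [(H.subgroupOf Lg).Normal] (hHL : H ≤ Lg) (hTI : Cfsg.IsTISubset (H : Set G))
    (hN : Subgroup.normalizer (H : Set G) = Lg) :
    Cfsg.IsLinearIsometryOn (Cfsg.zspanOn (Cfsg.inducedIrrAbove (H.subgroupOf Lg) ⊥) {1}ᶜ)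
        (fun α : Lg → ℂ => Cfsg.indFun Lg α) ∧
      ∀ α ∈ Cfsg.zspanOn (Cfsg.inducedIrrAbove (H.subgroupOf Lg) ⊥) {1}ᶜ,
        Cfsg.indFun Lg α 1 = 0 := by
  set S := Cfsg.inducedIrrAbove (H.subgroupOf Lg) ⊥
  have hgen : ∀ α ∈ Cfsg.zspan S, Cfsg.IsGeneralizedCharacter Lg α := fun α hα =>
    virt_of_mem_zspan (fun φ hφ => by
      obtain ⟨θ, hθ, -, -, rfl⟩ := hφ
      exact virt_of_char (Chars.isCharacter_indFun _ (Chars.isCharacter_of_isIrr hθ))) hα
  set T : Set G := {g | g ∈ H ∧ g ≠ 1} with hT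
  have hsupp : ∀ α ∈ Cfsg.zspanOn S {1}ᶜ, ∀ x : Lg, (x : G) ∉ T → α x = 0 := by
    intro α hα x hx
    obtain ⟨h1, h2⟩ := mem_zspanOn_one.mp hα
    by_cases hxH : (x : G) ∈ H
    · have : (x : G) = 1 := by
        by_contra h
        exact hx ⟨hxH, h⟩
      rw [show x = 1 from Subtype.ext this]
      exact h2
    · exact indAbove_vanish_outside h1 hxH
  have hTI' : ∀ g : G, g ∉ Lg → ∀ s ∈ T, g * s * g⁻¹ ∉ T := by
    intro g hg s hs hgs
    exact hs.2 (hTI g (by rw [hN]; exact hg) s hs.1 hgs.1)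
  refine ⟨⟨fun α _ β _ => Chars.indFun_add Lg α β, fun α _ n => ?_, fun α hα β hβ => ?_,
    fun α hα => Chars.isGen_indFun Lg (hgen α hα.1)⟩, fun α hα => ?_⟩
  · show Cfsg.indFun Lg (n • α) = n • Cfsg.indFun Lg α
    rw [← Int.cast_smul_eq_zsmul ℂ, Chars.indFun_smul, Int.cast_smul_eq_zsmul]
  · exact Chars2.indFun_inner_ti Lg α T (hsupp α hα) hTI' β
      (virt_isClassFunction (hgen β hβ.1)) (hsupp β hβ)
  · rw [Chars.indFun_apply_one, (mem_zspanOn_one.mp hα).2, mul_zero]

/-- The coherence system of a Frobenius group of odd order with TI kernel. -/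
theorem ti_frobenius_system (H Lg : Subgroup G) [Fintype Lg] [(H.subgroupOf Lg).Normal]
    (hHL : H ≤ Lg) (hTI : Cfsg.IsTISubset (H : Set G))
    (hN : Subgroup.normalizer (H : Set G) = Lg) (hodd : Odd (Nat.card Lg)) (hH1 : H ≠ ⊥)
    (hsolv : Group.IsSolvable (H.subgroupOf Lg))
    (hC : ∀ k ∈ H.subgroupOf Lg, k ≠ 1 → Subgroup.centralizer ({k} : Set Lg) ≤ H.subgroupOf Lg) :
    ∃ R, Cfsg.IsCoherenceSystem (Cfsg.inducedIrrAbove (H.subgroupOf Lg) ⊥)
      (fun α : Lg → ℂ => Cfsg.indFun Lg α) R := by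
  have hne : (⊥ : Subgroup Lg) < H.subgroupOf Lg := Ne.bot_lt fun h => hH1 (by
    rw [← Subgroup.map_subgroupOf_eq_of_le hHL, h, Subgroup.map_bot])
  obtain ⟨φ, hφ, -⟩ := exists_linear_above (H.subgroupOf Lg) hsolv ⊥ hne
  obtain ⟨h1, h2⟩ := ti_isometry H Lg hHL hTI hN
  refine S1514.result _ ⟨φ, hφ⟩ (fun χ hχ => ?_)
    (fun χ hχ => ⟨indAbove_conj_mem _ _ hχ, frob_conj_ne hodd hC hχ⟩) _ h1 h2
  obtain ⟨θ, hθ, hne', -, rfl⟩ := hχ
  exact frob_ind_irr hC hθ hne'

end Cfsg.Agent.OddChar
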