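/-
Thompson's transitivity theorem in the odd-order setting.
-/
import Cfsg.Agent.OddChar.InvariantCore
import Cfsg.Agent.Components.Transitivity

set_option autoImplicit false
set_option linter.style.haveILetI false
set_option linter.unusedSectionVars false

namespace Cfsg.Agent.OddChar

variable {X : Type*} [Group X] [Finite X] {p q : ℕ} [hp : Fact p.Prime] [hq : Fact q.Prime]

theorem map_conj_one {X : Type*} [Group X] (Q : Subgroup X) :
    Q.map (MulAut.conj (1 : X)).toMonoidHom = Q := by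
  rw [map_one, MulEquiv.toMonoidHom_eq_coe, show ((1 : MulAut X) : X →* X) = MonoidHom.id X from rfl,
    Subgroup.map_id]

/-- Maximal `B`-invariant `q`-subgroups. -/
def IsMaxInvariant (B : Subgroup X) (q : ℕ) (Q : Subgroup X) : Prop :=
  IsPGroup q Q ∧ B ≤ Subgroup.normalizer (Q : Set X) ∧
    ∀ R : Subgroup X, IsPGroup q R → B ≤ Subgroup.normalizer (R : Set X) → Q ≤ R → R = Q

theorem isMaxInvariant_conj {B : Subgroup X} {c : X} (hc : c ∈ Subgroup.centralizer (B : Set X))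
    {Q : Subgroup X} (h : IsMaxInvariant B q Q) :
    IsMaxInvariant B q (Q.map (MulAut.conj c).toMonoidHom) := by
  have hB : ∀ c ∈ Subgroup.centralizer (B : Set X), ∀ R : Subgroup X, B ≤ Subgroup.normalizer (R : Set X) →
      B ≤ Subgroup.normalizer (R.map (MulAut.conj c).toMonoidHom : Set X) := by
    intro c hc R hR b hb
    refine Coprime.mem_normalizer_of_conj_mem fun y hy => ?_
    rw [Coprime.map_conj_mem] at hy ⊢
    have e := Subgroup.mem_centralizer_iff.mp (inv_mem hc) b hb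
    have h1 := (Subgroup.mem_normalizer_iff.mp (hR hb) _).mp hy
    convert h1 using 1
    have e' := Subgroup.mem_centralizer_iff.mp hc b⁻¹ (inv_mem hb)
    calc c⁻¹ * (b * y * b⁻¹) * c = (c⁻¹ * b) * y * (b⁻¹ * c) := by group
      _ = (b * c⁻¹) * y * (c * b⁻¹) := by rw [e, e']
      _ = _ := by group
  refine ⟨h.1.map _, hB c hc Q h.2.1, fun R hR hBR hle => ?_⟩
  have hle' : Q ≤ R.map (MulAut.conj c⁻¹).toMonoidHom := fun y hy => by
    rw [Coprime.map_conj_mem, inv_inv]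
    exact hle ⟨y, hy, rfl⟩
  have e := h.2.2 _ (hR.map _) (hB c⁻¹ (inv_mem hc) R hBR) hle'
  rw [← e, Components.map_conj_map_conj, mul_inv_cancel, map_conj_one]

theorem odd_transitivity (hX : Odd (Nat.card X))
    (hloc : ∀ T : Subgroup X, IsPGroup p T → T ≠ ⊥ → Group.IsSolvable (Subgroup.normalizer (T : Set X)))
    {B E : Subgroup X} (hBp : IsPGroup p B) [hBa : IsMulCommutative B]
    (hBc : ∀ x ∈ Subgroup.centralizer (B : Set X), (∃ k, x ^ p ^ k = 1) → x ∈ B)
    (hEB : E ≤ B) (hE : ∀ e ∈ E, e ^ p = 1) (hE3 : p ^ 3 ≤ Nat.card E) (hqp : q ≠ p) :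
    ∀ (n : ℕ) (Q₁ Q₂ : Subgroup X), IsMaxInvariant B q Q₁ → IsMaxInvariant B q Q₂ →
      Nat.card X - Nat.card ↥(Q₁ ⊓ Q₂) = n →
      ∃ c ∈ Subgroup.centralizer (B : Set X), Q₁.map (MulAut.conj c).toMonoidHom = Q₂ := by
  intro n
  induction n using Nat.strong_induction_on with
  | _ n IH =>
    intro Q₁ Q₂ h₁ h₂ hn
    by_cases hD₁ : Q₁ ⊓ Q₂ = Q₁
    · exact ⟨1, one_mem _, (map_conj_one Q₁).trans (h₁.2.2 Q₂ h₂.1 h₂.2.1 (inf_eq_left.mp hD₁)).symm⟩
    by_cases hD₂ : Q₁ ⊓ Q₂ = Q₂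
    · exact ⟨1, one_mem _, (map_conj_one Q₁).trans (h₂.2.2 Q₁ h₁.1 h₁.2.1 (inf_eq_right.mp hD₂))⟩
    have hEA : Cfsg.IsElementaryAbelian p E := by
      refine ⟨⟨⟨fun a b => Subtype.ext ?_⟩⟩, hE⟩
      exact congrArg (fun z : B => (z : X)) (mul_comm' (⟨a.1, hEB a.2⟩ : B) ⟨b.1, hEB b.2⟩)
    obtain ⟨a, ha, ha1, hg₁, hg₂⟩ := Components.exists_common_growth hEA hE3 hqp h₁.1 h₂.1
      (hEB.trans h₁.2.1) (hEB.trans h₂.2.1) hD₁ hD₂
    set D := Q₁ ⊓ Q₂
    have hBD : B ≤ Subgroup.normalizer (D : Set X) :=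
      (le_inf h₁.2.1 h₂.2.1).trans Subgroup.inf_normalizer_le_normalizer_inf
    set H := Subgroup.centralizer ({a} : Set X)
    have hBH : B ≤ H := fun b hb => by
      rw [Subgroup.mem_centralizer_iff]
      intro y hy
      rw [Set.mem_singleton_iff.mp hy]
      exact congrArg (fun z : B => (z : X)) (mul_comm' (⟨a, hEB ha⟩ : B) ⟨b, hb⟩)
    have hz : IsPGroup p (Subgroup.zpowers a) := hBp.to_le (Subgroup.zpowers_le.mpr (hEB ha))
    haveI : Group.IsSolvable H := by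
      haveI := hloc _ hz (fun h => ha1 (Subgroup.zpowers_eq_bot.mp h))
      refine Group.isSolvable_of_isSolvable_injective (Subgroup.inclusion_injective
        (K := Subgroup.normalizer (Subgroup.zpowers a : Set X)) ?_)
      · intro x hx
        refine Coprime.mem_normalizer_of_conj_mem fun y hy => ?_
        obtain ⟨j, rfl⟩ := Subgroup.mem_zpowers_iff.mp hy
        rw [← conj_zpow, ← Subgroup.mem_centralizer_iff.mp hx a rfl, mul_inv_cancel_right]
        exact hy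
    have hp2 : Odd p := by
      obtain ⟨k, hk⟩ := IsPGroup.iff_card.mp hz
      have hk1 : k ≠ 0 := fun h => ha1 (Subgroup.zpowers_eq_bot.mp
        (Subgroup.eq_bot_of_card_eq _ (by rw [hk, h, pow_zero])))
      exact Odd.of_dvd_nat hX (((dvd_pow_self p hk1).trans hk.symm.dvd).trans (Subgroup.card_subgroup_dvd_card _))
    set O := (Cfsg.pPrimeCore p H).map H.subtype
    have hOH : O ≤ H := Subgroup.map_subtype_le _
    have hHO : H ≤ Subgroup.normalizer (O : Set X) := fun g hg => Coprime.mem_normalizer_of_conj_mem fun y hy => by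
      obtain ⟨z, hz, rfl⟩ := hy
      exact ⟨⟨g, hg⟩ * z * ⟨g, hg⟩⁻¹, (inferInstance : (Cfsg.pPrimeCore p H).Normal).conj_mem z hz _, rfl⟩
    set Y := O ⊓ Subgroup.normalizer (D : Set X)
    have hBY : B ≤ Subgroup.normalizer (Y : Set X) :=
      (le_inf (hBH.trans hHO) (hBD.trans Subgroup.le_normalizer)).trans
        Subgroup.inf_normalizer_le_normalizer_inf
    have hcop : (Nat.card B).Coprime (Nat.card Y) := by
      obtain ⟨k, hk⟩ := IsPGroup.iff_card.mp hBp
      have h1 : (Nat.card O).Coprime p := by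
        rw [Subgroup.card_map_of_injective H.subtype_injective]
        exact Core.card_pPrimeCore_coprime p H
      rw [hk]
      exact Nat.Coprime.pow_left k (h1.coprime_dvd_left (Subgroup.card_dvd_of_le inf_le_left)).symm
    haveI : Group.IsSolvable B := Coprime.isSolvable_of_isPGroup hBp
    have hBcH : ∀ x ∈ Subgroup.centralizer (B.subgroupOf H : Set H), (∃ k, x ^ p ^ k = 1) →
        x ∈ B.subgroupOf H := fun x hx ⟨k, hk⟩ =>
      hBc x (Subgroup.mem_centralizer_iff.mpr fun b hb =>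
        congrArg Subtype.val (Subgroup.mem_centralizer_iff.mp hx ⟨b, hBH hb⟩ hb))
        ⟨k, congrArg Subtype.val hk⟩
    have grow : ∀ Q : Subgroup X, IsMaxInvariant B q Q →
        ¬ (Subgroup.normalizer (D : Set X) ⊓ Q ⊓ H ≤ D) →
        ∃ M S : Subgroup X, M ≤ Q ∧ M ≤ S ∧ S ≤ Y ∧ IsPGroup q S ∧ ¬ q ∣ S.relIndex Y ∧
          B ≤ Subgroup.normalizer (S : Set X) ∧ ¬ M ≤ D := by
      intro Q hQ hg
      set M := Subgroup.normalizer (D : Set X) ⊓ Q ⊓ H
      have hBM : B ≤ Subgroup.normalizer (M : Set X) :=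
        (le_inf ((le_inf (hBD.trans Subgroup.le_normalizer) hQ.2.1).trans
          Subgroup.inf_normalizer_le_normalizer_inf) (hBH.trans Subgroup.le_normalizer)).trans
          Subgroup.inf_normalizer_le_normalizer_inf
      have hMq : IsPGroup q M := hQ.1.to_le (inf_le_left.trans inf_le_right)
      have hMH : M ≤ H := inf_le_right
      have hMY : M ≤ Y := by
        refine le_inf ?_ (inf_le_left.trans inf_le_left)
        have h := invariant_le_pPrimeCore hp2 (B := B.subgroupOf H) (K := M.subgroupOf H)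
          (hBp.comap_of_injective H.subtype H.subtype_injective) hBcH (by
            rw [Nat.card_congr (Subgroup.subgroupOfEquivOfLe hMH).toEquiv]
            obtain ⟨k, hk⟩ := IsPGroup.iff_card.mp hMq
            rw [hk]
            exact Nat.Coprime.pow_left k ((Nat.coprime_primes hq.out hp.out).mpr hqp))
          (fun b hb => Coprime.mem_normalizer_of_conj_mem fun y hy =>
            (Subgroup.mem_normalizer_iff.mp (hBM hb) y).mp hy)
        exact fun x hx => ⟨⟨x, hMH hx⟩, h hx, rfl⟩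
      obtain ⟨S, hMS, hSY, hS, hSi, hSB⟩ := Coprime.exists_invariant_sylow_ge hBY hcop hMY hMq hBM
      exact ⟨M, S, inf_le_left.trans inf_le_right, hMS, hSY, hS, hSi, hSB, hg⟩
    obtain ⟨M₁, S₁, hM₁Q, hM₁S, hS₁Y, hS₁, hS₁i, hS₁A, hM₁D⟩ := grow Q₁ h₁ hg₁
    obtain ⟨M₂, S₂, hM₂Q, hM₂S, hS₂Y, hS₂, hS₂i, hS₂A, hM₂D⟩ := grow Q₂ h₂ hg₂
    obtain ⟨c, ⟨hcY, hcB⟩, hcS⟩ := Coprime.exists_conj_invariant_sylow hBY hcop hS₁Y hS₂Y hS₁ hS₂
      hS₁i hS₂i hS₁A hS₂A
    have mk : ∀ S : Subgroup X, S ≤ Y → IsPGroup q S → B ≤ Subgroup.normalizer (S : Set X) →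
        ∃ R, IsMaxInvariant B q R ∧ D ⊔ S ≤ R := by
      intro S hS hSq hSA
      have hBDS : B ≤ Subgroup.normalizer ((D ⊔ S : Subgroup X) : Set X) := fun b hb => by
        rw [Subgroup.mem_normalizer_iff_map_conj_eq, Subgroup.map_sup,
          Subgroup.mem_normalizer_iff_map_conj_eq.mp (hBD hb),
          Subgroup.mem_normalizer_iff_map_conj_eq.mp (hSA hb)]
      obtain ⟨R, hR, ⟨hRq, hRB⟩, hmax⟩ := (Set.toFinite
        {R : Subgroup X | IsPGroup q R ∧ B ≤ Subgroup.normalizer (R : Set X)}).exists_le_maximal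
        (a := D ⊔ S) ⟨(h₁.1.to_le inf_le_left).to_sup_of_normal_left' hSq (hS.trans inf_le_right), hBDS⟩
      exact ⟨R, ⟨hRq, hRB, fun T hT hT' hle => le_antisymm (hmax ⟨hT, hT'⟩ hle) hle⟩, hR⟩
    obtain ⟨R₁, hR₁, hR₁le⟩ := mk S₁ hS₁Y hS₁ hS₁A
    obtain ⟨R₂, hR₂, hR₂le⟩ := mk S₂ hS₂Y hS₂ hS₂A
    have step : ∀ U Z T : Subgroup X, IsMaxInvariant B q U → IsMaxInvariant B q Z → D ≤ U → D ≤ Z →
        T ≤ U → T ≤ Z → ¬ T ≤ D →
        ∃ d ∈ Subgroup.centralizer (B : Set X), U.map (MulAut.conj d).toMonoidHom = Z := by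
      intro U Z T hU hZ hDU hDZ hTU hTZ hTD
      refine IH _ ?_ U Z hU hZ rfl
      rw [← hn]
      have hlt : D < U ⊓ Z := lt_of_le_of_ne (le_inf hDU hDZ) fun h => hTD (h ▸ le_inf hTU hTZ)
      have := Set.ncard_lt_ncard (SetLike.coe_ssubset_coe.mpr hlt) (Set.toFinite _)
      rw [← Nat.card_coe_set_eq, ← Nat.card_coe_set_eq] at this
      have h2 := Subgroup.card_le_card_group (U ⊓ Z)
      simp only [SetLike.coe_sort_coe] at this
      omega
    obtain ⟨c₁, hc₁, e₁⟩ := step Q₁ R₁ M₁ h₁ hR₁ inf_le_left (le_sup_left.trans hR₁le) hM₁Q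
      (hM₁S.trans (le_sup_right.trans hR₁le)) hM₁D
    set R₁' := R₁.map (MulAut.conj c).toMonoidHom
    have hR₁' : D ⊔ S₂ ≤ R₁' := by
      have h := Subgroup.map_mono (f := (MulAut.conj c).toMonoidHom) hR₁le
      rw [Subgroup.map_sup, hcS] at h
      have hDc : D.map (MulAut.conj c).toMonoidHom = D := Subgroup.mem_normalizer_iff_map_conj_eq.mp hcY.2
      rw [hDc] at h
      exact h
    obtain ⟨c₂, hc₂, e₂⟩ := step R₁' R₂ M₂ (isMaxInvariant_conj hcB hR₁) hR₂ (le_sup_left.trans hR₁')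
      (le_sup_left.trans hR₂le) (hM₂S.trans (le_sup_right.trans hR₁'))
      (hM₂S.trans (le_sup_right.trans hR₂le)) hM₂D
    obtain ⟨c₃, hc₃, e₃⟩ := step R₂ Q₂ M₂ hR₂ h₂ (le_sup_left.trans hR₂le) inf_le_right
      (hM₂S.trans (le_sup_right.trans hR₂le)) hM₂Q hM₂D
    refine ⟨c₃ * c₂ * c * c₁, mul_mem (mul_mem (mul_mem hc₃ hc₂) hcB) hc₁, ?_⟩
    rw [← e₃, ← e₂, Components.map_conj_map_conj]
    show _ = (R₁.map (MulAut.conj c).toMonoidHom).map _
    rw [Components.map_conj_map_conj, ← e₁, Components.map_conj_map_conj]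

end Cfsg.Agent.OddChar
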