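import Mathlib
import Cfsg.Prelude.Def_Sporadic_a

/-! Independent sets in a projective plane of order four. -/

set_option autoImplicit false

namespace Cfsg.Agent.OddChar

variable {α : Type*} [Fintype α] [DecidableEq α]

/-- No line meets the set in more than two points. -/
def PIndep (L : Finset (Finset α)) (S : Finset α) : Prop := ∀ l ∈ L, (l ∩ S).card ≤ 2

/-- The points extending an independent set. -/
noncomputable def pExt (L : Finset (Finset α)) (S : Finset α) : Finset α :=
  open Classical in Finset.univ.filter fun p => p ∉ S ∧ PIndep L (insert p S)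

omit [Fintype α] in
theorem PIndep.mono {L : Finset (Finset α)} {S T : Finset α} (h : PIndep L S) (hTS : T ⊆ S) :
    PIndep L T := fun l hl =>
  (Finset.card_le_card (Finset.inter_subset_inter_left hTS)).trans (h l hl)

/-- The hypothesis bundle of a plane of order four. -/
structure IsPlaneFour (L : Finset (Finset α)) : Prop where
  pts : Fintype.card α = 21
  five : ∀ l ∈ L, l.card = 5
  uniq : ∀ s : Finset α, s.card = 2 → ∃! b, b ∈ L ∧ s ⊆ b

variable {L : Finset (Finset α)} (hL : IsPlaneFour L)

include hL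

theorem line_eq {l m : Finset α} (hl : l ∈ L) (hm : m ∈ L) {a b : α} (hab : a ≠ b)
    (hal : a ∈ l) (hbl : b ∈ l) (ham : a ∈ m) (hbm : b ∈ m) : l = m :=
  (hL.uniq {a, b} (Finset.card_pair hab)).unique
    ⟨hl, by simp [Finset.insert_subset_iff, hal, hbl]⟩ ⟨hm, by simp [Finset.insert_subset_iff, ham, hbm]⟩

theorem pencil_card (d : α) : (L.filter fun l => d ∈ l).card = 5 := by
  have hu : (L.filter fun l => d ∈ l).biUnion (fun l => l.erase d) = Finset.univ.erase d := by
    ext p
    simp only [Finset.mem_biUnion, Finset.mem_filter, Finset.mem_erase, Finset.mem_univ, and_true]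
    refine ⟨fun ⟨l, _, h, _⟩ => h, fun h => ?_⟩
    obtain ⟨b, ⟨hb, hsub⟩, -⟩ := hL.uniq {p, d} (Finset.card_pair h)
    simp only [Finset.insert_subset_iff, Finset.singleton_subset_iff] at hsub
    exact ⟨b, ⟨hb, hsub.2⟩, h, hsub.1⟩
  have hd : ((L.filter fun l => d ∈ l) : Set (Finset α)).PairwiseDisjoint fun l => l.erase d := by
    intro l hl m hm hne
    simp only [Finset.mem_coe, Finset.mem_filter] at hl hm
    refine Finset.disjoint_left.2 fun p hp hp' => ?_
    simp only [Finset.mem_erase] at hp hp'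
    exact hne (line_eq hL hl.1 hm.1 hp.1 hp.2 hl.2 hp'.2 hm.2)
  have h := congrArg Finset.card hu
  rw [Finset.card_biUnion hd, Finset.card_erase_of_mem (Finset.mem_univ d), Finset.card_univ, hL.pts,
    Finset.sum_congr rfl fun l hl => show (l.erase d).card = 4 by
      rw [Finset.mem_filter] at hl
      rw [Finset.card_erase_of_mem hl.2, hL.five l hl.1],
    Finset.sum_const, smul_eq_mul] at h
  omega

theorem lines_meet {l m : Finset α} (hl : l ∈ L) (hm : m ∈ L) : ∃ p, p ∈ l ∧ p ∈ m := by
  by_contra h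
  push Not at h
  obtain ⟨d, hd⟩ := Finset.card_pos.1 (show 0 < m.card by rw [hL.five m hm]; norm_num)
  have hdl : d ∉ l := fun hdl => h d hdl hd
  choose! f hf hf' using fun p (hp : p ∈ l) =>
    (hL.uniq {d, p} (Finset.card_pair fun e : d = p => hdl (e ▸ hp))).exists
  have hin : ∀ p ∈ l, f p ∈ (L.filter fun l => d ∈ l).erase m := fun p hp => by
    have := hf' p hp
    simp only [Finset.insert_subset_iff, Finset.singleton_subset_iff] at this
    exact Finset.mem_erase.2 ⟨fun e => h p hp (e ▸ this.2), Finset.mem_filter.2 ⟨hf p hp, this.1⟩⟩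
  have hinj : ∀ p ∈ l, ∀ q ∈ l, f p = f q → p = q := fun p hp q hq e => by
    by_contra hne
    have h1 := hf' p hp
    have h2 := hf' q hq
    rw [← e] at h2
    simp only [Finset.insert_subset_iff, Finset.singleton_subset_iff] at h1 h2
    exact hdl (line_eq hL hl (hf p hp) hne hp hq h1.2 h2.2 ▸ h1.1)
  have := Finset.card_le_card_of_injOn f hin hinj
  rw [hL.five l hl, Finset.card_erase_of_mem (Finset.mem_filter.2 ⟨hm, hd⟩), pencil_card hL d] at this
  omega

theorem indep_not_mem {S : Finset α} (hS : PIndep L S) {l : Finset α} (hl : l ∈ L) {a b c : α}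
    (hab : a ≠ b) (hac : a ≠ c) (hbc : b ≠ c) (ha : a ∈ S) (hb : b ∈ S) (hc : c ∈ S)
    (hal : a ∈ l) (hbl : b ∈ l) : c ∉ l := fun hcl => by
  have h3 : ({a, b, c} : Finset α).card = 3 := Finset.card_eq_three.2 ⟨a, b, c, hab, hac, hbc, rfl⟩
  have : ({a, b, c} : Finset α) ⊆ l ∩ S := by simp [Finset.insert_subset_iff, *]
  have := Finset.card_le_card this
  have := hS l hl
  omega

theorem indep_insert {S : Finset α} (hS : PIndep L S) {p : α}
    (h : ∀ l ∈ L, ∀ a ∈ S, ∀ b ∈ S, a ≠ b → a ∈ l → b ∈ l → p ∉ l) : PIndep L (insert p S) := by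
  intro l hl
  by_cases hp : p ∈ l
  · rw [Finset.inter_insert_of_mem hp]
    refine (Finset.card_insert_le _ _).trans (Nat.succ_le_succ (Finset.card_le_one.2 fun a ha b hb => ?_))
    by_contra hne
    rw [Finset.mem_inter] at ha hb
    exact h l hl a ha.2 b hb.2 hne ha.1 hb.1 hp
  · rw [Finset.inter_insert_of_notMem hp]
    exact hS l hl

theorem mem_pExt {S : Finset α} (hS : PIndep L S) {p : α} :
    p ∈ pExt L S ↔ p ∉ S ∧ ∀ l ∈ L, ∀ a ∈ S, ∀ b ∈ S, a ≠ b → a ∈ l → b ∈ l → p ∉ l := by
  classical
  simp only [pExt, Finset.mem_filter, Finset.mem_univ, true_and]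
  refine ⟨fun ⟨hp, hi⟩ => ⟨hp, fun l hl a ha b hb hab hal hbl => ?_⟩, fun ⟨hp, h⟩ =>
    ⟨hp, indep_insert hL hS h⟩⟩
  exact indep_not_mem hL hi hl hab (fun e => hp (e ▸ ha)) (fun e => hp (e ▸ hb))
    (Finset.mem_insert_of_mem ha) (Finset.mem_insert_of_mem hb) (Finset.mem_insert_self _ _) hal hbl

/-- The extension points of `insert d T`, sorted by the lines through `d`. -/
theorem ext_structure {T : Finset α} {d : α} (hd : d ∉ T) (hi : PIndep L (insert d T))
    (hk : T.card ≤ 3) :
    (pExt L (insert d T)).card = (5 - T.card) * (4 - Nat.choose T.card 2) ∧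
      ∀ m ∈ L, d ∈ m →
        ((pExt L (insert d T)).filter fun p => p ∈ m).card ≤ 4 - Nat.choose T.card 2 := by
  classical
  set E := pExt L (insert d T)
  set D := (L.filter fun l => d ∈ l).filter fun m => Disjoint m T with hD
  have hT : PIndep L T := hi.mono (Finset.subset_insert _ _)
  choose! ln hln hlnsub using fun Q (hQ : Q ∈ T.powersetCard 2) =>
    (hL.uniq Q (Finset.mem_powersetCard.1 hQ).2).exists
  have hlnd : ∀ Q ∈ T.powersetCard 2, d ∉ ln Q := fun Q hQ => by
    obtain ⟨a, b, hab, rfl⟩ := Finset.card_eq_two.1 (Finset.mem_powersetCard.1 hQ).2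
    have hs := (Finset.mem_powersetCard.1 hQ).1
    have hl := hlnsub _ hQ
    simp only [Finset.insert_subset_iff, Finset.singleton_subset_iff] at hs hl
    exact indep_not_mem hL hi (hln _ hQ) hab (fun e => hd (e ▸ hs.1)) (fun e => hd (e ▸ hs.2))
      (Finset.mem_insert_of_mem hs.1) (Finset.mem_insert_of_mem hs.2) (Finset.mem_insert_self _ _) hl.1 hl.2
  haveI : Nonempty α := ⟨d⟩
  -- the bad points on a line of `D`
  have hbad : ∀ m ∈ D, ((m.erase d).filter fun p => ∃ Q ∈ T.powersetCard 2, p ∈ ln Q).card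
      = Nat.choose T.card 2 := by
    intro m hm
    simp only [hD, Finset.mem_filter] at hm
    obtain ⟨⟨hmL, hdm⟩, hmT⟩ := hm
    choose! pt hpt hpt' using fun Q (hQ : Q ∈ T.powersetCard 2) => lines_meet hL hmL (hln Q hQ)
    rw [← Finset.card_powersetCard 2 T]
    symm
    refine Finset.card_bij (fun Q _ => pt Q) (fun Q hQ => ?_) (fun Q hQ Q' hQ' e => ?_) ?_
    · simp only [Finset.mem_filter, Finset.mem_erase]
      exact ⟨⟨fun e => hlnd Q hQ (e ▸ hpt' Q hQ), hpt Q hQ⟩, Q, hQ, hpt' Q hQ⟩
    · by_contra hne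
      have hQc := (Finset.mem_powersetCard.1 hQ)
      have hQc' := (Finset.mem_powersetCard.1 hQ')
      have hne' : ln Q ≠ ln Q' := fun el => by
        have hsub : Q ∪ Q' ⊆ ln Q ∩ T := Finset.subset_inter
          (Finset.union_subset (hlnsub Q hQ) (el ▸ hlnsub Q' hQ')) (Finset.union_subset hQc.1 hQc'.1)
        have h1 := (Finset.card_le_card hsub).trans (hT _ (hln Q hQ))
        have h2 : Q = Q ∪ Q' := Finset.eq_of_subset_of_card_le Finset.subset_union_left (by omega)
        have h3 : Q' = Q ∪ Q' := Finset.eq_of_subset_of_card_le Finset.subset_union_right (by omega)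
        exact hne (h2.trans h3.symm)
      obtain ⟨a, ha⟩ : (Q ∩ Q').Nonempty := by
        rw [← Finset.card_pos]
        have := Finset.card_union_add_card_inter Q Q'
        have := Finset.card_le_card (Finset.union_subset hQc.1 hQc'.1)
        omega
      rw [Finset.mem_inter] at ha
      have hap : a ≠ pt Q := fun e' =>
        Finset.disjoint_left.1 hmT (e' ▸ hpt Q hQ) (hQc.1 ha.1)
      exact hne' (line_eq hL (hln Q hQ) (hln Q' hQ') hap (hlnsub Q hQ ha.1) (hpt' Q hQ)
        (hlnsub Q' hQ' ha.2) (e ▸ hpt' Q' hQ'))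
    · intro p hp
      simp only [Finset.mem_filter, Finset.mem_erase] at hp
      obtain ⟨⟨hpd, hpm⟩, Q, hQ, hpQ⟩ := hp
      refine ⟨Q, hQ, ?_⟩
      by_contra hne
      exact hlnd Q hQ (line_eq hL hmL (hln Q hQ) hne (hpt Q hQ) hpm (hpt' Q hQ) hpQ ▸ hdm)
  have hmem : ∀ p, p ∈ E ↔ ∃ m ∈ D, p ∈ m.erase d ∧ ¬ ∃ Q ∈ T.powersetCard 2, p ∈ ln Q := by
    intro p
    rw [mem_pExt hL hi]
    constructor
    · rintro ⟨hpS, hp⟩
      rw [Finset.mem_insert, not_or] at hpS
      obtain ⟨m, ⟨hm, hms⟩, -⟩ := hL.uniq {d, p} (Finset.card_pair (Ne.symm hpS.1))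
      simp only [Finset.insert_subset_iff, Finset.singleton_subset_iff] at hms
      refine ⟨m, ?_, Finset.mem_erase.2 ⟨hpS.1, hms.2⟩, ?_⟩
      · simp only [hD, Finset.mem_filter]
        refine ⟨⟨hm, hms.1⟩, Finset.disjoint_left.2 fun a ham haT => ?_⟩
        exact hp m hm d (Finset.mem_insert_self _ _) a (Finset.mem_insert_of_mem haT)
          (fun e => hd (e ▸ haT)) hms.1 ham hms.2
      · rintro ⟨Q, hQ, hpQ⟩
        obtain ⟨a, b, hab, rfl⟩ := Finset.card_eq_two.1 (Finset.mem_powersetCard.1 hQ).2
        have hs := (Finset.mem_powersetCard.1 hQ).1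
        have hl := hlnsub _ hQ
        simp only [Finset.insert_subset_iff, Finset.singleton_subset_iff] at hs hl
        exact hp _ (hln _ hQ) a (Finset.mem_insert_of_mem hs.1) b (Finset.mem_insert_of_mem hs.2)
          hab hl.1 hl.2 hpQ
    · rintro ⟨m, hm, hpe, hp⟩
      simp only [hD, Finset.mem_filter] at hm
      obtain ⟨⟨hmL, hdm⟩, hmT⟩ := hm
      rw [Finset.mem_erase] at hpe
      refine ⟨fun h => ?_, fun l hl a ha b hb hab hal hbl hpl => ?_⟩
      · rcases Finset.mem_insert.1 h with h | h
        · exact hpe.1 h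
        · exact Finset.disjoint_left.1 hmT hpe.2 h
      · by_cases hdl : d ∈ l
        · have hlm := line_eq hL hl hmL hpe.1 hpl hdl hpe.2 hdm
          subst hlm
          rcases Finset.mem_insert.1 ha with ha | ha
          · rcases Finset.mem_insert.1 hb with hb | hb
            · exact hab (ha.trans hb.symm)
            · exact Finset.disjoint_left.1 hmT hbl hb
          · exact Finset.disjoint_left.1 hmT hal ha
        · have haT : a ∈ T := (Finset.mem_insert.1 ha).resolve_left fun e => hdl (e ▸ hal)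
          have hbT : b ∈ T := (Finset.mem_insert.1 hb).resolve_left fun e => hdl (e ▸ hbl)
          have hQ : ({a, b} : Finset α) ∈ T.powersetCard 2 := Finset.mem_powersetCard.2
            ⟨by simp [Finset.insert_subset_iff, haT, hbT], Finset.card_pair hab⟩
          have hl' := hlnsub _ hQ
          simp only [Finset.insert_subset_iff, Finset.singleton_subset_iff] at hl'
          exact hp ⟨_, hQ, line_eq hL hl (hln _ hQ) hab hal hbl hl'.1 hl'.2 ▸ hpl⟩
  let F : Finset α → Finset α := fun m =>
    (m.erase d).filter fun p => ¬ ∃ Q ∈ T.powersetCard 2, p ∈ ln Q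
  have hF : ∀ m ∈ D, (F m).card = 4 - Nat.choose T.card 2 := by
    intro m hm
    have h := Finset.card_filter_add_card_filter_not (s := m.erase d)
      (fun p => ∃ Q ∈ T.powersetCard 2, p ∈ ln Q)
    rw [hbad m hm] at h
    have hm' := hm
    simp only [hD, Finset.mem_filter] at hm'
    rw [Finset.card_erase_of_mem hm'.1.2, hL.five m hm'.1.1] at h
    simp only [F]
    omega
  have hEF : E = D.biUnion F := by
    ext p; simp only [Finset.mem_biUnion, hmem, F, Finset.mem_filter]
  have hsame : ∀ m ∈ L, d ∈ m → ∀ p, p ∈ E → p ∈ m → m ∈ D ∧ p ∈ F m := by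
    intro m hm hdm p hp hpm
    obtain ⟨m', hm', hpe, hp'⟩ := (hmem p).1 hp
    have hm'' := hm'
    simp only [hD, Finset.mem_filter] at hm''
    rw [Finset.mem_erase] at hpe
    have e := line_eq hL hm hm''.1.1 hpe.1 hpm hdm hpe.2 hm''.1.2
    subst e
    exact ⟨hm', by simp only [F, Finset.mem_filter, Finset.mem_erase]; exact ⟨hpe, hp'⟩⟩
  refine ⟨?_, fun m hm hdm => ?_⟩
  · have hdisj : (D : Set (Finset α)).PairwiseDisjoint F := by
      intro l hl m hm hne
      simp only [Finset.mem_coe, hD, Finset.mem_filter] at hl hm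
      refine Finset.disjoint_left.2 fun p hp hp' => ?_
      simp only [F, Finset.mem_filter, Finset.mem_erase] at hp hp'
      exact hne (line_eq hL hl.1.1 hm.1.1 hp.1.1 hp.1.2 hl.1.2 hp'.1.2 hm.1.2)
    rw [hEF, Finset.card_biUnion hdisj, Finset.sum_congr rfl hF, Finset.sum_const, smul_eq_mul]
    congr 1
    have h := Finset.card_filter_add_card_filter_not (s := L.filter fun l => d ∈ l) (fun m => Disjoint m T)
    rw [pencil_card hL d] at h
    choose! g hg hg' using fun a (ha : a ∈ T) =>
      (hL.uniq {d, a} (Finset.card_pair fun e : d = a => hd (e ▸ ha))).exists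
    have hgc : ((L.filter fun l => d ∈ l).filter fun m => ¬ Disjoint m T).card = T.card := by
      symm
      refine Finset.card_bij (fun a _ => g a) (fun a ha => ?_) (fun a ha b hb e => ?_) ?_
      · have := hg' a ha
        simp only [Finset.insert_subset_iff, Finset.singleton_subset_iff] at this
        simp only [Finset.mem_filter]
        exact ⟨⟨hg a ha, this.1⟩, fun hdis => Finset.disjoint_left.1 hdis this.2 ha⟩
      · by_contra hne
        have h1 := hg' a ha
        have h2 := hg' b hb
        rw [← e] at h2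
        simp only [Finset.insert_subset_iff, Finset.singleton_subset_iff] at h1 h2
        exact indep_not_mem hL hi (hg a ha) hne (fun e : a = d => hd (e ▸ ha)) (fun e : b = d => hd (e ▸ hb))
          (Finset.mem_insert_of_mem ha) (Finset.mem_insert_of_mem hb) (Finset.mem_insert_self _ _)
          h1.2 h2.2 h1.1
      · intro m hm
        simp only [Finset.mem_filter] at hm
        obtain ⟨a, ham, haT⟩ := Finset.not_disjoint_iff.1 hm.2
        refine ⟨a, haT, ?_⟩
        have := hg' a haT
        simp only [Finset.insert_subset_iff, Finset.singleton_subset_iff] at this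
        exact line_eq hL (hg a haT) hm.1.1 (fun e : d = a => hd (e ▸ haT)) this.1 this.2 hm.1.2 ham
    rw [hgc] at h
    rw [hD]
    omega
  · by_cases hne : ((E.filter fun p => p ∈ m)).Nonempty
    · obtain ⟨q, hq⟩ := hne
      rw [Finset.mem_filter] at hq
      have hmD := (hsame m hm hdm q hq.1 hq.2).1
      rw [← hF m hmD]
      refine Finset.card_le_card fun p hp => ?_
      rw [Finset.mem_filter] at hp
      exact (hsame m hm hdm p hp.1 hp.2).2
    · rw [Finset.not_nonempty_iff_eq_empty.1 hne, Finset.card_empty]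
      exact Nat.zero_le _

theorem ext_card {S : Finset α} (hS : PIndep L S) (h : S.card = 3 ∨ S.card = 4) :
    (pExt L S).card = if S.card = 3 then 9 else 2 := by
  obtain ⟨d, hd⟩ := Finset.card_pos.1 (show 0 < S.card by omega)
  have hT := Finset.card_erase_of_mem hd
  have he := Finset.insert_erase hd
  have key := (ext_structure hL (Finset.notMem_erase d S) (by rw [he]; exact hS) (by omega)).1
  rw [he, hT] at key
  rw [key]
  rcases h with h | h <;> rw [h] <;> decide

/-- Two extension points of an independent 4-set are never collinear with one of its points. -/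
theorem ext_apart {S : Finset α} (hS : PIndep L S) (h4 : S.card = 4) {x y s : α} (hs : s ∈ S)
    (hx : x ∈ pExt L S) (hy : y ∈ pExt L S) (hxy : x ≠ y) {l : Finset α} (hl : l ∈ L) (hsl : s ∈ l)
    (hxl : x ∈ l) : y ∉ l := by
  intro hyl
  have hT := Finset.card_erase_of_mem hs
  have he := Finset.insert_erase hs
  have key := (ext_structure hL (Finset.notMem_erase s S) (by rw [he]; exact hS) (by omega)).2 l hl hsl
  rw [he, hT, h4] at key
  have h2 : ({x, y} : Finset α) ⊆ (pExt L S).filter fun p => p ∈ l := by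
    simp [Finset.insert_subset_iff, *]
  have := Finset.card_le_card h2
  rw [Finset.card_pair hxy] at this
  norm_num [Nat.choose] at key
  omega

theorem ext_five {S : Finset α} (hS : PIndep L S) (h4 : S.card = 4) {x : α} (hx : x ∈ pExt L S) :
    pExt L (insert x S) = (pExt L S).erase x := by
  have hxS := ((mem_pExt hL hS).1 hx).1
  have hi : PIndep L (insert x S) := indep_insert hL hS ((mem_pExt hL hS).1 hx).2
  ext p
  rw [mem_pExt hL hi, Finset.mem_erase, mem_pExt hL hS]
  constructor
  · rintro ⟨hp, h⟩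
    rw [Finset.mem_insert, not_or] at hp
    exact ⟨hp.1, hp.2, fun l hl a ha b hb => h l hl a (Finset.mem_insert_of_mem ha) b
      (Finset.mem_insert_of_mem hb)⟩
  · rintro ⟨hpx, hp, h⟩
    have hpE : p ∈ pExt L S := (mem_pExt hL hS).2 ⟨hp, h⟩
    refine ⟨by simp [hpx, hp], fun l hl a ha b hb hab hal hbl => ?_⟩
    rcases Finset.mem_insert.1 ha with rfl | ha'
    · exact ext_apart hL hS h4 ((Finset.mem_insert.1 hb).resolve_left hab.symm) hx hpE hpx.symm hl hbl hal
    · rcases Finset.mem_insert.1 hb with rfl | hb'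
      · exact ext_apart hL hS h4 ha' hx hpE hpx.symm hl hal hbl
      · exact h l hl a ha' b hb' hab hal hbl

theorem hyperoval_unique {S : Finset α} (hS : PIndep L S) (h4 : S.card = 4) :
    ∃! H : Finset α, (H.card = 6 ∧ ∀ l ∈ L, (l ∩ H).card ≤ 2) ∧ S ⊆ H := by
  classical
  have hE := ext_card hL hS (Or.inr h4)
  rw [h4] at hE
  norm_num at hE
  obtain ⟨x, y, hxy, hEeq⟩ := Finset.card_eq_two.1 hE
  have hx : x ∈ pExt L S := by simp [hEeq]
  have hi : PIndep L (insert x S) := indep_insert hL hS ((mem_pExt hL hS).1 hx).2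
  have hy : y ∈ pExt L (insert x S) := by rw [ext_five hL hS h4 hx, hEeq]; simp [hxy.symm]
  have hi2 : PIndep L (insert y (insert x S)) := indep_insert hL hi ((mem_pExt hL hi).1 hy).2
  have hc : (insert y (insert x S)).card = 6 := by
    rw [Finset.card_insert_of_notMem ((mem_pExt hL hi).1 hy).1,
      Finset.card_insert_of_notMem ((mem_pExt hL hS).1 hx).1, h4]
  refine ⟨insert y (insert x S), ⟨⟨hc, hi2⟩,
    (Finset.subset_insert _ _).trans (Finset.subset_insert _ _)⟩, ?_⟩
  rintro H ⟨⟨h6, hH⟩, hSH⟩
  refine Finset.eq_of_subset_of_card_le (fun p hp => ?_) (by omega)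
  by_cases hpS : p ∈ S
  · simp [hpS]
  have : p ∈ pExt L S := by
    rw [mem_pExt hL hS]
    exact ⟨hpS, fun l hl a ha b hb hab hal hbl => indep_not_mem hL hH hl hab
      (fun e => hpS (e ▸ ha)) (fun e => hpS (e ▸ hb)) (hSH ha) (hSH hb) hp hal hbl⟩
  simp only [hEeq, Finset.mem_insert, Finset.mem_singleton] at this
  rcases this with rfl | rfl <;> simp

theorem ext_two {S : Finset α} (h2 : S.card = 2) : PIndep L S ∧ (pExt L S).card = 16 := by
  have hS : PIndep L S := fun l _ => (Finset.card_le_card Finset.inter_subset_right).trans h2.le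
  refine ⟨hS, ?_⟩
  obtain ⟨a, b, hab, rfl⟩ := Finset.card_eq_two.1 h2
  obtain ⟨m, ⟨hm, hms⟩, -⟩ := hL.uniq _ h2
  simp only [Finset.insert_subset_iff, Finset.singleton_subset_iff] at hms
  have : pExt L {a, b} = Finset.univ \ m := by
    ext p
    rw [mem_pExt hL hS]
    simp only [Finset.mem_sdiff, Finset.mem_univ, true_and, Finset.mem_insert, Finset.mem_singleton]
    refine ⟨fun ⟨_, h⟩ => h m hm a (Or.inl rfl) b (Or.inr rfl) hab hms.1 hms.2, fun hp => ⟨?_, ?_⟩⟩
    · rintro (rfl | rfl)
      exacts [hp hms.1, hp hms.2]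
    · rintro l hl u (rfl | rfl) v (rfl | rfl) huv hul hvl
      · exact absurd rfl huv
      · rwa [line_eq hL hl hm huv hul hvl hms.1 hms.2]
      · rwa [line_eq hL hl hm huv hul hvl hms.2 hms.1]
      · exact absurd rfl huv
  rw [this, Finset.card_sdiff_of_subset (Finset.subset_univ _), Finset.card_univ, hL.pts, hL.five m hm]

theorem indep_count_step (k e : ℕ) (he : ∀ S : Finset α, S.card = k → PIndep L S → (pExt L S).card = e) :
    open Classical in
    (Finset.univ.filter fun S : Finset α => S.card = k ∧ PIndep L S).card * e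
      = (Finset.univ.filter fun S : Finset α => S.card = k + 1 ∧ PIndep L S).card * (k + 1) := by
  classical
  refine Finset.card_mul_eq_card_mul (fun S H : Finset α => S ⊆ H) (fun S hS => ?_) (fun H hH => ?_)
  · simp only [Finset.mem_filter, Finset.mem_univ, true_and] at hS
    rw [← he S hS.1 hS.2]
    symm
    refine Finset.card_bij (fun p _ => insert p S) (fun p hp => ?_) (fun p hp q hq e' => ?_) ?_
    · simp only [pExt, Finset.mem_filter, Finset.mem_univ, true_and] at hp
      simp [Finset.bipartiteAbove, Finset.card_insert_of_notMem hp.1, hS.1, hp.2]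
    · simp only [pExt, Finset.mem_filter, Finset.mem_univ, true_and] at hp hq
      exact (Finset.insert_inj hp.1).1 e'
    · intro H hH
      simp only [Finset.bipartiteAbove, Finset.mem_filter, Finset.mem_univ, true_and] at hH
      obtain ⟨⟨hHc, hHi⟩, hsub⟩ := hH
      obtain ⟨p, hp⟩ : ∃ p, H \ S = {p} := Finset.card_eq_one.1 (by
        rw [Finset.card_sdiff_of_subset hsub]; omega)
      have hu : insert p S = H := by
        rw [Finset.insert_eq, ← hp, Finset.sdiff_union_of_subset hsub]
      refine ⟨p, ?_, hu⟩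
      simp only [pExt, Finset.mem_filter, Finset.mem_univ, true_and]
      exact ⟨(Finset.mem_sdiff.1 (hp.symm ▸ Finset.mem_singleton_self p : p ∈ H \ S)).2, hu ▸ hHi⟩
  · simp only [Finset.mem_filter, Finset.mem_univ, true_and] at hH
    have : Finset.bipartiteBelow (fun S H : Finset α => S ⊆ H)
        (Finset.univ.filter fun S : Finset α => S.card = k ∧ PIndep L S) H = H.powersetCard k := by
      ext S
      simp only [Finset.bipartiteBelow, Finset.mem_filter, Finset.mem_univ, true_and,
        Finset.mem_powersetCard]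
      exact ⟨fun ⟨⟨a, _⟩, b⟩ => ⟨b, a⟩, fun ⟨b, a⟩ => ⟨⟨a, hH.2.mono b⟩, b⟩⟩
    rw [this, Finset.card_powersetCard, hH.1, Nat.choose_succ_self_right]

theorem indep_counts :
    open Classical in
    (Finset.univ.filter fun S : Finset α => S.card = 4 ∧ PIndep L S).card = 2520 ∧
      (Finset.univ.filter fun S : Finset α => S.card = 6 ∧ PIndep L S).card = 168 := by
  classical
  have n2 : (Finset.univ.filter fun S : Finset α => S.card = 2 ∧ PIndep L S).card = 210 := by
    have h := Finset.card_powersetCard 2 (Finset.univ : Finset α)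
    rw [Finset.card_univ, hL.pts] at h
    rw [show (210 : ℕ) = Nat.choose 21 2 by decide, ← h]
    congr 1
    ext S
    simp only [Finset.mem_filter, Finset.mem_univ, true_and, Finset.mem_powersetCard,
      Finset.subset_univ]
    exact ⟨fun h => h.1, fun h => ⟨h, (ext_two hL h).1⟩⟩
  have s2 := indep_count_step hL 2 16 fun S h _ => (ext_two hL h).2
  have s3 := indep_count_step hL 3 9 fun S h hS => by rw [ext_card hL hS (Or.inl h), if_pos h]
  have s4 := indep_count_step hL 4 2 fun S h hS => by rw [ext_card hL hS (Or.inr h), if_neg (by omega)]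
  have s5 := indep_count_step hL 5 1 fun S h hS => by
    obtain ⟨x, hx⟩ := Finset.card_pos.1 (show 0 < S.card by omega)
    have hS4 : PIndep L (S.erase x) := hS.mono (Finset.erase_subset _ _)
    have h4 : (S.erase x).card = 4 := by rw [Finset.card_erase_of_mem hx]; omega
    have hxE : x ∈ pExt L (S.erase x) := by
      simp [pExt, Finset.insert_erase hx, hS]
    have := ext_five hL hS4 h4 hxE
    rw [Finset.insert_erase hx] at this
    rw [this, Finset.card_erase_of_mem hxE, ext_card hL hS4 (Or.inr h4), if_neg (by omega)]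
  norm_num at s2 s3 s4 s5
  omega

end Cfsg.Agent.OddChar
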