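import Cfsg.Agent.OddChar.Virtual
import Cfsg.Agent.Chars.Linear
import Mathlib.GroupTheory.Perm.Fin
import Mathlib.RingTheory.IntegralClosure.IntegrallyClosed

/-!
The even subgroup of `S3 × S3 × S3`, a generalised character of `S3`, and the blocks embedding
into the symmetric group on nine points.
-/

set_option autoImplicit false

open Cfsg
open scoped ComplexConjugate

namespace Cfsg.Agent.OddChar.S3Cubed

/-- The symmetric group on three letters. -/
abbrev S3 : Type := Equiv.Perm (Fin 3)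

/-- The product of the three signs. -/
def sgn3 : (Fin 3 → S3) →* ℤˣ where
  toFun f := Equiv.Perm.sign (f 0) * Equiv.Perm.sign (f 1) * Equiv.Perm.sign (f 2)
  map_one' := by simp
  map_mul' f g := by simp only [Pi.mul_apply, map_mul]; ac_rfl

/-- The even triples. -/
abbrev K : Subgroup (Fin 3 → S3) := sgn3.ker

instance : DecidablePred (· ∈ K) := fun f => decidable_of_iff (sgn3 f = 1) MonoidHom.mem_ker.symm

/-- The projection on the factor `k`. -/
def proj (k : Fin 3) : K →* S3 := (Pi.evalMonoidHom (fun _ : Fin 3 => S3) k).comp K.subtype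

theorem proj_apply (k : Fin 3) (f : K) : proj k f = (f : Fin 3 → S3) k := rfl

/-- The three-cycle. -/
def cyc : S3 := Equiv.swap 0 1 * Equiv.swap 1 2

/-- A transposition. -/
def tr : S3 := Equiv.swap 0 1

/-- An element of order six: a three-cycle at `k`, transpositions elsewhere. -/
def six (k : Fin 3) : K := ⟨fun j => if j = k then cyc else tr, by revert k; decide +kernel⟩

/-- The function which is `3` at the three-cycles and `0` elsewhere. -/
noncomputable def phi (p : S3) : ℂ := if p * p * p = 1 ∧ p ≠ 1 then 3 else 0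

theorem phi_conj (g x : S3) : phi (x * g * x⁻¹) = phi g := by
  have h : ∀ g x : S3, ((x * g * x⁻¹) * (x * g * x⁻¹) * (x * g * x⁻¹) = 1 ∧ x * g * x⁻¹ ≠ 1) ↔
      (g * g * g = 1 ∧ g ≠ 1) := by decide +kernel
  simp only [phi, h g x]

/-- The subgroup of order three. -/
def A3 : Subgroup S3 where
  carrier := {p | p * p * p = 1}
  one_mem' := by simp
  mul_mem' {a b} := by
    have h : ∀ a b : S3, a * a * a = 1 → b * b * b = 1 → (a * b) * (a * b) * (a * b) = 1 := by
      decide +kernel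
    exact h a b
  inv_mem' {a} := by
    have h : ∀ a : S3, a * a * a = 1 → a⁻¹ * a⁻¹ * a⁻¹ = 1 := by decide +kernel
    exact h a

instance : DecidablePred (· ∈ A3) := fun p => decidable_of_iff (p * p * p = 1) Iff.rfl

theorem phi_virt : IsGeneralizedCharacter S3 phi := by
  classical
  refine virt_of_classInner_int (fun g x => phi_conj g x) fun χ hχ => ?_
  have hc := Chars.isCharacter_of_isIrr hχ
  -- the value at a three-cycle is a rational algebraic integer
  obtain ⟨n, hn⟩ := Chars.exists_classInner_eq_nat (Chars.isCharacter_restrict hc A3)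
    Chars.isCharacter_one
  obtain ⟨d, hd⟩ := Chars.exists_apply_one_eq hc
  have hconj : ∀ p : S3, p * p * p = 1 → p ≠ 1 → χ p = χ cyc := by
    intro p h1 h2
    obtain ⟨x, rfl⟩ : ∃ x : S3, x * cyc * x⁻¹ = p := by revert p; decide +kernel
    exact Chars.isCharacter_conj_apply hc cyc x
  have hreal : conj (χ cyc) = χ cyc := by
    rw [← Chars.char_inv_eq_conj hc]
    exact hconj _ (by decide +kernel) (by decide +kernel)
  have hA : (Finset.univ : Finset A3) = {1, ⟨cyc, by decide +kernel⟩, ⟨cyc * cyc, by decide +kernel⟩} := by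
    ext ⟨p, hp⟩
    simp only [Finset.mem_univ, Finset.mem_insert, Finset.mem_singleton, true_iff, Subtype.ext_iff,
      OneMemClass.coe_one]
    have h : ∀ p : S3, p * p * p = 1 → p = 1 ∨ p = cyc ∨ p = cyc * cyc := by decide +kernel
    exact h p hp
  have h3 : (Nat.card A3 : ℂ) = 3 := by
    rw [Nat.card_eq_fintype_card]
    norm_cast
  rw [Chars.classInner_def, h3, hA, Finset.sum_insert (by decide +kernel),
    Finset.sum_insert (by decide +kernel), Finset.sum_singleton] at hn
  simp only [OneMemClass.coe_one, map_one, mul_one, hd,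
    hconj (cyc * cyc) (by decide +kernel) (by decide +kernel)] at hn
  have hq : χ cyc = (((3 * (n : ℚ) - d) / 2 : ℚ) : ℂ) := by
    push_cast
    linear_combination (3 / 2 : ℂ) * hn
  have hint : IsIntegral ℤ (((3 * (n : ℚ) - d) / 2 : ℚ)) := by
    refine (isIntegral_algebraMap_iff (algebraMap ℚ ℂ).injective).mp ?_
    rw [eq_ratCast, ← hq]
    exact Chars.isIntegral_of_isCharacter hc cyc
  obtain ⟨z, hz⟩ := IsIntegrallyClosed.isIntegral_iff.mp hint
  refine ⟨z, ?_⟩
  have hval : χ cyc = (z : ℂ) := by rw [hq, ← hz]; simp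
  rw [Chars.classInner_def, Finset.sum_congr rfl (g := fun p : S3 =>
    if p * p * p = 1 ∧ p ≠ 1 then (3 : ℂ) * z else 0) (fun p _ => ?_)]
  · rw [← Finset.sum_filter, Finset.sum_const, nsmul_eq_mul,
      show (Finset.univ.filter fun p : S3 => p * p * p = 1 ∧ p ≠ 1).card = 2 by decide +kernel,
      Nat.card_eq_fintype_card, show Fintype.card S3 = 6 by decide +kernel]
    push_cast
    ring
  · simp only [phi]
    split_ifs with h
    · rw [hconj p h.1 h.2, hreal, hval]
    · rw [zero_mul]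

/-! ### Facts about the even triples -/

set_option synthInstance.maxSize 2000
set_option synthInstance.maxHeartbeats 200000

theorem pow_six : ∀ f : K, f ^ 6 = 1 := by decide +kernel

theorem pow_four_eq_one : ∀ f : K, f ^ 4 = 1 →
    ∀ k : Fin 3, ¬ ((f : Fin 3 → S3) k * (f : Fin 3 → S3) k * (f : Fin 3 → S3) k = 1 ∧
      (f : Fin 3 → S3) k ≠ 1) := by decide +kernel

theorem eq_one_of_cube : ∀ f : K, f ^ 3 = 1 → (∀ k : Fin 3,
    ¬ ((f : Fin 3 → S3) k * (f : Fin 3 → S3) k * (f : Fin 3 → S3) k = 1 ∧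
      (f : Fin 3 → S3) k ≠ 1)) → f = 1 := by decide +kernel

theorem cube_of_apply_eq_one : ∀ k : Fin 3, ∀ f : K, f ^ 3 = 1 → (f : Fin 3 → S3) k = 1 →
    ∃ y : K, y ^ 3 = 1 ∧ six k ^ 3 * y * (six k ^ 3)⁻¹ * y⁻¹ = f := by decide +kernel

theorem cube_of_commute : ∀ f : K, (∀ y : K, y ^ 3 = 1 → f * y = y * f) → f ^ 3 = 1 := by
  decide +kernel

theorem involution_conj : ∀ u : K, u * u = 1 → u ≠ 1 →
    ∃ k : Fin 3, ∃ c : K, c * six k ^ 3 * c⁻¹ = u := by decide +kernel

theorem involution_apply : ∀ k : Fin 3, ∀ c : K,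
    ((c * six k ^ 3 * c⁻¹ : K) : Fin 3 → S3) k = 1 := by decide +kernel

theorem six_cube_ne : ∀ k : Fin 3, six k ^ 3 * six k ^ 3 = 1 ∧ six k ^ 3 ≠ 1 ∧ (six k ^ 3) ^ 4 = 1 := by
  decide +kernel

theorem card_theta : ∀ k : Fin 3, (Finset.univ.filter fun f : K =>
    (f : Fin 3 → S3) k * (f : Fin 3 → S3) k * (f : Fin 3 → S3) k = 1 ∧
      (f : Fin 3 → S3) k ≠ 1).card = 36 := by decide +kernel

/-- The other index used for the sign twist. -/
def nxt (k : Fin 3) : Fin 3 := k + 1

theorem card_eta : ∀ k : Fin 3, (Finset.univ.filter fun f : K =>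
    ((f : Fin 3 → S3) k * (f : Fin 3 → S3) k * (f : Fin 3 → S3) k = 1 ∧ (f : Fin 3 → S3) k ≠ 1) ∧
      Equiv.Perm.sign ((f : Fin 3 → S3) (nxt k)) = -1).card = 18 := by decide +kernel

theorem eta_conj : ∀ k : Fin 3, ∀ f : K,
    ((f : Fin 3 → S3) k * (f : Fin 3 → S3) k * (f : Fin 3 → S3) k = 1 ∧ (f : Fin 3 → S3) k ≠ 1) ∧
      Equiv.Perm.sign ((f : Fin 3 → S3) (nxt k)) = -1 → ∃ c : K, c * six k * c⁻¹ = f := by
  decide +kernel

theorem eta_disjoint : ∀ k l : Fin 3, k ≠ l → ∀ f : K,
    ((f : Fin 3 → S3) k * (f : Fin 3 → S3) k * (f : Fin 3 → S3) k = 1 ∧ (f : Fin 3 → S3) k ≠ 1) ∧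
      Equiv.Perm.sign ((f : Fin 3 → S3) (nxt k)) = -1 →
    ¬ (((f : Fin 3 → S3) l * (f : Fin 3 → S3) l * (f : Fin 3 → S3) l = 1 ∧
      (f : Fin 3 → S3) l ≠ 1) ∧ Equiv.Perm.sign ((f : Fin 3 → S3) (nxt l)) = -1) := by
  decide +kernel

theorem card_K : Fintype.card K = 108 := by decide +kernel

theorem card_cube : (Finset.univ.filter fun f : K => f ^ 3 = 1).card = 27 := by decide +kernel

/-! ### The block embedding -/

/-- Block embedding. -/
def iota : (Fin 3 → S3) →* Equiv.Perm (Fin 9) :=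
  (finProdFinEquiv : Fin 3 × Fin 3 ≃ Fin 9).permCongrHom.toMonoidHom.comp
    ((Equiv.sigmaEquivProd (Fin 3) (Fin 3)).permCongrHom.toMonoidHom.comp
      (Equiv.Perm.sigmaCongrRightHom (fun _ : Fin 3 => Fin 3)))

theorem iota_injective : Function.Injective iota :=
  (Equiv.permCongrHom _).injective.comp
    ((Equiv.permCongrHom _).injective.comp Equiv.Perm.sigmaCongrRightHom_injective)

end Cfsg.Agent.OddChar.S3Cubed
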