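import Cfsg.Agent.S0071
import Cfsg.Agent.S3918
import Cfsg.Agent.SmallOrder.Basic
import Cfsg.Agent.OddLocal.UniqueSubgroup
import Cfsg.Agent.OddLocal.Basic
import Cfsg.Agent.FGS3.PGroupFrattini
import Cfsg.Agent.FGS3.TIHall

/-! A simple group in which non-cyclic subgroups contain their centralizers has even order. -/

set_option autoImplicit false

namespace Cfsg.Agent.OddChar.SelfCentNC

theorem count_bound {A : Type*} [Fintype A] [DecidableEq A] {ι : Type*} (s : Finset ι) (S : ι → Finset A) (Z : Finset A)
    {p c : ℕ} (hp : 1 < p) (hc : 0 < c) (hS : ∀ i ∈ s, (S i).card = p * c ∧ Z ⊆ S i)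
    (hZ : Z.card = c) (hdis : ∀ i ∈ s, ∀ j ∈ s, i ≠ j → S i ∩ S j ⊆ Z) (hA : Fintype.card A = p * p * c) :
    s.card ≤ p + 1 := by
  have h1 : (s.biUnion fun i => S i \ Z).card = ∑ i ∈ s, (S i \ Z).card := Finset.card_biUnion (by
    intro i hi j hj hij
    rw [Function.onFun, Finset.disjoint_left]
    intro a hai haj
    rw [Finset.mem_sdiff] at hai haj
    exact hai.2 (hdis i hi j hj hij (Finset.mem_inter.mpr ⟨hai.1, haj.1⟩)))
  have h2 : (s.biUnion fun i => S i \ Z).card ≤ p * p * c - c := by
    refine (Finset.card_le_card (t := Finset.univ \ Z) fun a ha => ?_).trans ?_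
    · obtain ⟨i, -, hai⟩ := Finset.mem_biUnion.mp ha
      exact Finset.mem_sdiff.mpr ⟨Finset.mem_univ _, (Finset.mem_sdiff.mp hai).2⟩
    · rw [Finset.card_sdiff_of_subset (Finset.subset_univ _), Finset.card_univ, hA, hZ]
  rw [h1, Finset.sum_congr rfl (fun i hi => by
    rw [Finset.card_sdiff_of_subset (hS i hi).2, (hS i hi).1, hZ] : ∀ i ∈ s, (S i \ Z).card = p * c - c),
    Finset.sum_const, smul_eq_mul] at h2
  have h3 : p * p * c - c = (p + 1) * (p * c - c) := by
    have : c ≤ p * c := Nat.le_mul_of_pos_left c (by omega)
    zify [this, (show c ≤ p * p * c from Nat.le_mul_of_pos_left c (by positivity))]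
    ring
  rw [h3] at h2
  refine Nat.le_of_mul_le_mul_right h2 ?_
  have : c * 1 < c * p := Nat.mul_lt_mul_of_pos_left hp hc
  rw [mul_one, mul_comm c p] at this
  omega

variable {G : Type*} [Group G] [Finite G]

theorem map_conj_iterate (g : G) (M : Subgroup G) (n : ℕ) :
    (fun K : Subgroup G => K.map (MulAut.conj g).toMonoidHom)^[n] M = M.map (MulAut.conj (g ^ n)).toMonoidHom := by
  induction n with
  | zero => ext x; simp
  | succ n ih =>
    rw [Function.iterate_succ_apply', ih, Subgroup.map_map]
    congr 1
    ext x
    simp [pow_succ', mul_assoc]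

theorem card_center_cube {Q : Type*} [Group Q] [Finite Q] {p : ℕ} [hp : Fact p.Prime]
    (hQ : Nat.card Q = p ^ 3) (hna : ¬ IsMulCommutative Q) : Nat.card (Subgroup.center Q) = p := by
  have hpg : IsPGroup p Q := IsPGroup.of_card hQ
  obtain ⟨k, hk, hc⟩ := (Nat.dvd_prime_pow hp.out).mp (hQ ▸ (Subgroup.center Q).card_subgroup_dvd_card)
  haveI : Nontrivial Q := by
    rw [← Finite.one_lt_card_iff_nontrivial, hQ]
    exact Nat.one_lt_pow (by norm_num) hp.out.one_lt
  haveI := hpg.center_nontrivial
  have h1 : k ≠ 0 := fun h => by
    have := Finite.one_lt_card (α := Subgroup.center Q)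
    rw [hc, h, pow_zero] at this; omega
  have h2 : k < 2 := by
    by_contra h
    apply hna
    haveI : IsCyclic (Q ⧸ Subgroup.center Q) := by
      have h3 : (Subgroup.center Q).index ∣ p := by
        have h4 := (Subgroup.center Q).card_mul_index
        rw [hc, hQ] at h4
        refine Dvd.intro_left (p ^ (k - 2)) ?_
        refine Nat.eq_of_mul_eq_mul_left (show 0 < p ^ 2 by have := hp.out.pos; positivity) ?_
        rw [← mul_assoc, ← pow_add, show 2 + (k - 2) = k by omega, h4]; ring
      rcases (Nat.dvd_prime hp.out).mp h3 with e | e
      · rw [Subgroup.index_eq_card] at e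
        haveI : Subsingleton (Q ⧸ Subgroup.center Q) := (Nat.card_eq_one_iff_unique.mp e).1
        infer_instance
      · rw [Subgroup.index_eq_card] at e
        exact isCyclic_of_prime_card e
    exact ⟨⟨(commGroupOfCyclicCenterQuotient (QuotientGroup.mk' (Subgroup.center Q)) (QuotientGroup.ker_mk' _).le).mul_comm⟩⟩
  rw [hc, show k = 1 by omega, pow_one]

/-- Even order. -/
theorem two_dvd [IsSimpleGroup G]
    (hs : ∀ H : Subgroup G, ¬ IsCyclic ↥H → Subgroup.centralizer (H : Set G) ≤ H)
    (hna : ¬ IsMulCommutative G) : 2 ∣ Nat.card G := by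
  classical
  by_contra hodd
  haveI : Nontrivial G := IsSimpleGroup.toNontrivial
  set p := (Nat.card G).minFac with hpdef
  have hp : p.Prime := Nat.minFac_prime Finite.one_lt_card.ne'
  haveI := Fact.mk hp
  have hpd : p ∣ Nat.card G := Nat.minFac_dvd _
  have hp2 : p ≠ 2 := fun h => hodd (h ▸ hpd)
  obtain ⟨P⟩ : Nonempty (Sylow p G) := inferInstance
  have hncyc := SmallOrder.not_isCyclic_minFac hna hpdef.symm P
  have hPstr : Nat.card (P : Subgroup G) = p ^ 2 ∨
      (Nat.card (P : Subgroup G) = p ^ 3 ∧ ¬ IsMulCommutative (P : Subgroup G)) := by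
    by_cases hab : IsMulCommutative (P : Subgroup G)
    · left
      have hnu : ¬ OddLocal.UniqueOrderP p (P : Subgroup G) := fun hu => by
        rcases OddLocal.isCyclic_or_quaternion P.isPGroup' hu with h | ⟨h, -⟩
        · exact hncyc h
        · exact hp2 h
      unfold OddLocal.UniqueOrderP at hnu
      push Not at hnu
      obtain ⟨a, b, ha, hb, ha1, hba⟩ := hnu
      have hb1 : b ≠ 1 := fun h => hba (h ▸ one_mem _)
      have hao := orderOf_eq_prime ha ha1
      have hbo := orderOf_eq_prime hb hb1
      set A : Subgroup (P : Subgroup G) := Subgroup.zpowers a with hA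
      set B : Subgroup (P : Subgroup G) := Subgroup.zpowers b with hB
      set E : Subgroup (P : Subgroup G) := A ⊔ B with hE
      haveI hBn : B.Normal := ⟨fun n hn g => by rwa [hab.is_comm.comm g n, mul_inv_cancel_right]⟩
      haveI hAn : A.Normal := ⟨fun n hn g => by rwa [hab.is_comm.comm g n, mul_inv_cancel_right]⟩
      have hinf : A ⊓ B = ⊥ := by
        rw [eq_bot_iff]
        rintro x ⟨hxA, hxB⟩
        by_contra hx
        rw [Subgroup.mem_bot] at hx
        apply hba
        have hcard : Nat.card (Subgroup.zpowers x) = p := by
          rw [Nat.card_zpowers]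
          refine orderOf_eq_prime ?_ hx
          obtain ⟨k, rfl⟩ := Subgroup.mem_zpowers_iff.mp hxA
          rw [← zpow_natCast, ← zpow_mul, mul_comm, zpow_mul, zpow_natCast, ha, one_zpow]
        have e1 := Subgroup.eq_of_le_of_card_ge (Subgroup.zpowers_le.mpr hxB) (by rw [hcard, Nat.card_zpowers, hbo])
        have e2 := Subgroup.eq_of_le_of_card_ge (Subgroup.zpowers_le.mpr hxA) (by rw [hcard, Nat.card_zpowers, hao])
        rw [← e2, e1]; exact Subgroup.mem_zpowers b
      have hcardE : Nat.card E = p ^ 2 := by
        have h1 := FGS3.TIHall.card_sup_dvd_mul A B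
        rw [← hE, hA, hB, Nat.card_zpowers, Nat.card_zpowers, hao, hbo, ← pow_two] at h1
        obtain ⟨j, hj2, hj⟩ := (Nat.dvd_prime_pow hp).mp h1
        rw [hj]
        congr 1
        by_contra hne
        have hj1 : Nat.card E ≤ p := by
          rw [hj]; exact le_trans (Nat.pow_le_pow_right hp.pos (show j ≤ 1 by omega)) (pow_one p).le
        apply hba
        have hAE : A = E := Subgroup.eq_of_le_of_card_ge le_sup_left (by
          rw [hA, Nat.card_zpowers, hao]; exact hj1)
        rw [hAE]
        exact Subgroup.mem_sup_right (Subgroup.mem_zpowers b)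
      have hEn : ¬ IsCyclic (E.map (P : Subgroup G).subtype) := by
        intro hc
        apply hba
        have h2 := OddLocal.eq_of_card_eq_of_isCyclic hc
          (A := A.map (P : Subgroup G).subtype) (B := B.map (P : Subgroup G).subtype)
          (Subgroup.map_mono le_sup_left) (Subgroup.map_mono le_sup_right) (by
            rw [Subgroup.card_map_of_injective (P : Subgroup G).subtype_injective,
              Subgroup.card_map_of_injective (P : Subgroup G).subtype_injective, hA, hB, Nat.card_zpowers,
              Nat.card_zpowers, hao, hbo])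
        have h3 := Subgroup.map_injective (P : Subgroup G).subtype_injective h2
        rw [h3]; exact Subgroup.mem_zpowers b
      have hle : (P : Subgroup G) ≤ E.map (P : Subgroup G).subtype := fun z hz => by
        refine hs _ hEn (Subgroup.mem_centralizer_iff.mpr ?_)
        rintro _ ⟨e, -, rfl⟩
        exact congrArg Subtype.val (hab.is_comm.comm e ⟨z, hz⟩)
      have e := congrArg (fun K : Subgroup G => Nat.card K) (le_antisymm hle (Subgroup.map_subtype_le E))
      simp only [Subgroup.card_map_of_injective (P : Subgroup G).subtype_injective] at e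
      rw [e, hcardE]
    · right
      refine ⟨(S3918.result hp2 P.isPGroup' hab).mp fun H hH x hx => ?_, hab⟩
      have hH' : ¬ IsCyclic (H.map (P : Subgroup G).subtype) := fun hc =>
        hH ((Subgroup.equivMapOfInjective H _ (P : Subgroup G).subtype_injective).isCyclic.mpr hc)
      have := hs _ hH' (show (x : G) ∈ Subgroup.centralizer _ from Subgroup.mem_centralizer_iff.mpr (by
        rintro _ ⟨e, he, rfl⟩
        exact congrArg Subtype.val (Subgroup.mem_centralizer_iff.mp hx e he)))
      exact (Subgroup.mem_map_iff_mem (P : Subgroup G).subtype_injective).mp this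
  -- prime divisors of `|G|` other than `p` exceed `p + 1`
  have hbig : ∀ r : ℕ, r.Prime → r ∣ Nat.card G → r ≠ p → p + 2 ≤ r := by
    intro r hr hrd hne
    have h1 : p ≤ r := Nat.minFac_le_of_dvd hr.two_le hrd
    have h2 : r % 2 = 1 := Nat.odd_iff.mp (hr.odd_of_ne_two fun h => hodd (h ▸ hrd))
    have h3 : p % 2 = 1 := Nat.odd_iff.mp (hp.odd_of_ne_two hp2)
    omega
  have hcentral : ∀ n : ℕ, ∀ Q : Subgroup G, Nat.card Q = n → IsPGroup p Q →
      ∀ g ∈ Subgroup.normalizer (Q : Set G), (orderOf g).Coprime p → g ∈ Subgroup.centralizer (Q : Set G) := by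
    intro n
    induction n using Nat.strong_induction_on with
    | _ n ih =>
      intro Q hn hQp g hg hgp
      have hgbig : ∀ d : ℕ, d ∣ orderOf g → d ≠ 1 → p + 2 ≤ d := by
        intro d hd hd1
        obtain ⟨r, hr, hrd⟩ := Nat.exists_prime_and_dvd hd1
        have hd0 : d ≠ 0 := fun h => (orderOf_pos g).ne' (zero_dvd_iff.mp (h ▸ hd))
        refine (hbig r hr ((hrd.trans hd).trans (orderOf_dvd_natCard g)) ?_).trans (Nat.le_of_dvd (by omega) hrd)
        rintro rfl
        exact hp.ne_one (Nat.Coprime.eq_one_of_dvd hgp.symm (hrd.trans hd))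
      obtain ⟨k, hk⟩ := (IsPGroup.iff_card).mp hQp
      have hk3 : k ≤ 3 := by
        obtain ⟨S, hS⟩ := hQp.exists_le_sylow
        have h1 := Subgroup.card_le_of_le hS
        rw [hk, S.card_eq_multiplicity, ← P.card_eq_multiplicity] at h1
        have h2 : Nat.card (P : Subgroup G) ≤ p ^ 3 := by
          rcases hPstr with h | ⟨h, -⟩ <;> rw [h]
          exact Nat.pow_le_pow_right hp.pos (by norm_num)
        exact (Nat.pow_le_pow_iff_right hp.one_lt).mp (h1.trans h2)
      by_cases hcyc : IsCyclic Q
      · -- cyclic
        let φ := Q.normalizerMonoidHom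
        have hφ : φ ⟨g, hg⟩ = 1 := by
          have h1 : orderOf (φ ⟨g, hg⟩) ∣ orderOf g := by
            have := orderOf_map_dvd φ (⟨g, hg⟩ : Subgroup.normalizer (Q : Set G))
            rwa [Subgroup.orderOf_mk] at this
          have h2 : orderOf (φ ⟨g, hg⟩) ∣ (p ^ k).totient := by
            rw [← hk, ← IsCyclic.card_mulAut Q]; exact orderOf_dvd_natCard _
          rw [← orderOf_eq_one_iff]
          by_contra hne
          obtain ⟨r, hr, hrd⟩ := Nat.exists_prime_and_dvd hne
          have hr1 := hgbig r (hrd.trans h1) hr.ne_one
          have h3 := hrd.trans h2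
          rcases Nat.eq_zero_or_pos k with rfl | hk0
          · simp at h3; omega
          · rw [Nat.totient_prime_pow hp hk0] at h3
            rcases hr.dvd_mul.mp h3 with h | h
            · have := (Nat.prime_dvd_prime_iff_eq hr hp).mp (hr.dvd_of_dvd_pow h); omega
            · have := Nat.le_of_dvd (by have := hp.two_le; omega) h; omega
        refine Subgroup.mem_centralizer_iff.mpr fun x hx => ?_
        have := congrArg (fun f : MulAut Q => ((f ⟨x, hx⟩ : Q) : G)) hφ
        simp only [MulAut.one_apply] at this
        exact (mul_inv_eq_iff_eq_mul.mp this).symm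
      · -- non-cyclic: two maximal subgroups, both fixed
        haveI : Group.IsNilpotent Q := hQp.isNilpotent
        have hk2 : 2 ≤ k := by
          by_contra h
          apply hcyc
          interval_cases k
          · rw [pow_zero] at hk
            haveI : Subsingleton Q := (Nat.card_eq_one_iff_unique.mp hk).1
            infer_instance
          · rw [pow_one] at hk; exact isCyclic_of_prime_card hk
        -- common subgroup of the maximal subgroups
        obtain ⟨Z, c, hc0, hQc, hZc, hZle⟩ : ∃ (Z : Subgroup Q) (c : ℕ), 0 < c ∧ Nat.card Q = p * p * c ∧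
            Nat.card Z = c ∧ ∀ M : Subgroup Q, IsCoatom M → Z ≤ M := by
          rcases (show k = 2 ∨ k = 3 by omega) with rfl | rfl
          · exact ⟨⊥, 1, one_pos, by rw [hk]; ring, Subgroup.card_bot, fun _ _ => bot_le⟩
          · obtain ⟨S, hS⟩ := hQp.exists_le_sylow
            obtain ⟨w, hw⟩ : ∃ w : G, w • P = S := MulAction.exists_smul_eq G P S
            have hPS : Nat.card (P : Subgroup G) = Nat.card (S : Subgroup G) := by
              rw [P.card_eq_multiplicity, S.card_eq_multiplicity]
            rcases hPstr with h | ⟨h, hPna⟩
            · exfalso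
              have h1 := Subgroup.card_le_of_le hS
              rw [hk, ← hPS, h] at h1
              have := (Nat.pow_le_pow_iff_right hp.one_lt).mp h1; omega
            have hQS : Q = (S : Subgroup G) :=
              Subgroup.eq_of_le_of_card_ge hS (by rw [hk, ← hPS, h])
            have hQna : ¬ IsMulCommutative Q := by
              intro hc
              apply hPna
              refine ⟨⟨fun a b => Subtype.ext ?_⟩⟩
              have hm : ∀ z : (P : Subgroup G), w * z * w⁻¹ ∈ Q := fun z => by
                rw [hQS, ← hw, Sylow.coe_subgroup_smul]; exact ⟨z, z.2, rfl⟩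
              have e : w * (a : G) * w⁻¹ * (w * b * w⁻¹) = w * b * w⁻¹ * (w * a * w⁻¹) :=
                congrArg Subtype.val (hc.is_comm.comm ⟨_, hm a⟩ ⟨_, hm b⟩)
              rw [conj_mul, conj_mul] at e
              exact mul_left_cancel (mul_right_cancel e)
            refine ⟨Subgroup.center Q, p, hp.pos, by rw [hk]; ring, card_center_cube hk hQna, fun M hM => ?_⟩
            haveI := FGS3.normal_of_coatom hQp hM
            have hMc : Nat.card M = p ^ 2 := by
              have h1 := M.card_mul_index
              rw [FGS3.index_of_coatom hQp hM, hk] at h1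
              exact Nat.eq_of_mul_eq_mul_right hp.pos (h1.trans (by ring))
            have hMcomm : ∀ a ∈ M, ∀ b ∈ M, a * b = b * a := fun a ha b hb => by
              have h' := IsPGroup.isMulCommutative_of_card_eq_prime_sq hMc
              exact congrArg Subtype.val (h'.is_comm.comm ⟨a, ha⟩ ⟨b, hb⟩)
            have hne : M ⊓ Subgroup.center Q ≠ ⊥ := by
              intro hb
              apply hQna
              have hinj : Function.Injective (fun x : M × Subgroup.center Q => (x.1 : Q) * x.2) := by
                rintro ⟨a, b⟩ ⟨a', b'⟩ e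
                have e0 : (a : Q) * b = a' * b' := e
                have e1 : (a' : Q)⁻¹ * a = b' * (b : Q)⁻¹ := by
                  rw [eq_mul_inv_iff_mul_eq, mul_assoc, e0, inv_mul_cancel_left]
                have h2 : (a' : Q)⁻¹ * a = 1 := by
                  rw [← Subgroup.mem_bot, ← hb]
                  exact Subgroup.mem_inf.mpr ⟨M.mul_mem (M.inv_mem a'.2) a.2,
                    e1 ▸ (Subgroup.center Q).mul_mem b'.2 ((Subgroup.center Q).inv_mem b.2)⟩
                have ha : a' = a := Subtype.ext (inv_mul_eq_one.1 h2)
                subst ha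
                rw [Subtype.ext (mul_left_cancel e0)]
              have hbij : Function.Bijective (fun x : M × Subgroup.center Q => (x.1 : Q) * x.2) :=
                (Nat.bijective_iff_injective_and_card _).mpr ⟨hinj, by
                  rw [Nat.card_prod, hMc, card_center_cube hk hQna, hk]; ring⟩
              refine ⟨⟨fun x y => ?_⟩⟩
              obtain ⟨⟨a, b⟩, rfl⟩ := hbij.2 x
              obtain ⟨⟨a', b'⟩, rfl⟩ := hbij.2 y
              have c1 : Commute (a : Q) a' := hMcomm a a.2 a' a'.2
              have c2 : ∀ z : Subgroup.center Q, ∀ w : Q, Commute (z : Q) w := fun z w =>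
                (Subgroup.mem_center_iff.mp z.2 w).symm
              exact ((c1.mul_right (c2 b' a).symm).mul_left ((c2 b a').mul_right (c2 b b'))).eq
            have hcz := card_center_cube hk hQna
            have h5 : M ⊓ Subgroup.center Q = Subgroup.center Q := by
              refine Subgroup.eq_of_le_of_card_ge inf_le_right ?_
              rw [hcz]
              obtain ⟨j, -, hj⟩ := (Nat.dvd_prime_pow hp).mp
                (show Nat.card (M ⊓ Subgroup.center Q : Subgroup Q) ∣ p ^ 1 by
                  rw [pow_one, ← hcz]; exact Subgroup.card_dvd_of_le inf_le_right)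
              rcases j with _ | j
              · exact absurd (Subgroup.eq_bot_of_card_eq _ (hj.trans (pow_zero p))) hne
              · rw [hj]; exact Nat.le_self_pow (Nat.succ_ne_zero j) p
            exact inf_eq_right.mp h5
        have hfix : ∀ M : Subgroup Q, IsCoatom M → ∀ x ∈ M, g * (x : G) = x * g := by
          intro M hM
          have hcardM : Nat.card M = p * c := by
            have h1 := M.card_mul_index
            rw [FGS3.index_of_coatom hQp hM, hQc] at h1
            exact Nat.eq_of_mul_eq_mul_right hp.pos (h1.trans (by ring))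
          set f := fun K : Subgroup G => K.map (MulAut.conj g).toMonoidHom with hf
          set MG : Subgroup G := M.map Q.subtype with hMG
          have hper : f^[orderOf g] MG = MG := by
            rw [hf, map_conj_iterate, pow_orderOf_eq_one]; ext z; simp
          set d := Function.minimalPeriod f MG with hd
          have hdd : d ∣ orderOf g := (Function.IsPeriodicPt.minimalPeriod_dvd hper)
          have hfm : ∀ i : ℕ, f^[i] MG ≤ Q ∧ Nat.card (f^[i] MG : Subgroup G) = p * c := by
            intro i
            rw [hf, map_conj_iterate]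
            refine ⟨?_, by rw [Subgroup.card_map_of_injective (MulAut.conj (g ^ i)).injective, hMG,
              Subgroup.card_map_of_injective Q.subtype_injective, hcardM]⟩
            rintro _ ⟨z, hz, rfl⟩
            exact (Subgroup.mem_normalizer_iff.mp (pow_mem hg i) z).mp (Subgroup.map_subtype_le M hz)
          have hd1 : d = 1 := by
            by_contra hne
            have hdbig := hgbig d hdd hne
            set S : ℕ → Subgroup Q := fun i => (f^[i] MG).subgroupOf Q with hSdef
            have hScard : ∀ i, Nat.card (S i) = p * c := fun i => by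
              rw [hSdef, Nat.card_congr (Subgroup.subgroupOfEquivOfLe (hfm i).1).toEquiv, (hfm i).2]
            have hSco : ∀ i, IsCoatom (S i) := by
              intro i
              have hidx : (S i).index = p := by
                have h1 := (S i).card_mul_index
                rw [hScard, hQc] at h1
                exact Nat.eq_of_mul_eq_mul_left (Nat.mul_pos hp.pos hc0) (h1.trans (by ring))
              refine ⟨fun h => by rw [h, Subgroup.index_top] at hidx; exact hp.ne_one hidx.symm, fun K hK => ?_⟩
              have h2 := Subgroup.index_dvd_of_le hK.le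
              rw [hidx] at h2
              rcases (Nat.dvd_prime hp).mp h2 with e | e
              · exact Subgroup.index_eq_one.mp e
              · exfalso
                refine hK.ne (Subgroup.eq_of_le_of_card_ge hK.le ?_)
                have h3 := K.card_mul_index
                rw [e, hQc] at h3
                rw [hScard]
                exact (Nat.eq_of_mul_eq_mul_right hp.pos (h3.trans (by ring : p * p * c = p * c * p))).le
            haveI := Fintype.ofFinite Q
            have hbound := count_bound (Finset.range d) (fun i => (S i : Set Q).toFinset) (Z : Set Q).toFinset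
              hp.one_lt hc0 (fun i _ => ⟨by rw [Set.toFinset_card, ← Nat.card_eq_fintype_card]; exact hScard i,
                fun z hz => Set.mem_toFinset.mpr (hZle _ (hSco i) (Set.mem_toFinset.mp hz))⟩)
              (by rw [Set.toFinset_card, ← Nat.card_eq_fintype_card]; exact hZc)
              (fun i hi j hj hij z hz => by
                rw [Finset.mem_inter, Set.mem_toFinset, Set.mem_toFinset] at hz
                rw [Set.mem_toFinset]
                have hneS : S i ≠ S j := by
                  intro e
                  apply hij
                  refine Function.iterate_injOn_Iio_minimalPeriod (f := f) (x := MG) (Finset.mem_range.mp hi) (Finset.mem_range.mp hj) ?_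
                  have := congrArg (Subgroup.map Q.subtype) e
                  rw [hSdef, Subgroup.map_subgroupOf_eq_of_le (hfm i).1, Subgroup.map_subgroupOf_eq_of_le (hfm j).1] at this
                  exact this
                have hle : Z ≤ S i ⊓ S j := le_inf (hZle _ (hSco i)) (hZle _ (hSco j))
                suffices h : Z = S i ⊓ S j by rw [SetLike.mem_coe, h]; exact hz
                refine Subgroup.eq_of_le_of_card_ge hle ?_
                have hlt : S i ⊓ S j < S i := lt_of_le_of_ne inf_le_left fun e =>
                  hneS (Subgroup.eq_of_le_of_card_ge (inf_eq_left.mp e) (by rw [hScard, hScard]))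
                have h1 := Subgroup.card_dvd_of_le hlt.le
                rw [hScard] at h1
                have h2 := Subgroup.card_dvd_of_le hle
                rw [hZc] at h2 ⊢
                obtain ⟨e, he⟩ := h2
                rw [he, mul_comm p c] at h1
                rcases (Nat.dvd_prime hp).mp (Nat.dvd_of_mul_dvd_mul_left hc0 h1) with e1 | e1
                · rw [he, e1, mul_one]
                · exfalso
                  refine hlt.ne (Subgroup.eq_of_le_of_card_ge inf_le_left ?_)
                  rw [hScard, he, e1, mul_comm])
              (by rw [← Nat.card_eq_fintype_card]; exact hQc)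
            rw [Finset.card_range] at hbound
            omega
          have hfixM : f MG = MG := Function.minimalPeriod_eq_one_iff_isFixedPt.mp hd1
          have hgM : g ∈ Subgroup.normalizer (MG : Set G) := by
            rw [Subgroup.mem_normalizer_iff]
            intro z
            constructor
            · intro hz; exact hfixM.le ⟨z, hz, rfl⟩
            · intro hz
              obtain ⟨z', hz', e⟩ := hfixM.ge hz
              have e' : g * z' * g⁻¹ = g * z * g⁻¹ := e
              exact mul_left_cancel (mul_right_cancel e') ▸ hz'
          have hlt : Nat.card MG < n := by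
            rw [hMG, Subgroup.card_map_of_injective Q.subtype_injective, hcardM, ← hn, hQc, mul_assoc]
            exact lt_mul_of_one_lt_left (Nat.mul_pos hp.pos hc0) hp.one_lt
          intro x hx
          exact (Subgroup.mem_centralizer_iff.mp (ih _ hlt MG rfl (hQp.to_subgroup M |>.map Q.subtype) g hgM hgp)
            (x : G) ⟨x, hx, rfl⟩).symm
        let Cg : Subgroup Q := (Subgroup.centralizer ({g} : Set G)).subgroupOf Q
        have hCtop : Cg = ⊤ := by
          by_contra hne
          obtain ⟨M, hM, hle⟩ := (eq_top_or_exists_le_coatom Cg).resolve_left hne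
          have hle2 : ∀ M' : Subgroup Q, IsCoatom M' → M' ≤ Cg := fun M' hM' x hx => by
            simp only [Cg, Subgroup.mem_subgroupOf, Subgroup.mem_centralizer_singleton_iff]
            exact (hfix M' hM' x hx).symm
          apply hcyc
          obtain ⟨x, hx⟩ : ∃ x : Q, x ∉ M := by
            by_contra h
            push Not at h
            exact hM.1 (eq_top_iff.mpr fun x _ => h x)
          refine ⟨⟨x, fun y => ?_⟩⟩
          by_contra hy
          have hne2 : Subgroup.zpowers x ≠ ⊤ := fun h => hy (show y ∈ Subgroup.zpowers x by rw [h]; trivial)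
          obtain ⟨M', hM', hxM'⟩ := (eq_top_or_exists_le_coatom _).resolve_left hne2
          exact hx (hle (hle2 M' hM' (hxM' (Subgroup.mem_zpowers x))))
        refine Subgroup.mem_centralizer_iff.mpr fun x hx => ?_
        have := (hCtop ▸ Subgroup.mem_top (⟨x, hx⟩ : Q) : (⟨x, hx⟩ : Q) ∈ Cg)
        simpa [Cg, Subgroup.mem_subgroupOf, Subgroup.mem_centralizer_singleton_iff] using this
  obtain ⟨N, hN, hc⟩ := (S0071.result P).mpr fun Q hQ g hg hgp => hcentral _ Q rfl (P.2.to_le hQ) g hg hgp
  rcases hN.eq_bot_or_eq_top with rfl | rfl
  · have hP' : (P : Subgroup G) = ⊤ := Subgroup.isComplement'_bot_left.mp hc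
    have := P.isPGroup'
    rw [hP'] at this
    have hpg : IsPGroup p G := this.of_equiv Subgroup.topEquiv
    haveI := hpg.center_nontrivial
    have h1 : Subgroup.center G = ⊤ :=
      (Subgroup.Normal.eq_bot_or_eq_top inferInstance).resolve_left ((Subgroup.nontrivial_iff_ne_bot _).mp this)
    exact hna ⟨⟨fun a b => Subgroup.mem_center_iff.mp (h1 ▸ Subgroup.mem_top b) a⟩⟩
  · exact P.ne_bot_of_dvd_card hpd (Subgroup.isComplement'_top_left.mp hc)

end Cfsg.Agent.OddChar.SelfCentNC
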