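/-
Groups with a self-centralizing element of prime order.
-/
import Cfsg.Agent.Core.Cores
import Cfsg.Agent.Core.ThompsonComplement
import Cfsg.Agent.Coprime.Action
import Mathlib.GroupTheory.Transfer
import Mathlib.GroupTheory.SpecificGroups.Cyclic
import Mathlib.RingTheory.IntegralDomain

set_option autoImplicit false
set_option linter.style.haveILetI false
set_option linter.unusedSectionVars false

namespace Cfsg.Agent.OddChar.SelfCent

open scoped commutatorElement

variable {G : Type*} [Group G] [Finite G] {p : ℕ} [hp : Fact p.Prime] {x : G}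
  (hx : orderOf x = p) (hC : Subgroup.centralizer ({x} : Set G) = Subgroup.zpowers x)

include hx hC

/-- The Sylow subgroup generated by `x`. -/
theorem exists_sylow : ∃ P : Sylow p G, (P : Subgroup G) = Subgroup.zpowers x := by
  have hz : IsPGroup p (Subgroup.zpowers x) :=
    IsPGroup.of_card (n := 1) (by rw [Nat.card_zpowers, hx, pow_one])
  obtain ⟨P, hP⟩ := hz.exists_le_sylow
  refine ⟨P, le_antisymm ?_ hP⟩
  haveI := P.isPGroup'.isNilpotent
  have hxP : x ∈ (P : Subgroup G) := hP (Subgroup.mem_zpowers x)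
  haveI : Nontrivial (P : Subgroup G) := Subgroup.nontrivial_iff_ne_bot _ |>.mpr fun h => by
    rw [h, Subgroup.mem_bot] at hxP
    exact hp.out.ne_one (hx ▸ orderOf_eq_one_iff.mpr hxP)
  haveI := P.isPGroup'.center_nontrivial
  obtain ⟨⟨⟨z, hzP⟩, hz⟩, hz1⟩ := exists_ne (1 : Subgroup.center (P : Subgroup G))
  have hcomm : ∀ y ∈ (P : Subgroup G), z * y = y * z := fun y hy =>
    (congrArg Subtype.val (Subgroup.mem_center_iff.mp hz ⟨y, hy⟩)).symm
  have hzx : z ∈ Subgroup.zpowers x := hC ▸ Subgroup.mem_centralizer_singleton_iff.mpr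
    (by first | exact hcomm x hxP | exact (hcomm x hxP).symm)
  have hz1' : z ≠ 1 := fun h => hz1 (Subtype.ext (Subtype.ext h))
  have hgen : x ∈ Subgroup.zpowers z := by
    haveI : Fact (Nat.card (Subgroup.zpowers x)).Prime := ⟨by rw [Nat.card_zpowers, hx]; exact hp.out⟩
    have h1 : Subgroup.zpowers z = Subgroup.zpowers x :=
      Subgroup.eq_of_le_of_card_ge (Subgroup.zpowers_le.mpr hzx) (by
        have h2 := Subgroup.card_dvd_of_le (Subgroup.zpowers_le.mpr hzx)
        rw [Nat.card_zpowers x, hx] at h2 ⊢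
        rcases hp.out.eq_one_or_self_of_dvd _ h2 with h | h
        · exact absurd (Subgroup.zpowers_eq_bot.mp (Subgroup.eq_bot_of_card_eq _ h)) hz1'
        · rw [h])
    exact h1 ▸ Subgroup.mem_zpowers x
  intro y hy
  rw [← hC, Subgroup.mem_centralizer_singleton_iff]
  obtain ⟨j, rfl⟩ := Subgroup.mem_zpowers_iff.mp hgen
  exact ((show Commute z y from hcomm y hy).zpow_left j).symm

variable {P : Sylow p G} (hP : (P : Subgroup G) = Subgroup.zpowers x)

include hP

theorem mem_P : x ∈ (P : Subgroup G) := hP ▸ Subgroup.mem_zpowers x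

theorem card_P : Nat.card (P : Subgroup G) = p := by rw [hP, Nat.card_zpowers, hx]

theorem x_ne : x ≠ 1 := fun h => hp.out.ne_one (hx ▸ orderOf_eq_one_iff.mpr h)

theorem isCyclic_P : IsCyclic (P : Subgroup G) := isCyclic_of_prime_card (card_P hx hC hP)

theorem eq_P_of_mem {y : G} (hy : y ∈ (P : Subgroup G)) (hy1 : y ≠ 1) : Subgroup.zpowers y = (P : Subgroup G) := by
  refine Subgroup.eq_of_le_of_card_ge (Subgroup.zpowers_le.mpr hy) ?_
  rcases hp.out.eq_one_or_self_of_dvd _ ((card_P hx hC hP) ▸ Subgroup.card_dvd_of_le (Subgroup.zpowers_le.mpr hy))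
    with h | h
  · exact absurd (Subgroup.zpowers_eq_bot.mp (Subgroup.eq_bot_of_card_eq _ h)) hy1
  · rw [h, card_P hx hC hP]

theorem centralizer_le {y : G} (hy : y ∈ (P : Subgroup G)) (hy1 : y ≠ 1) :
    Subgroup.centralizer ({y} : Set G) ≤ (P : Subgroup G) := by
  intro g hg
  rw [hP, ← hC, Subgroup.mem_centralizer_singleton_iff]
  have hxy : x ∈ Subgroup.zpowers y := (eq_P_of_mem hx hC hP hy hy1) ▸ mem_P hx hC hP
  obtain ⟨j, rfl⟩ := Subgroup.mem_zpowers_iff.mp hxy
  have h : Commute y g := (Subgroup.mem_centralizer_singleton_iff.mp hg).symm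
  exact (h.zpow_left j).symm

/-- Fusion in `P` is controlled by the normalizer. -/
theorem mem_normalizer_of_conj_mem {g y : G} (hy : y ∈ (P : Subgroup G)) (hy1 : y ≠ 1)
    (h : g * y * g⁻¹ ∈ (P : Subgroup G)) : g ∈ Subgroup.normalizer ((P : Subgroup G) : Set G) := by
  rw [Subgroup.mem_normalizer_iff_map_conj_eq]
  have h1 : g * y * g⁻¹ ≠ 1 := fun h' => hy1 (conj_eq_one_iff.mp h')
  conv_lhs => rw [← eq_P_of_mem hx hC hP hy hy1]
  rw [MonoidHom.map_zpowers]
  exact eq_P_of_mem hx hC hP h h1

/-- The index of `P` in its normalizer. -/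
noncomputable def e (P : Sylow p G) : ℕ :=
  ((P : Subgroup G)).relIndex (Subgroup.normalizer ((P : Subgroup G) : Set G))

theorem card_normalizer : Nat.card (Subgroup.normalizer ((P : Subgroup G) : Set G)) = p * e P := by
  conv_lhs => rw [← Subgroup.relIndex_bot_left, ← Subgroup.relIndex_mul_relIndex ⊥ (P : Subgroup G) _ bot_le
    Subgroup.le_normalizer, Subgroup.relIndex_bot_left, card_P hx hC hP]
  rfl

theorem normalizer_comm {a b : G} (ha : a ∈ Subgroup.normalizer ((P : Subgroup G) : Set G))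
    (hb : b ∈ Subgroup.normalizer ((P : Subgroup G) : Set G)) : ⁅a, b⁆ ∈ (P : Subgroup G) := by
  haveI := isCyclic_P hx hC hP
  let f := (P : Subgroup G).normalizerMonoidHom
  have hcomm : ∀ u v : MulAut (P : Subgroup G), u * v = v * u := fun u v =>
    (IsCyclic.mulAutMulEquiv _).injective (by simp [mul_comm])
  have hk : (⟨⁅a, b⁆, by
      rw [commutatorElement_def]
      exact mul_mem (mul_mem (mul_mem ha hb) (inv_mem ha)) (inv_mem hb)⟩ :
      Subgroup.normalizer ((P : Subgroup G) : Set G)) ∈ f.ker := by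
    rw [MonoidHom.mem_ker, show (⟨⁅a, b⁆, _⟩ : Subgroup.normalizer ((P : Subgroup G) : Set G)) =
      ⁅(⟨a, ha⟩ : Subgroup.normalizer ((P : Subgroup G) : Set G)), ⟨b, hb⟩⁆ from Subtype.ext rfl,
      map_commutatorElement, commutatorElement_eq_one_iff_mul_comm]
    exact hcomm _ _
  rw [Subgroup.normalizerMonoidHom_ker] at hk
  exact centralizer_le hx hC hP (mem_P hx hC hP) (x_ne hx hC hP) (Subgroup.mem_centralizer_singleton_iff.mpr
    (Subgroup.mem_centralizer_iff.mp hk x (mem_P hx hC hP)).symm)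

theorem count_classes : Nat.card {C : ConjClasses G // ∃ g ∈ C.carrier, orderOf g = p} * e P = p - 1 := by
  classical
  set N := Subgroup.normalizer ((P : Subgroup G) : Set G)
  set Y := {y : G // y ∈ (P : Subgroup G) ∧ y ≠ 1}
  have horder : ∀ y : Y, orderOf (y : G) = p := fun y => by
    rw [← Nat.card_zpowers, eq_P_of_mem hx hC hP y.2.1 y.2.2, card_P hx hC hP]
  let π : Y → {C : ConjClasses G // ∃ g ∈ C.carrier, orderOf g = p} := fun y =>
    ⟨ConjClasses.mk y.1, y.1, ConjClasses.mem_carrier_mk, horder y⟩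
  have hsurj : Function.Surjective π := by
    rintro ⟨C, g, hg, hgo⟩
    rw [ConjClasses.mem_carrier_iff_mk_eq] at hg
    have hz : IsPGroup p (Subgroup.zpowers g) := IsPGroup.of_card (n := 1) (by rw [Nat.card_zpowers, hgo, pow_one])
    obtain ⟨Q, hQ⟩ := hz.exists_le_sylow
    obtain ⟨a, ha⟩ := MulAction.exists_smul_eq G Q P
    have hy : a * g * a⁻¹ ∈ (P : Subgroup G) := by
      rw [← ha, Sylow.coe_subgroup_smul]
      exact Subgroup.smul_mem_pointwise_smul g (MulAut.conj a) _ (hQ (Subgroup.mem_zpowers g))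
    have hy1 : a * g * a⁻¹ ≠ 1 := fun h => hp.out.ne_one (by
      rw [← hgo, conj_eq_one_iff.mp h, orderOf_one])
    refine ⟨⟨a * g * a⁻¹, hy, hy1⟩, Subtype.ext ?_⟩
    show ConjClasses.mk (a * g * a⁻¹) = C
    rw [← hg, ConjClasses.mk_eq_mk_iff_isConj]
    exact (isConj_iff.mpr ⟨a, rfl⟩).symm
  have hfib : ∀ C, Nat.card {y : Y // π y = C} = e P := by
    intro C
    obtain ⟨y₀, rfl⟩ := hsurj C
    let f : N → {y : Y // π y = π y₀} := fun n =>
      ⟨⟨(n : G) * y₀.1 * (n : G)⁻¹, (Subgroup.mem_normalizer_iff.mp n.2 _).mp y₀.2.1,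
          fun h => y₀.2.2 (conj_eq_one_iff.mp h)⟩,
        Subtype.ext (ConjClasses.mk_eq_mk_iff_isConj.mpr (isConj_iff.mpr ⟨(n : G), rfl⟩).symm)⟩
    have hf : ∀ m n : N, f m = f n ↔ m⁻¹ * n ∈ (P : Subgroup G).subgroupOf N := by
      intro m n
      constructor
      · intro h
        have h' : (m : G) * y₀.1 * (m : G)⁻¹ = (n : G) * y₀.1 * (n : G)⁻¹ :=
          congrArg (fun z : {y : Y // π y = π y₀} => z.1.1) h
        refine centralizer_le hx hC hP y₀.2.1 y₀.2.2 (Subgroup.mem_centralizer_singleton_iff.mpr ?_)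
        show (m : G)⁻¹ * n * y₀.1 = y₀.1 * ((m : G)⁻¹ * n)
        calc (m : G)⁻¹ * n * y₀.1 = (m : G)⁻¹ * (n * y₀.1 * (n : G)⁻¹) * n := by group
          _ = (m : G)⁻¹ * (m * y₀.1 * (m : G)⁻¹) * n := by rw [h']
          _ = _ := by group
      · intro h
        have hc : ((m : G)⁻¹ * n) * y₀.1 = y₀.1 * ((m : G)⁻¹ * n) := by
          haveI := isCyclic_P hx hC hP
          letI := IsCyclic.commGroup (α := (P : Subgroup G))
          exact congrArg Subtype.val (mul_comm (⟨_, h⟩ : (P : Subgroup G)) ⟨y₀.1, y₀.2.1⟩)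
        refine Subtype.ext (Subtype.ext ?_)
        show (m : G) * y₀.1 * (m : G)⁻¹ = (n : G) * y₀.1 * (n : G)⁻¹
        calc (m : G) * y₀.1 * (m : G)⁻¹ = (m : G) * (y₀.1 * ((m : G)⁻¹ * n)) * (n : G)⁻¹ := by group
          _ = (m : G) * (((m : G)⁻¹ * n) * y₀.1) * (n : G)⁻¹ := by rw [hc]
          _ = _ := by group
    let F : N ⧸ (P : Subgroup G).subgroupOf N → {y : Y // π y = π y₀} :=
      Quotient.lift f fun m n h => (hf m n).mpr (QuotientGroup.leftRel_apply.mp h)
    have hF : Function.Bijective F := by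
      refine ⟨fun a b => ?_, fun y => ?_⟩
      · induction a using QuotientGroup.induction_on with | _ m => ?_
        induction b using QuotientGroup.induction_on with | _ n => ?_
        intro h
        exact QuotientGroup.eq.mpr ((hf m n).mp h)
      · obtain ⟨y, hy⟩ := y
        have hy' := ConjClasses.mk_eq_mk_iff_isConj.mp (congrArg Subtype.val hy)
        obtain ⟨a, ha⟩ := isConj_iff.mp hy'.symm
        refine ⟨QuotientGroup.mk ⟨a, mem_normalizer_of_conj_mem hx hC hP y₀.2.1 y₀.2.2 (ha ▸ y.2.1)⟩, ?_⟩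
        exact Subtype.ext (Subtype.ext ha)
    rw [← Nat.card_congr (Equiv.ofBijective F hF)]
    rfl
  have hY : Nat.card Y = p - 1 := by
    have h1 : Nat.card Y = ((((P : Subgroup G) : Set G)) \ {1}).ncard :=
      (Nat.card_coe_set_eq _).trans rfl
    rw [h1, Set.ncard_sdiff_singleton_of_mem (one_mem (P : Subgroup G)), ← Nat.card_coe_set_eq]
    exact congrArg (· - 1) (card_P hx hC hP)
  haveI : Fintype {C : ConjClasses G // ∃ g ∈ C.carrier, orderOf g = p} := Fintype.ofFinite _
  rw [← hY, ← Nat.card_congr (Equiv.sigmaFiberEquiv π), Nat.card_sigma, Finset.sum_congr rfl fun C _ => hfib C,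
    Finset.sum_const, Finset.card_univ, Nat.card_eq_fintype_card, smul_eq_mul]

theorem e_pos : 0 < e P := Nat.pos_of_ne_zero Subgroup.index_ne_zero_of_finite

/-- A normal subgroup of order divisible by `p` contains `x` and the derived subgroup. -/
theorem le_of_dvd (M : Subgroup G) [M.Normal] (hM : p ∣ Nat.card M) :
    x ∈ M ∧ commutator G ≤ M := by
  haveI : Finite M := inferInstance
  obtain ⟨y, hy⟩ := exists_prime_orderOf_dvd_card' (G := M) p hM
  have hz : IsPGroup p (Subgroup.zpowers (y : G)) :=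
    IsPGroup.of_card (n := 1) (by rw [Nat.card_zpowers, Subgroup.orderOf_coe, hy, pow_one])
  obtain ⟨Q, hQ⟩ := hz.exists_le_sylow
  obtain ⟨a, ha⟩ := MulAction.exists_smul_eq G Q P
  have hyP : a * (y : G) * a⁻¹ ∈ (P : Subgroup G) := by
    rw [← ha, Sylow.coe_subgroup_smul]
    exact Subgroup.smul_mem_pointwise_smul (y : G) (MulAut.conj a) _ (hQ (Subgroup.mem_zpowers _))
  have hy1 : a * (y : G) * a⁻¹ ≠ 1 := fun h => hp.out.ne_one (by
    rw [← hy, ← Subgroup.orderOf_coe, conj_eq_one_iff.mp h, orderOf_one])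
  have hPM : (P : Subgroup G) ≤ M := by
    rw [← eq_P_of_mem hx hC hP hyP hy1, Subgroup.zpowers_le]
    exact (inferInstance : M.Normal).conj_mem _ y.2 a
  refine ⟨hPM (mem_P hx hC hP), ?_⟩
  have hsup : Subgroup.normalizer ((P : Subgroup G) : Set G) ⊔ M = ⊤ := by
    have h := Sylow.normalizer_sup_eq_top (N := M) (P.subtype hPM)
    rwa [Sylow.coe_subtype, Subgroup.map_subgroupOf_eq_of_le hPM] at h
  rw [commutator_def, Subgroup.commutator_le]
  intro g₁ _ g₂ _
  have hdec : ∀ g : G, ∃ n ∈ Subgroup.normalizer ((P : Subgroup G) : Set G), ∃ m ∈ M, g = n * m := fun g => by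
    have hg : g ∈ Subgroup.normalizer ((P : Subgroup G) : Set G) ⊔ M := hsup ▸ Subgroup.mem_top g
    obtain ⟨n, hn, m, hm, h⟩ := Subgroup.mem_sup_of_normal_right.mp hg
    exact ⟨n, hn, m, hm, h.symm⟩
  obtain ⟨n₁, hn₁, m₁, hm₁, rfl⟩ := hdec g₁
  obtain ⟨n₂, hn₂, m₂, hm₂, rfl⟩ := hdec g₂
  rw [← QuotientGroup.eq_one_iff]
  have h1 : ((n₁ * m₁ : G) : G ⧸ M) = n₁ := by
    rw [QuotientGroup.mk_mul, (QuotientGroup.eq_one_iff m₁).mpr hm₁, mul_one]
  have h2 : ((n₂ * m₂ : G) : G ⧸ M) = n₂ := by
    rw [QuotientGroup.mk_mul, (QuotientGroup.eq_one_iff m₂).mpr hm₂, mul_one]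
  rw [← QuotientGroup.mk'_apply, map_commutatorElement, QuotientGroup.mk'_apply, QuotientGroup.mk'_apply, h1, h2,
    ← QuotientGroup.mk'_apply, ← QuotientGroup.mk'_apply, ← map_commutatorElement, QuotientGroup.mk'_apply,
    QuotientGroup.eq_one_iff]
  exact hPM (normalizer_comm hx hC hP hn₁ hn₂)

theorem core_le_commutator :
    pPrimeCore p G ≤ ⁅pPrimeCore p G, (P : Subgroup G)⁆ := by
  set S := pPrimeCore p G
  have hn : (P : Subgroup G) ≤ Subgroup.normalizer (S : Set G) := by
    rw [Subgroup.normalizer_eq_top S]; exact le_top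
  haveI := P.isPGroup'.isNilpotent
  have hcop : (Nat.card (P : Subgroup G)).Coprime (Nat.card S) := by
    rw [card_P hx hC hP]; exact (Core.card_pPrimeCore_coprime p G).symm
  conv_lhs => rw [Coprime.eq_commutator_sup_centralizer hn hcop]
  refine sup_le le_rfl fun y hy => ?_
  have hyP : y ∈ (P : Subgroup G) := centralizer_le hx hC hP (mem_P hx hC hP) (x_ne hx hC hP)
    (Subgroup.mem_centralizer_singleton_iff.mpr (Subgroup.mem_centralizer_iff.mp hy.2 x (mem_P hx hC hP)).symm)
  have hy1 : y = 1 := Core.ThompsonComplement.eq_one_of_mem P.isPGroup' hyP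
    ((Core.card_pPrimeCore_coprime p G).coprime_dvd_left (Subgroup.orderOf_dvd_natCard _ hy.1))
  rw [hy1]; exact one_mem _

theorem core_le : pPrimeCore p G ≤ commutator G :=
  (core_le_commutator hx hC hP).trans (by rw [commutator_def]; exact Subgroup.commutator_mono le_top le_top)

theorem x_mem_commutator (he : e P ≠ 1) : x ∈ commutator G := by
  obtain ⟨n, hn, hnP⟩ : ∃ n ∈ Subgroup.normalizer ((P : Subgroup G) : Set G), n ∉ (P : Subgroup G) := by
    by_contra h
    push Not at h
    exact he (Subgroup.relIndex_eq_one.mpr fun n hn => h n hn)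
  have hc : ⁅n, x⁆ ≠ 1 := fun h => hnP (centralizer_le hx hC hP (mem_P hx hC hP) (x_ne hx hC hP)
    (Subgroup.mem_centralizer_singleton_iff.mpr (commutatorElement_eq_one_iff_mul_comm.mp h)))
  have hcP : ⁅n, x⁆ ∈ (P : Subgroup G) := by
    rw [commutatorElement_def]
    exact mul_mem ((Subgroup.mem_normalizer_iff.mp hn x).mp (mem_P hx hC hP)) (inv_mem (mem_P hx hC hP))
  have hle : Subgroup.zpowers ⁅n, x⁆ ≤ commutator G := Subgroup.zpowers_le.mpr (by
    rw [commutator_def]
    exact Subgroup.commutator_mem_commutator (Subgroup.mem_top _) (Subgroup.mem_top _))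
  rw [eq_P_of_mem hx hC hP hcP hc] at hle
  exact hle (mem_P hx hC hP)

theorem index_dvd (he : e P ≠ 1) : (commutator G).index ∣ e P := by
  set N := Subgroup.normalizer ((P : Subgroup G) : Set G)
  have hPM : (P : Subgroup G) ≤ commutator G := by
    rw [hP, Subgroup.zpowers_le]; exact x_mem_commutator hx hC hP he
  have hsup : N ⊔ commutator G = ⊤ := by
    have h := Sylow.normalizer_sup_eq_top (N := commutator G) (P.subtype hPM)
    rwa [Sylow.coe_subtype, Subgroup.map_subgroupOf_eq_of_le hPM] at h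
  rw [← Subgroup.relIndex_top_right, ← hsup, Subgroup.relIndex_sup_right]
  exact Subgroup.relIndex_dvd_of_le_left N hPM

theorem commutator_eq_core (he : e P = 1) :
    commutator G = pPrimeCore p G ∧ (commutator G).index = p := by
  have hN : Subgroup.normalizer ((P : Subgroup G) : Set G) ≤ Subgroup.centralizer ((P : Subgroup G) : Set G) := by
    refine (Subgroup.relIndex_eq_one.mp he).trans ?_
    haveI := isCyclic_P hx hC hP
    letI := IsCyclic.commGroup (α := (P : Subgroup G))
    intro a ha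
    rw [Subgroup.mem_centralizer_iff]
    intro b hb
    exact congrArg Subtype.val (mul_comm (⟨b, hb⟩ : (P : Subgroup G)) ⟨a, ha⟩)
  set K := (MonoidHom.transferSylow P hN).ker
  have hKc : K.IsComplement' (P : Subgroup G) := MonoidHom.ker_transferSylow_isComplement' P hN
  have hKi : K.index = p := by rw [hKc.symm.index_eq_card, card_P hx hC hP]
  have hKp : (Nat.card K).Coprime p := ((Nat.Prime.coprime_iff_not_dvd hp.out).mpr
    (MonoidHom.not_dvd_card_ker_transferSylow P hN)).symm
  have h1 : commutator G ≤ K := by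
    haveI := isCyclic_P hx hC hP
    letI := IsCyclic.commGroup (α := (P : Subgroup G))
    rw [commutator_def, Subgroup.commutator_le]
    intro a _ b _
    rw [MonoidHom.mem_ker, map_commutatorElement, commutatorElement_eq_one_iff_mul_comm]
    exact mul_comm _ _
  have h2 : K ≤ pPrimeCore p G := Core.le_pPrimeCore inferInstance hKp
  have h3 := core_le hx hC hP
  exact ⟨le_antisymm (h1.trans h2) h3, by rw [le_antisymm h1 (h2.trans h3)]; exact hKi⟩

theorem core_not_dvd : ¬ p ∣ Nat.card (pPrimeCore p G) := Core.not_dvd_card_pPrimeCore p G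

theorem x_not_mem_core : x ∉ pPrimeCore p G := fun h =>
  core_not_dvd hx hC hP (by
    have := Subgroup.orderOf_dvd_natCard _ h
    rwa [hx] at this)

theorem simple_mod_core (he : e P ≠ 1) (M : Subgroup G) (hM : M ≤ commutator G)
    (hMn : ∀ g ∈ commutator G, ∀ m ∈ M, g * m * g⁻¹ ∈ M) (hSM : pPrimeCore p G ≤ M) :
    M = pPrimeCore p G ∨ M = commutator G := by
  haveI hn : (M.subgroupOf (commutator G)).Normal :=
    ⟨fun m hm g => hMn g g.2 m hm⟩
  have hcard : Nat.card (M.subgroupOf (commutator G)) = Nat.card M :=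
    Nat.card_congr (Subgroup.subgroupOfEquivOfLe hM).toEquiv
  by_cases hd : p ∣ Nat.card M
  · right
    refine le_antisymm hM ?_
    have hxG := x_mem_commutator hx hC hP he
    have hPG : (P : Subgroup G) ≤ commutator G := by rw [hP, Subgroup.zpowers_le]; exact hxG
    -- `M` contains every element of order `p` of the derived subgroup
    have hall : ∀ y ∈ commutator G, orderOf y = p → y ∈ M := by
      intro y hy hyo
      obtain ⟨z, hz⟩ := exists_prime_orderOf_dvd_card' (G := M.subgroupOf (commutator G)) p (hcard.symm ▸ hd)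
      let Q := P.subtype hPG
      have conjIn : ∀ u : commutator G, orderOf u = p →
          ∃ a : commutator G, a * u * a⁻¹ ∈ (Q : Subgroup (commutator G)) := by
        intro u hu
        have hzp : IsPGroup p (Subgroup.zpowers u) := IsPGroup.of_card (n := 1) (by rw [Nat.card_zpowers, hu, pow_one])
        obtain ⟨R, hR⟩ := hzp.exists_le_sylow
        obtain ⟨a, ha⟩ := MulAction.exists_smul_eq (commutator G) R Q
        refine ⟨a, ?_⟩
        rw [← ha, Sylow.coe_subgroup_smul]
        exact Subgroup.smul_mem_pointwise_smul u (MulAut.conj a) _ (hR (Subgroup.mem_zpowers u))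
      obtain ⟨a, ha⟩ := conjIn (z : commutator G) (by rw [Subgroup.orderOf_coe]; exact hz)
      obtain ⟨b, hb⟩ := conjIn ⟨y, hy⟩ (by rw [← Subgroup.orderOf_coe]; exact hyo)
      simp only [Q, Sylow.coe_subtype, Subgroup.mem_subgroupOf, Subgroup.coe_mul, Subgroup.coe_inv] at ha hb
      have hz1 : (a : G) * ((z : commutator G) : G) * (a : G)⁻¹ ≠ 1 := fun h => hp.out.ne_one (by
        rw [← hz, ← Subgroup.orderOf_coe, ← Subgroup.orderOf_coe, conj_eq_one_iff.mp h, orderOf_one])
      have hPM : (P : Subgroup G) ≤ M := by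
        rw [← eq_P_of_mem hx hC hP ha hz1, Subgroup.zpowers_le]
        exact hMn a a.2 _ z.2
      have h := hMn (b : G)⁻¹ (inv_mem b.2) _ (hPM hb)
      simpa [mul_assoc] using h
    have hT : Subgroup.normalClosure ({x} : Set G) ≤ M := by
      rw [Subgroup.normalClosure, Subgroup.closure_le]
      intro y hy
      obtain ⟨s, hs, hsy⟩ := Group.mem_conjugatesOfSet_iff.mp hy
      rw [Set.mem_singleton_iff.mp hs] at hsy
      obtain ⟨a, rfl⟩ := isConj_iff.mp hsy
      exact hall _ ((inferInstance : (commutator G).Normal).conj_mem _ hxG a)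
        (by rw [show a * x * a⁻¹ = MulAut.conj a x from rfl, MulEquiv.orderOf_eq, hx])
    refine (le_of_dvd hx hC hP (Subgroup.normalClosure ({x} : Set G)) ?_).2.trans hT
    rw [← hx]
    exact Subgroup.orderOf_dvd_natCard _ (Subgroup.subset_normalClosure rfl)
  · left
    refine le_antisymm ?_ hSM
    have hcopM : (Nat.card M).Coprime p := ((Nat.Prime.coprime_iff_not_dvd hp.out).mpr hd).symm
    have h1 : M.subgroupOf (commutator G) ≤ pPrimeCore p (commutator G) :=
      Core.le_pPrimeCore hn (hcard.symm ▸ hcopM)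
    intro m hm
    have h2 := h1 (x := ⟨m, hM hm⟩) hm
    rw [Core.pPrimeCore_eq_subgroupOf] at h2
    exact h2

theorem card_core_mul_normalizer :
    Nat.card ↥(pPrimeCore p G ⊔ Subgroup.normalizer ((P : Subgroup G) : Set G)) =
      Nat.card (pPrimeCore p G) * (p * e P) := by
  rw [← card_normalizer hx hC hP]
  refine Coprime.card_sup (le_top.trans_eq (Subgroup.normalizer_eq_top _).symm) ?_
  rw [Subgroup.eq_bot_iff_forall]
  rintro y ⟨hyS, hyN⟩
  have hc : ⁅y, x⁆ = 1 := by
    have h1 : ⁅y, x⁆ ∈ (P : Subgroup G) := by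
      rw [commutatorElement_def]
      exact mul_mem ((Subgroup.mem_normalizer_iff.mp hyN x).mp (mem_P hx hC hP)) (inv_mem (mem_P hx hC hP))
    have h2 : ⁅y, x⁆ ∈ pPrimeCore p G := by
      rw [commutatorElement_def, show y * x * y⁻¹ * x⁻¹ = y * (x * y⁻¹ * x⁻¹) by group]
      exact mul_mem hyS ((inferInstance : (pPrimeCore p G).Normal).conj_mem _ (inv_mem hyS) x)
    exact Core.ThompsonComplement.eq_one_of_mem P.isPGroup' h1
      ((Core.card_pPrimeCore_coprime p G).coprime_dvd_left (Subgroup.orderOf_dvd_natCard _ h2))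
  have hyP := centralizer_le hx hC hP (mem_P hx hC hP) (x_ne hx hC hP)
    (Subgroup.mem_centralizer_singleton_iff.mpr (commutatorElement_eq_one_iff_mul_comm.mp hc))
  exact Core.ThompsonComplement.eq_one_of_mem P.isPGroup' hyP
    ((Core.card_pPrimeCore_coprime p G).coprime_dvd_left (Subgroup.orderOf_dvd_natCard _ hyS))

theorem card_subgroups : Nat.card {H : Subgroup G // Nat.card H = p} =
    (Subgroup.normalizer ((P : Subgroup G) : Set G)).index := by
  refine Eq.trans ?_ (Sylow.card_eq_index_normalizer P)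
  have h1 : (Nat.card G).factorization p = 1 := by
    have h := P.card_eq_multiplicity
    rw [card_P hx hC hP] at h
    exact (Nat.pow_right_injective hp.out.two_le (show p ^ 1 = _ by rw [pow_one]; exact h)).symm
  exact Nat.card_congr
    { toFun := fun H => Sylow.ofCard H.1 (by rw [H.2, h1, pow_one])
      invFun := fun Q => ⟨Q, by rw [Q.card_eq_multiplicity, h1, pow_one]⟩
      left_inv := fun H => rfl
      right_inv := fun Q => Sylow.ext rfl }

theorem card_G_eq {n : ℕ} (hn : Nat.card {H : Subgroup G // Nat.card H = p} = 1 + n * p) :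
    Nat.card G = p * e P * (1 + n * p) := by
  rw [← card_normalizer hx hC hP, ← hn, card_subgroups hx hC hP, Subgroup.card_mul_index]

theorem eq_core_of_card {n : ℕ} (hn : Nat.card {H : Subgroup G // Nat.card H = p} = 1 + n * p)
    (S : Subgroup G) [hS : S.Normal] (hcard : Nat.card S = 1 + n * p) :
    S = pPrimeCore p G ∧ pPrimeCore p G ⊔ Subgroup.normalizer ((P : Subgroup G) : Set G) = ⊤ := by
  have hle : S ≤ pPrimeCore p G := Core.le_pPrimeCore hS (by
    rw [hcard]; exact ((Nat.Prime.coprime_iff_not_dvd hp.out).mpr fun h =>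
      hp.out.not_dvd_one ((Nat.dvd_add_left (dvd_mul_left p n)).mp h)).symm)
  have hsup := card_core_mul_normalizer hx hC hP
  have hG := card_G_eq hx hC hP hn
  have hle2 := Subgroup.card_le_card_group (pPrimeCore p G ⊔ Subgroup.normalizer ((P : Subgroup G) : Set G))
  have hle3 := Subgroup.card_le_of_le hle
  rw [hsup, hG] at hle2
  rw [hcard] at hle3
  have hpe : 0 < p * e P := Nat.mul_pos hp.out.pos (e_pos hx hC hP)
  have heq : Nat.card (pPrimeCore p G) = 1 + n * p :=
    le_antisymm (Nat.le_of_mul_le_mul_right (by rw [mul_comm (1 + n * p)]; exact hle2) hpe) hle3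
  exact ⟨Subgroup.eq_of_le_of_card_ge hle (by rw [heq, hcard]),
    Subgroup.eq_top_of_card_eq _ (by rw [hsup, hG, heq]; ring)⟩

theorem second_derived_lt_of_sup (h : pPrimeCore p G ⊔ Subgroup.normalizer ((P : Subgroup G) : Set G) = ⊤)
    (he : e P ≠ 1) : ⁅commutator G, commutator G⁆ ≠ commutator G := by
  intro heq
  set S := pPrimeCore p G
  set π := QuotientGroup.mk' S
  set N := Subgroup.normalizer ((P : Subgroup G) : Set G)
  have hQ : (⊤ : Subgroup G).map π = N.map π := by
    rw [← h, Subgroup.map_sup, QuotientGroup.map_mk'_self, bot_sup_eq]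
  have h1 : (commutator G).map π ≤ (P : Subgroup G).map π := by
    rw [commutator_def, Subgroup.map_commutator, hQ, ← Subgroup.map_commutator]
    exact Subgroup.map_mono (Subgroup.commutator_le.mpr fun a ha b hb => normalizer_comm hx hC hP ha hb)
  have h2 : (commutator G).map π = ⊥ := by
    rw [← heq, Subgroup.map_commutator, eq_bot_iff]
    refine (Subgroup.commutator_mono h1 h1).trans ?_
    rw [← Subgroup.map_commutator, ← Subgroup.map_bot π]
    refine Subgroup.map_mono (Subgroup.commutator_le.mpr fun a ha b hb => ?_)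
    rw [Subgroup.mem_bot, commutatorElement_eq_one_iff_mul_comm]
    haveI := isCyclic_P hx hC hP
    letI := IsCyclic.commGroup (α := (P : Subgroup G))
    exact congrArg Subtype.val (mul_comm (⟨a, ha⟩ : (P : Subgroup G)) ⟨b, hb⟩)
  rw [Subgroup.map_eq_bot_iff, QuotientGroup.ker_mk'] at h2
  exact x_not_mem_core hx hC hP (h2 (x_mem_commutator hx hC hP he))

theorem card_of_second_derived (he : e P ≠ 1) (h : ⁅commutator G, commutator G⁆ ≠ commutator G) {n : ℕ}
    (hn : Nat.card {H : Subgroup G // Nat.card H = p} = 1 + n * p) :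
    ⁅commutator G, commutator G⁆ = pPrimeCore p G ∧ Nat.card (pPrimeCore p G) = 1 + n * p ∧
      Nat.card (commutator G) = p * (1 + n * p) := by
  set S := pPrimeCore p G
  set D := ⁅commutator G, commutator G⁆
  have hDG : D ≤ commutator G := Subgroup.commutator_le_self _
  have hDS : D ≤ S := by
    by_cases hd : p ∣ Nat.card D
    · exact absurd (le_antisymm hDG (le_of_dvd hx hC hP D hd).2) h
    · exact Core.le_pPrimeCore inferInstance ((Nat.Prime.coprime_iff_not_dvd hp.out).mpr hd).symm
  have hPG : (P : Subgroup G) ≤ commutator G := by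
    rw [hP, Subgroup.zpowers_le]; exact x_mem_commutator hx hC hP he
  have hMG : S ⊔ (P : Subgroup G) ≤ commutator G := sup_le (core_le hx hC hP) hPG
  have hGM : S ⊔ (P : Subgroup G) = commutator G := by
    refine (simple_mod_core hx hC hP he _ hMG (fun g hg m hm => ?_) le_sup_left).resolve_left fun hh =>
      x_not_mem_core hx hC hP (hh.le (le_sup_right (a := S) (mem_P hx hC hP)))
    have h1 : ⁅g, m⁆ ∈ S ⊔ (P : Subgroup G) :=
      le_sup_left (b := (P : Subgroup G)) (hDS (Subgroup.commutator_mem_commutator hg (hMG hm)))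
    rw [commutatorElement_def] at h1
    simpa using mul_mem h1 hm
  have hsup : S ⊔ Subgroup.normalizer ((P : Subgroup G) : Set G) = ⊤ := by
    have h1 := Sylow.normalizer_sup_eq_top (N := commutator G) (P.subtype hPG)
    rw [Sylow.coe_subtype, Subgroup.map_subgroupOf_eq_of_le hPG, ← hGM] at h1
    rw [eq_top_iff, ← h1]
    exact sup_le le_sup_right (sup_le le_sup_left (Subgroup.le_normalizer.trans le_sup_right))
  have hcard := card_core_mul_normalizer hx hC hP
  rw [hsup, Subgroup.card_top, card_G_eq hx hC hP hn] at hcard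
  have hpe : 0 < p * e P := Nat.mul_pos hp.out.pos (e_pos hx hC hP)
  have heq : Nat.card S = 1 + n * p :=
    Nat.eq_of_mul_eq_mul_right hpe (by rw [← hcard]; ring)
  refine ⟨le_antisymm hDS ?_, heq, ?_⟩
  · exact (core_le_commutator hx hC hP).trans (Subgroup.commutator_mono (core_le hx hC hP) hPG)
  · rw [← hGM, Coprime.card_sup (le_top.trans_eq (Subgroup.normalizer_eq_top _).symm), card_P hx hC hP, heq,
      mul_comm]
    rw [Subgroup.eq_bot_iff_forall]
    rintro y ⟨hyS, hyP⟩
    exact Core.ThompsonComplement.eq_one_of_mem P.isPGroup' hyP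
      ((Core.card_pPrimeCore_coprime p G).coprime_dvd_left (Subgroup.orderOf_dvd_natCard _ hyS))

end Cfsg.Agent.OddChar.SelfCent
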