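import Cfsg.Agent.Chars.GaloisValues
import Cfsg.Agent.Chars.Orth
import Cfsg.Agent.Components.InvolutionCount
import Cfsg.Agent.Chars2.ClassSum

/-!
The number of ways of writing a self-centralising element of order three as a product of two
conjugates of it.
-/

set_option autoImplicit false
set_option linter.style.haveILetI false

namespace Cfsg.Agent.OddChar.SelfThree

open scoped Classical ComplexConjugate
open Cfsg

universe u

variable {G : Type u} [Group G] [Fintype G]

theorem value_int {x : G} (hx : orderOf x = 3) (hr : IsConj x x⁻¹) (χ : IrrCharacter G) :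
    ∃ z : ℤ, (χ : G → ℂ) x = z := by
  have h3 : 3 ∣ Nat.card G := hx ▸ orderOf_dvd_natCard x
  refine Chars.exists_int_of_fixed (Chars.isIntegral_of_isCharacter (Chars.irr_isCharacter χ) x)
    fun σ => ?_
  obtain ⟨k, hk, hσ⟩ := Chars.exists_aut_apply (G := G) σ
  rw [hσ _ (Chars.irr_isCharacter χ) x]
  have hk3 : k % 3 ≠ 0 := fun h => by
    have := Nat.dvd_gcd (Nat.dvd_of_mod_eq_zero h) h3
    rw [hk.gcd_eq_one] at this
    norm_num at this
  rw [← pow_mod_orderOf, hx]
  rcases (show k % 3 = 1 ∨ k % 3 = 2 by omega) with h | h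
  · rw [h, pow_one]
  · rw [h, show x ^ 2 = x⁻¹ from eq_inv_of_mul_eq_one_left (by rw [← pow_succ, show 2 + 1 = orderOf x from hx.symm, pow_orderOf_eq_one])]
    obtain ⟨c, hc⟩ := isConj_iff.mp hr
    rw [← hc, Chars.isCharacter_conj_apply (Chars.irr_isCharacter χ)]

/-- The pairs with product `x` are more than a ninth of the order. -/
theorem card_lt_nine_mul {x : G} (hx : orderOf x = 3) (hr : IsConj x x⁻¹)
    (hc : Nat.card (Subgroup.centralizer ({x} : Set G)) = 3) :
    Nat.card G < 9 * (Finset.univ.filter fun y : G => IsConj x y ∧ IsConj x (y⁻¹ * x)).card := by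
  choose z hz using value_int hx hr
  have hinv : ∀ a : G, IsConj x a → IsConj x a⁻¹ := fun a ha => by
    obtain ⟨c, rfl⟩ := isConj_iff.mp ha
    exact hr.trans (isConj_iff.mpr ⟨c, by group⟩)
  have col : ∀ g : G, ∑ χ : IrrCharacter G, (χ : G → ℂ) g * conj ((χ : G → ℂ) x) =
      if IsConj g x then (3 : ℂ) else 0 := fun g => by
    rw [Chars.column_orth]
    split_ifs with h
    · obtain ⟨d, hd⟩ := isConj_iff.mp h
      have : Nat.card (Subgroup.centralizer ({g} : Set G)) = 3 := by
        rw [← hc, ← hd, ← Subgroup.card_map_of_injective (f := (MulAut.conj d).toMonoidHom)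
          (MulAut.conj d).injective]
        congr 2
        ext y
        simp only [Subgroup.mem_map, MulEquiv.coe_toMonoidHom, MulAut.conj_apply,
          Subgroup.mem_centralizer_singleton_iff]
        constructor
        · rintro ⟨w, hw, rfl⟩
          calc d * w * d⁻¹ * (d * g * d⁻¹) = d * (w * g) * d⁻¹ := by group
            _ = _ := by rw [hw]; group
        · intro hy
          refine ⟨d⁻¹ * y * d, ?_, by group⟩
          calc d⁻¹ * y * d * g = d⁻¹ * (y * (d * g * d⁻¹)) * d := by group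
            _ = _ := by rw [hy]; group
      rw [this]; norm_num
    · rfl
  have hsq : ∑ χ, z χ * z χ = 3 := by
    have := col x
    rw [if_pos (IsConj.refl x)] at this
    simp only [hz, map_intCast] at this
    exact_mod_cast this
  have hdeg : ∀ χ : IrrCharacter G, ∃ n : ℕ, (χ : G → ℂ) 1 = n ∧ 0 < n := fun χ => by
    obtain ⟨n, hn, hn1⟩ := Chars.exists_irr_apply_one_eq χ.2
    exact ⟨n, hn1, hn⟩
  choose d hd hd0 using hdeg
  have hone : ∑ χ, (d χ : ℤ) * z χ = 0 := by
    have := col 1
    rw [if_neg (fun h => by rw [isConj_one_right] at h; rw [h, orderOf_one] at hx; omega)] at this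
    simp only [hz, hd, map_intCast] at this
    exact_mod_cast this
  let o : IrrCharacter G := ⟨_, Chars.isIrrCharacter_one⟩
  have ho : z o = 1 ∧ d o = 1 := by
    refine ⟨Int.cast_injective (α := ℂ) ?_, Nat.cast_injective (R := ℂ) ?_⟩
    · rw [← hz]; simp [o]
    · rw [← hd]; simp [o]
  let S : Finset (IrrCharacter G) := Finset.univ.filter fun χ => z χ ≠ 0
  have hS1 : ∀ χ ∈ S, z χ = 1 ∨ z χ = -1 := by
    intro χ hχ
    have h1 : z χ * z χ ≤ 3 := hsq ▸ Finset.single_le_sum (fun c _ => mul_self_nonneg (z c))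
      (Finset.mem_univ χ)
    have h2 := (Finset.mem_filter.mp hχ).2
    have : -2 < z χ ∧ z χ < 2 := by constructor <;> nlinarith
    omega
  have hScard : S.card = 3 := by
    have e : (S.card : ℤ) = ∑ χ ∈ S, z χ * z χ := by
      rw [Finset.card_eq_sum_ones]; push_cast
      exact Finset.sum_congr rfl fun χ hχ => by rcases hS1 χ hχ with h | h <;> rw [h] <;> rfl
    rw [Finset.sum_filter_of_ne (fun χ _ h => left_ne_zero_of_mul h), hsq] at e
    exact_mod_cast e
  have hoS : o ∈ S := Finset.mem_filter.mpr ⟨Finset.mem_univ _, by rw [ho.1]; norm_num⟩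
  obtain ⟨a, b, hab, he⟩ := Finset.card_eq_two.mp
    (show (S.erase o).card = 2 by rw [Finset.card_erase_of_mem hoS, hScard])
  have hmem : a ∈ S ∧ b ∈ S := by
    constructor <;> refine Finset.mem_of_mem_erase (a := o) ?_ <;> rw [he] <;> simp
  have expand : ∀ {M : Type} [AddCommMonoid M] (F : IrrCharacter G → M), (∀ χ, z χ = 0 → F χ = 0) →
      ∑ χ, F χ = F o + (F a + F b) := by
    intro M _ F hF
    rw [← Finset.sum_filter_of_ne (p := fun χ => z χ ≠ 0) (fun χ _ h h0 => h (hF χ h0)),
      ← Finset.add_sum_erase _ _ hoS, he, Finset.sum_pair hab]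
  rw [expand _ (fun χ h => by rw [h, mul_zero]), ho.1, ho.2] at hone
  -- the class sum
  set C : Finset G := Finset.univ.filter (IsConj x) with hC
  set U := Finset.univ.filter fun y : G => IsConj x y ∧ IsConj x (y⁻¹ * x) with hU
  have hcard : C.card * 3 = Nat.card G := by
    have h := Components.card_class_mul_centralizer x
    rw [hc, Nat.card_eq_fintype_card, Fintype.card_subtype] at h
    exact h
  have hcount : 3 * (U.card : ℂ) = ∑ χ : IrrCharacter G,
      (C.card : ℂ) * ((z χ : ℂ) ^ 3 / (d χ : ℂ)) := by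
    have e1 : 3 * (U.card : ℂ) = ∑ a ∈ C, (if IsConj (a * x) x then (3 : ℂ) else 0) := by
      rw [← Finset.sum_filter, Finset.sum_const, nsmul_eq_mul, mul_comm]
      congr 2
      refine Finset.card_nbij' (fun y => y⁻¹) (fun y => y⁻¹) ?_ ?_ (fun _ _ => inv_inv _)
        (fun _ _ => inv_inv _)
      · intro y hy
        obtain ⟨h1, h2⟩ := (Finset.mem_filter.mp hy).2
        exact Finset.mem_filter.mpr ⟨Finset.mem_filter.mpr ⟨Finset.mem_univ _, hinv y h1⟩, h2.symm⟩
      · intro y hy
        obtain ⟨h1, h2⟩ := Finset.mem_filter.mp hy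
        refine Finset.mem_filter.mpr ⟨Finset.mem_univ _, hinv y (Finset.mem_filter.mp h1).2, ?_⟩
        rw [inv_inv]; exact h2.symm
    rw [e1, ← Finset.sum_congr rfl (fun a _ => col (a * x)), Finset.sum_comm]
    refine Finset.sum_congr rfl fun χ _ => ?_
    have h := Chars2.sum_class_pairs χ.2 x x
    rw [← Finset.sum_mul, mul_div_assoc', eq_div_iff (by exact_mod_cast (hd0 χ).ne')]
    rw [hd] at h
    have h' : (∑ i ∈ C, (χ : G → ℂ) (i * x)) * (d χ : ℂ) =
        (C.card : ℂ) * (χ : G → ℂ) x * (χ : G → ℂ) x := by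
      have hF : C = @Finset.filter G (IsConj x) (fun _ => Classical.propDecidable _) Finset.univ := by
        ext y; simp [hC]
      rw [hF]; convert h
    rw [hz, map_intCast, mul_right_comm, h', hz]
    ring
  rw [expand _ (fun χ h => by rw [h]; simp), ho.1, ho.2] at hcount
  have hlt : (C.card : ℝ) < 3 * (U.card : ℝ) := by
    have hR : 3 * (U.card : ℝ) = (C.card : ℝ) * ((1 : ℤ) ^ 3 / ((1 : ℕ) : ℝ)) +
        ((C.card : ℝ) * ((z a : ℝ) ^ 3 / (d a : ℝ)) + (C.card : ℝ) * ((z b : ℝ) ^ 3 / (d b : ℝ))) := by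
      have := congrArg Complex.re hcount
      norm_cast at this ⊢
    have hCpos : (0 : ℝ) < C.card := by
      exact_mod_cast Finset.card_pos.mpr ⟨x, Finset.mem_filter.mpr ⟨Finset.mem_univ _, IsConj.refl x⟩⟩
    have h1 : (0 : ℝ) < d a := by exact_mod_cast hd0 a
    have h2 : (0 : ℝ) < d b := by exact_mod_cast hd0 b
    have hRel : (1 : ℝ) + ((d a : ℝ) * z a + (d b : ℝ) * z b) = 0 := by
      exact_mod_cast (by simpa using hone : (1 : ℤ) + ((d a : ℤ) * z a + (d b : ℤ) * z b) = 0)
    have hpos : (0 : ℝ) < (z a : ℝ) ^ 3 / (d a : ℝ) + (z b : ℝ) ^ 3 / (d b : ℝ) := by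
      rw [div_add_div _ _ h1.ne' h2.ne']
      refine div_pos ?_ (mul_pos h1 h2)
      have ha1 : (1 : ℝ) ≤ d a := by exact_mod_cast hd0 a
      have hb1 : (1 : ℝ) ≤ d b := by exact_mod_cast hd0 b
      rcases hS1 a hmem.1 with e | e <;> rcases hS1 b hmem.2 with e' | e' <;>
        rw [e, e'] at hRel <;> rw [e, e'] <;> push_cast at hRel ⊢ <;> nlinarith
    rw [hR]
    norm_num
    nlinarith [mul_pos hCpos hpos]
  have : C.card < 3 * U.card := by exact_mod_cast hlt
  omega

end Cfsg.Agent.OddChar.SelfThree
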