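import Cfsg.Agent.OddChar.SelfThreeRing
import Mathlib.GroupTheory.Nilpotent
import Mathlib.GroupTheory.QuotientGroup.Basic
import Mathlib.Algebra.Group.Hom.Instances
import Mathlib.Tactic.Group

/-!
Extensions with quotient alternating of degree five in which elements over those of order three
have order three.
-/

set_option autoImplicit false

open scoped commutatorElement

namespace Cfsg.Agent.OddChar.SelfThree

universe u

variable {G : Type u} [Group G] [Finite G] (π : G →* A5)

theorem cube_expand {g m : G} (h : (m * g) ^ 3 = 1) (hg : g ^ 3 = 1) :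
    m * (g * m * g⁻¹) * (g * (g * m * g⁻¹) * g⁻¹) = 1 := by
  calc m * (g * m * g⁻¹) * (g * (g * m * g⁻¹) * g⁻¹) = (m * g) ^ 3 * (g ^ 3)⁻¹ := by
        simp [pow_succ, mul_assoc]
    _ = 1 := by rw [h, hg, inv_one, mul_one]

theorem sq_eq_one_of_central (hπ : Function.Surjective π)
    (hcube : ∀ g : G, orderOf (π g) = 3 → g ^ 3 = 1) (h3 : ∀ k ∈ π.ker, k ^ 3 = 1 → k = 1)
    (M : Subgroup G) [M.Normal] (hM : M ≤ π.ker) (hab : ∀ a ∈ M, ∀ b ∈ M, a * b = b * a)
    (hK : ∀ k ∈ π.ker, ∀ m ∈ M, k * m = m * k) : ∀ m ∈ M, m ^ 2 = 1 := by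
  letI : CommGroup M := { (inferInstance : Group M) with
    mul_comm := fun a b => Subtype.ext (hab a a.2 b b.2) }
  let φ : G →* AddMonoid.End (Additive M) :=
    { toFun := fun g => MonoidHom.toAdditive ((MulAut.conjNormal g : M ≃* M).toMonoidHom)
      map_one' := by
        apply AddMonoidHom.ext; intro a
        apply Additive.toMul.injective; apply Subtype.ext
        show (1 : G) * (Additive.toMul a : M) * (1 : G)⁻¹ = ((Additive.toMul a : M) : G)
        simp
      map_mul' := fun g h => by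
        apply AddMonoidHom.ext; intro a
        apply Additive.toMul.injective; apply Subtype.ext
        show g * h * (Additive.toMul a : M) * (g * h)⁻¹
          = g * (h * ((Additive.toMul a : M) : G) * h⁻¹) * g⁻¹
        simp only [mul_inv_rev, mul_assoc] }
  have hker : π.ker ≤ φ.ker := fun k hk => by
    rw [MonoidHom.mem_ker]
    apply AddMonoidHom.ext; intro a
    apply Additive.toMul.injective; apply Subtype.ext
    show (MulAut.conjNormal k (Additive.toMul a) : G) = (Additive.toMul a : M)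
    rw [MulAut.conjNormal_apply, hK k hk _ (Additive.toMul a).2, mul_assoc, mul_inv_cancel, mul_one]
  have heq : ∀ {g g' : G}, π g = π g' → φ g = φ g' := fun {g g'} he => by
    have hk : g⁻¹ * g' ∈ π.ker := by rw [MonoidHom.mem_ker, map_mul, map_inv, he, inv_mul_cancel]
    have : φ (g * (g⁻¹ * g')) = φ g := by rw [map_mul, MonoidHom.mem_ker.mp (hker hk), mul_one]
    rw [← this, mul_inv_cancel_left]
  let ρ : A5 →* AddMonoid.End (Additive M) :=
    { toFun := fun x => φ (Function.surjInv hπ x)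
      map_one' := (heq (by rw [Function.surjInv_eq hπ, map_one])).trans (map_one φ)
      map_mul' := fun x y => (heq (by rw [map_mul, Function.surjInv_eq hπ, Function.surjInv_eq hπ,
        Function.surjInv_eq hπ])).trans (map_mul φ _ _) }
  have hρ : ∀ g, ρ (π g) = φ g := fun g => heq (Function.surjInv_eq hπ _)
  have hz : ∀ z : A5, orderOf z = 3 → 1 + ρ z + ρ z * ρ z = 0 := by
    intro z hz
    obtain ⟨g, rfl⟩ := hπ z
    rw [hρ]
    apply AddMonoidHom.ext; intro a
    apply Additive.toMul.injective; apply Subtype.ext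
    have hm : π (Additive.toMul a : M) = 1 := MonoidHom.mem_ker.mp (hM (Additive.toMul a).2)
    have := cube_expand (g := g) (m := ((Additive.toMul a : M) : G))
      (hcube _ (by rw [map_mul, hm, one_mul]; exact hz)) (hcube g hz)
    show ((Additive.toMul a : M) : G) * (g * (Additive.toMul a : M) * g⁻¹)
      * (g * (g * ((Additive.toMul a : M) : G) * g⁻¹) * g⁻¹) = 1
    exact this
  have nat_zero : ∀ n : ℕ, ((n : AddMonoid.End (Additive M)) = 0) ↔ ∀ m ∈ M, m ^ n = 1 := by
    intro n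
    constructor
    · intro h m hm
      have := congrArg (fun f : AddMonoid.End (Additive M) => f (Additive.ofMul ⟨m, hm⟩)) h
      simp only [AddMonoid.End.natCast_apply] at this
      have := congrArg (fun a => ((Additive.toMul a : M) : G)) this
      simpa using this
    · intro h
      apply AddMonoidHom.ext; intro a
      apply Additive.toMul.injective; apply Subtype.ext
      show ((Additive.toMul ((n : AddMonoid.End (Additive M)) a) : M) : G) = 1
      rw [AddMonoid.End.natCast_apply]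
      show (((Additive.toMul a : M) ^ n : M) : G) = 1
      simpa using h _ (Additive.toMul a).2
  have h12 := (nat_zero 12).mp (by exact_mod_cast twelve_eq_zero ρ hz)
  have h4 : ((4 : ℕ) : AddMonoid.End (Additive M)) = 0 := (nat_zero 4).mpr fun m hm =>
    h3 _ (pow_mem (hM hm) 4) (by rw [← pow_mul]; exact h12 m hm)
  exact (nat_zero 2).mp (by exact_mod_cast two_eq_zero (by exact_mod_cast h4) ρ hz)

/-- When the commutators of the kernel are central in it, they are trivial. -/
theorem comm_of_class_two (hπ : Function.Surjective π)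
    (hcube : ∀ g : G, orderOf (π g) = 3 → g ^ 3 = 1) (h3 : ∀ k ∈ π.ker, k ^ 3 = 1 → k = 1)
    (hc : ∀ a ∈ π.ker, ∀ b ∈ π.ker, ∀ k ∈ π.ker, k * ⁅a, b⁆ = ⁅a, b⁆ * k) :
    ∀ a ∈ π.ker, ∀ b ∈ π.ker, a * b = b * a := by
  let K := π.ker
  have cm : ∀ {a b}, a ∈ K → b ∈ K → ⁅a, b⁆ ∈ K := fun {a b} ha hb => by
    rw [commutatorElement_def]
    exact mul_mem (mul_mem (mul_mem ha hb) (inv_mem ha)) (inv_mem hb)
  let D : Subgroup G := ⁅K, K⁆
  have hDK : D ≤ K := Subgroup.commutator_le_left _ _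
  have hcen : ∀ d ∈ D, ∀ k ∈ K, k * d = d * k := by
    intro d hd k hk
    have : D ≤ Subgroup.centralizer ({k} : Set G) := Subgroup.commutator_le.mpr fun a ha b hb => by
      rw [Subgroup.mem_centralizer_singleton_iff]; exact (hc a ha b hb k hk).symm
    exact (Subgroup.mem_centralizer_singleton_iff.mp (this hd)).symm
  have hsq := sq_eq_one_of_central π hπ hcube h3 D hDK
    (fun a ha b hb => hcen b hb a (hDK ha)) (fun k hk d hd => hcen d hd k hk)
  have inv2 : ∀ {a b}, a ∈ K → b ∈ K → ⁅a, b⁆⁻¹ = ⁅a, b⁆ := fun {a b} ha hb =>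
    inv_eq_of_mul_eq_one_left (by rw [← sq]; exact hsq _ (Subgroup.commutator_mem_commutator ha hb))
  have symmf : ∀ {a b}, a ∈ K → b ∈ K → ⁅b, a⁆ = ⁅a, b⁆ := fun {a b} ha hb => by
    rw [← inv2 ha hb, commutatorElement_inv]
  have lin : ∀ {a b c}, a ∈ K → b ∈ K → c ∈ K → ⁅a, b * c⁆ = ⁅a, b⁆ * ⁅a, c⁆ := fun {a b c} ha hb hc' => by
    calc ⁅a, b * c⁆ = ⁅a, b⁆ * (b * ⁅a, c⁆ * b⁻¹) := by
          simp only [commutatorElement_def]; group
      _ = _ := by rw [hc a ha c hc' b hb]; group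
  have linl : ∀ {a b c}, a ∈ K → b ∈ K → c ∈ K → ⁅a * b, c⁆ = ⁅a, c⁆ * ⁅b, c⁆ := fun {a b c} ha hb hc' => by
    rw [symmf hc' (mul_mem ha hb), lin hc' ha hb, symmf ha hc', symmf hb hc']
  let cj : G → G → G := fun z a => z * a * z⁻¹
  have cjK : ∀ (z : G) {a}, a ∈ K → cj z a ∈ K := fun z {a} ha =>
    (inferInstance : K.Normal).conj_mem a ha z
  have cjc : ∀ z a b, cj z ⁅a, b⁆ = ⁅cj z a, cj z b⁆ := fun z a b => by
    simp only [cj, commutatorElement_def]; group
  have self : ∀ z, orderOf (π z) = 3 → ∀ a ∈ K, ⁅a, cj z a⁆ = 1 := by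
    intro z hz a ha
    have hp : π a = 1 := MonoidHom.mem_ker.mp ha
    have e1 := cube_expand (g := z) (m := a) (hcube _ (by rw [map_mul, hp, one_mul]; exact hz))
      (hcube z hz)
    have hi : orderOf (π z⁻¹) = 3 := by rw [map_inv, orderOf_inv]; exact hz
    have e2 := cube_expand (g := z⁻¹) (m := a) (hcube _ (by rw [map_mul, hp, one_mul]; exact hi))
      (hcube z⁻¹ hi)
    have z3 := hcube z hz
    have e : cj z (cj z a) = z⁻¹ * a * z⁻¹⁻¹ := by
      simp only [cj]
      calc z * (z * a * z⁻¹) * z⁻¹ = z ^ 3 * (z⁻¹ * a * z⁻¹⁻¹) * (z ^ 3)⁻¹ := by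
            simp [pow_succ, mul_assoc]
        _ = _ := by rw [z3]; group
    have e' : cj z (cj z a) * cj z a = a⁻¹ := by
      have e0 : z⁻¹ * (z⁻¹ * a * z⁻¹⁻¹) * z⁻¹⁻¹ = cj z a := by
        simp only [cj]
        calc _ = (z ^ 3)⁻¹ * (z * a * z⁻¹) * z ^ 3 := by simp [pow_succ, mul_assoc]
          _ = _ := by rw [z3]; group
      rw [e, ← e0]; rw [mul_assoc] at e2; exact (inv_eq_of_mul_eq_one_right e2).symm
    have e'' : cj z a * cj z (cj z a) = a⁻¹ := by
      rw [mul_assoc] at e1; exact (inv_eq_of_mul_eq_one_right e1).symm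
    have : ⁅cj z a, cj z (cj z a)⁆ = 1 := by
      rw [commutatorElement_eq_one_iff_mul_comm, e', e'']
    rw [← cjc] at this
    exact conj_eq_one_iff.mp this
  have key : ∀ z, orderOf (π z) = 3 → ∀ a ∈ K, ∀ b ∈ K, ⁅a, cj z b⁆ = cj z⁻¹ ⁅a, b⁆ := by
    intro z hz a ha b hb
    have sym : ∀ a ∈ K, ∀ b ∈ K, ⁅a, cj z b⁆ = cj z ⁅a, cj z⁻¹ b⁆ := by
      intro a ha b hb
      have h := self z hz (a * b) (mul_mem ha hb)
      have hab : cj z (a * b) = cj z a * cj z b := by simp only [cj]; group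
      rw [hab, linl ha hb (mul_mem (cjK z ha) (cjK z hb)), lin ha (cjK z ha) (cjK z hb),
        lin hb (cjK z ha) (cjK z hb), self z hz a ha, self z hz b hb, one_mul, mul_one] at h
      rw [eq_inv_of_mul_eq_one_left h, inv2 hb (cjK z ha), symmf (cjK z ha) hb, cjc]
      congr 1
      simp only [cj]; group
    have z3 := hcube z hz
    have zz : cj z⁻¹ b = cj z (cj z b) := by
      simp only [cj]
      calc z⁻¹ * b * z⁻¹⁻¹ = z ^ 3 * (z⁻¹ * b * z⁻¹⁻¹) * (z ^ 3)⁻¹ := by rw [z3]; group
        _ = _ := by simp [pow_succ, mul_assoc]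
    have h1 := sym a ha b hb
    rw [zz] at h1
    have h2 := sym a ha _ (cjK z hb)
    rw [show cj z⁻¹ (cj z b) = b by simp only [cj]; group] at h2
    rw [h1, h2]
    simp only [cj]
    calc z * (z * ⁅a, b⁆ * z⁻¹) * z⁻¹ = z ^ 3 * (z⁻¹ * ⁅a, b⁆ * z⁻¹⁻¹) * (z ^ 3)⁻¹ := by
          simp [pow_succ, mul_assoc]
      _ = _ := by rw [z3]; group
  obtain ⟨p, hp⟩ := hπ aX
  obtain ⟨q, hq⟩ := hπ (aX * aV)
  have o1 : orderOf (π p) = 3 := hp ▸ three_of_cube (by decide) (by decide)
  have o2 : orderOf (π q) = 3 := hq ▸ three_of_cube (by decide) (by decide)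
  have o3 : orderOf (π (p * q)) = 3 := by
    rw [map_mul, hp, hq]; exact three_of_cube (by decide) (by decide)
  let S : Subgroup A5 := (Subgroup.centralizer (D : Set G)).map π
  have hS : S.Normal := Subgroup.Normal.map inferInstance π hπ
  have hn : p * q * (q * p)⁻¹ ∈ Subgroup.centralizer (D : Set G) := by
    have hgen : D ≤ Subgroup.centralizer ({p * q * (q * p)⁻¹} : Set G) := by
      refine Subgroup.commutator_le.mpr fun a ha b hb => ?_
      rw [Subgroup.mem_centralizer_singleton_iff]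
      have h1 := key (p * q) o3 a ha b hb
      have h2 : ⁅a, cj (p * q) b⁆ = cj p⁻¹ (cj q⁻¹ ⁅a, b⁆) := by
        rw [show cj (p * q) b = cj p (cj q b) by simp only [cj]; group,
          key p o1 a ha _ (cjK q hb), key q o2 a ha b hb]
      rw [h2] at h1
      simp only [cj] at h1
      have h3' := congrArg (fun y => p * q * y * (p * q)⁻¹) h1
      calc ⁅a, b⁆ * (p * q * (q * p)⁻¹)
          = (p * q * ((p * q)⁻¹ * ⁅a, b⁆ * (p * q)⁻¹⁻¹) * (p * q)⁻¹) * (p * q * (q * p)⁻¹) := by group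
        _ = p * q * (q * p)⁻¹ * ⁅a, b⁆ := by rw [← h3']; group
    rw [Subgroup.mem_centralizer_iff]
    exact fun d hd => Subgroup.mem_centralizer_singleton_iff.mp (hgen hd)
  haveI : IsSimpleGroup A5 := alternatingGroup.isSimpleGroup (α := Fin 5) (by simp)
  have htop : S = ⊤ := by
    rcases hS.eq_bot_or_eq_top with h | h
    · have : π (p * q * (q * p)⁻¹) = 1 := by
        rw [← Subgroup.mem_bot, ← h]; exact ⟨_, hn, rfl⟩
      rw [map_mul, map_inv, map_mul, map_mul, hp, hq] at this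
      exact absurd this (by decide)
    · exact h
  obtain ⟨c, hc1, hc2⟩ : aX ∈ S := htop ▸ Subgroup.mem_top _
  intro a ha b hb
  rw [← commutatorElement_eq_one_iff_mul_comm]
  have hd := Subgroup.commutator_mem_commutator ha hb
  have hcd : c * ⁅a, b⁆ = ⁅a, b⁆ * c := (Subgroup.mem_centralizer_iff.mp hc1 _ hd).symm
  have oc : orderOf (π c) = 3 := by rw [hc2]; exact three_of_cube (by decide) (by decide)
  have := cube_expand (g := c) (m := ⁅a, b⁆)
    (hcube _ (by rw [map_mul, (MonoidHom.mem_ker.mp (cm ha hb) : π ⁅a, b⁆ = 1), one_mul]; exact oc))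
    (hcube c oc)
  rw [hcd, mul_inv_cancel_right, hcd, mul_inv_cancel_right, ← sq, hsq _ hd, one_mul] at this
  exact this

/-- A nilpotent kernel is elementary abelian of exponent two. -/
theorem elementary_kernel (hπ : Function.Surjective π)
    (hcube : ∀ g : G, orderOf (π g) = 3 → g ^ 3 = 1) (h3 : ¬ 3 ∣ Nat.card π.ker)
    (hnil : Group.IsNilpotent π.ker) :
    (∀ a ∈ π.ker, ∀ b ∈ π.ker, a * b = b * a) ∧ ∀ a ∈ π.ker, a ^ 2 = 1 := by
  haveI : Fact (Nat.Prime 3) := ⟨Nat.prime_three⟩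
  have h3' : ∀ k ∈ π.ker, k ^ 3 = 1 → k = 1 := by
    intro k hk hk3
    by_contra hne
    exact h3 (orderOf_eq_prime hk3 hne ▸ Subgroup.orderOf_dvd_natCard _ hk)
  let L : Subgroup G := ⁅⁅π.ker, π.ker⁆, π.ker⁆
  have hL : L ≤ π.ker := (Subgroup.commutator_le_right _ _)
  let π₁ : G ⧸ L →* A5 := QuotientGroup.lift L π hL
  have hker : π₁.ker = π.ker.map (QuotientGroup.mk' L) := QuotientGroup.ker_lift L π hL
  have c1 := comm_of_class_two π₁ (fun z => by obtain ⟨g, hg⟩ := hπ z; exact ⟨(g : G ⧸ L), hg⟩)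
    (fun g => QuotientGroup.induction_on g fun g hg => by
      rw [← QuotientGroup.mk_pow, hcube g hg]; rfl)
    (fun g => by
      intro hg hg3
      by_contra hne
      apply h3
      have := Subgroup.orderOf_dvd_natCard _ hg
      rw [orderOf_eq_prime hg3 hne, hker] at this
      exact this.trans (Subgroup.card_map_dvd _ _))
    (by
      rw [hker]
      rintro _ ⟨a, ha, rfl⟩ _ ⟨b, hb, rfl⟩ _ ⟨k, hk, rfl⟩
      symm
      rw [← map_commutatorElement, ← commutatorElement_eq_one_iff_mul_comm, ← map_commutatorElement,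
        QuotientGroup.mk'_apply, QuotientGroup.eq_one_iff]
      exact Subgroup.commutator_mem_commutator (Subgroup.commutator_mem_commutator ha hb) hk)
  have hD : ⁅π.ker, π.ker⁆ ≤ L := Subgroup.commutator_le.mpr fun a ha b hb => by
    rw [← QuotientGroup.eq_one_iff, ← QuotientGroup.mk'_apply, map_commutatorElement,
      commutatorElement_eq_one_iff_mul_comm]
    exact c1 _ (hker ▸ ⟨a, ha, rfl⟩) _ (hker ▸ ⟨b, hb, rfl⟩)
  obtain ⟨n, hn⟩ := (Subgroup.isNilpotent_iff_lowerCentralSeries π.ker).mp hnil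
  have hall : ∀ m, ⁅π.ker, π.ker⁆ ≤ π.ker.lowerCentralSeries m := by
    intro m
    induction m with
    | zero => exact Subgroup.commutator_le_left _ _
    | succ m ih => exact hD.trans (Subgroup.commutator_mono ih le_rfl)
  have hbot : ⁅π.ker, π.ker⁆ = ⊥ := le_bot_iff.mp (hn ▸ hall n)
  have hab : ∀ a ∈ π.ker, ∀ b ∈ π.ker, a * b = b * a := fun a ha b hb =>
    commutatorElement_eq_one_iff_mul_comm.mp
      (Subgroup.mem_bot.mp (hbot ▸ Subgroup.commutator_mem_commutator ha hb))
  exact ⟨hab, sq_eq_one_of_central π hπ hcube h3' π.ker le_rfl hab hab⟩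

end Cfsg.Agent.OddChar.SelfThree
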