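import Cfsg.Agent.SmallOrder.Basic
import Mathlib.Data.ZMod.Basic

/-!
A simple group of order 168 acts on its eight Sylow 7-subgroups as the group generated by
`x ↦ x + 1`, `x ↦ 2x`, `x ↦ 3/x` on the projective line over seven elements.
-/

set_option autoImplicit false
set_option linter.style.haveILetI false

open scoped Classical

namespace Cfsg.Agent.OddChar.Simple168

open Subgroup

instance : Fact (Nat.Prime 7) := ⟨by norm_num⟩
instance : Fact (Nat.Prime 3) := ⟨Nat.prime_three⟩

/-- `x ↦ x + 1`. -/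
def transl : Equiv.Perm (Option (ZMod 7)) := (Equiv.addRight (1 : ZMod 7)).optionCongr

/-- `x ↦ 2x`. -/
def dbl : Equiv.Perm (Option (ZMod 7)) :=
  (⟨fun x => 2 * x, fun x => 4 * x, by decide, by decide⟩ : Equiv.Perm (ZMod 7)).optionCongr

/-- `x ↦ c / x`. -/
def inverseMap (c : ZMod 7) : Option (ZMod 7) → Option (ZMod 7)
  | none => some 0
  | some x => if x = 0 then none else some (c * x ^ 5)

/-- `x ↦ 3 / x`. -/
def flip3 : Equiv.Perm (Option (ZMod 7)) :=
  ⟨inverseMap 3, inverseMap 3, by decide, by decide⟩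

/-- The model group. -/
def model : Subgroup (Equiv.Perm (Option (ZMod 7))) := closure {transl, dbl, flip3}

theorem mem_model_of_fun {σ : Equiv.Perm (Option (ZMod 7))} {c : ZMod 7} (hc : c = 3 ∨ c = 5 ∨ c = 6)
    (hσ : ∀ x, σ x = inverseMap c x) : σ ∈ closure {transl, dbl, flip3} ∧
      flip3 ∈ closure {transl, dbl, σ} := by
  have hd : ∀ {S : Set (Equiv.Perm (Option (ZMod 7)))}, dbl ∈ S → dbl ∈ closure S :=
    fun h => Subgroup.subset_closure h
  rcases hc with rfl | rfl | rfl
  · obtain rfl : σ = flip3 := Equiv.ext hσ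
    exact ⟨Subgroup.subset_closure (by simp), Subgroup.subset_closure (by simp)⟩
  · have e1 : σ = dbl * (dbl * flip3) := Equiv.ext fun x => by
      rw [hσ]
      exact (by decide : ∀ x, inverseMap 5 x = dbl (dbl (flip3 x))) x
    have e2 : flip3 = dbl * σ := Equiv.ext fun x => by
      rw [Equiv.Perm.mul_apply, hσ]
      exact (by decide : ∀ x, flip3 x = dbl (inverseMap 5 x)) x
    exact ⟨e1 ▸ mul_mem (hd (by simp)) (mul_mem (hd (by simp)) (Subgroup.subset_closure (by simp))),
      e2 ▸ mul_mem (hd (by simp)) (Subgroup.subset_closure (by simp))⟩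
  · have e1 : σ = dbl * flip3 := Equiv.ext fun x => by
      rw [hσ]
      exact (by decide : ∀ x, inverseMap 6 x = dbl (flip3 x)) x
    have e2 : flip3 = dbl * (dbl * σ) := Equiv.ext fun x => by
      rw [Equiv.Perm.mul_apply, Equiv.Perm.mul_apply, hσ]
      exact (by decide : ∀ x, flip3 x = dbl (dbl (inverseMap 6 x))) x
    exact ⟨e1 ▸ mul_mem (hd (by simp)) (Subgroup.subset_closure (by simp)),
      e2 ▸ mul_mem (hd (by simp)) (mul_mem (hd (by simp)) (Subgroup.subset_closure (by simp)))⟩

theorem equiv_model {G : Type*} [Group G] [Finite G] [IsSimpleGroup G] (h : Nat.card G = 168) :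
    Nonempty (G ≃* model) := by
  have hG : ¬ IsMulCommutative G := SmallOrder.not_comm_of_not_prime (by rw [h]; norm_num)
  have h7d : 7 ∣ Nat.card G := by rw [h]; norm_num
  obtain ⟨P⟩ : Nonempty (Sylow 7 G) := inferInstance
  obtain ⟨hP7, -, hd, hmod⟩ := SmallOrder.sylow_arith P (a := 1) (m := 24) (by rw [h]; norm_num) (by norm_num)
  rw [pow_one] at hP7
  have h8 : Nat.card (Sylow 7 G) = 8 := by
    have hne := SmallOrder.card_sylow_ne_one (p := 7) hG h7d
    have hm : Nat.card (Sylow 7 G) ∈ Nat.divisors 24 := Nat.mem_divisors.mpr ⟨hd, by norm_num⟩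
    exact (by decide : ∀ n ∈ Nat.divisors 24, n % 7 = 1 → n ≠ 1 → n = 8) _ hm hmod hne
  have hstab : ∀ Q : Sylow 7 G, MulAction.stabilizer G Q = normalizer ((Q : Subgroup G) : Set G) :=
    fun Q => Q.stabilizer_eq_normalizer
  have hN : ∀ Q : Sylow 7 G, Nat.card (MulAction.stabilizer G Q) = 21 := by
    intro Q
    have h1 := (MulAction.stabilizer G Q).card_mul_index
    rw [MulAction.index_stabilizer_of_transitive, h8, h] at h1
    omega
  have hinj : Function.Injective (MulAction.toPermHom G (Sylow 7 G)) := by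
    obtain ⟨Q, hQ⟩ : ∃ Q : Sylow 7 G, Q ≠ P := by
      haveI : Nontrivial (Sylow 7 G) := Finite.one_lt_card_iff_nontrivial.mp (by omega)
      exact exists_ne P
    obtain ⟨g, hg⟩ := MulAction.exists_smul_eq G P Q
    exact SmallOrder.toPermHom_injective_of_moved (g := g) (a := P) (hg ▸ hQ)
  have hact : ∀ g : G, (∀ Q : Sylow 7 G, g • Q = Q) → g = 1 := fun g hg =>
    hinj (by rw [map_one]; exact Equiv.ext hg)
  obtain ⟨⟨t, htP⟩, ht⟩ := exists_prime_orderOf_dvd_card' (G := (P : Subgroup G)) 7 (by rw [hP7])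
  rw [Subgroup.orderOf_mk] at ht
  have hzt : zpowers t = (P : Subgroup G) := eq_of_le_of_card_ge (zpowers_le.mpr htP)
    (by rw [Nat.card_zpowers, ht, hP7])
  have htfix : ∀ Q : Sylow 7 G, ∀ i : ℕ, ¬ 7 ∣ i → t ^ i • Q = Q → Q = P := by
    intro Q i hi hQ
    have hord : orderOf (t ^ i) = 7 := by
      rw [Nat.Coprime.orderOf_pow (by rw [ht]; exact ((Nat.Prime.coprime_iff_not_dvd (by norm_num)).mpr hi)), ht]
    have hmem : t ^ i ∈ normalizer ((Q : Subgroup G) : Set G) := by rw [← hstab]; exact hQ
    have hle : zpowers (t ^ i) ≤ (Q : Subgroup G) := by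
      have hp : IsPGroup 7 (zpowers (t ^ i)) :=
        IsPGroup.of_card (n := 1) (by rw [Nat.card_zpowers, hord, pow_one])
      have h1 := hp.inf_normalizer_sylow Q
      exact inf_eq_left.mp (h1.symm.trans (inf_eq_left.mpr (zpowers_le.mpr hmem)))
    have hP' : zpowers (t ^ i) = (P : Subgroup G) := eq_of_le_of_card_ge
      (zpowers_le.mpr (pow_mem htP i)) (by rw [Nat.card_zpowers, hord, hP7])
    exact Sylow.ext (P.is_maximal' Q.2 (hP' ▸ hle))
  have htP' : ∀ i : ℕ, t ^ i • P = P := fun i => by
    rw [← MulAction.mem_stabilizer_iff, hstab]; exact le_normalizer (pow_mem htP i)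
  -- an element of order three fixing `P`
  obtain ⟨⟨h₀, hh₀P⟩, hh₀⟩ := exists_prime_orderOf_dvd_card' (G := MulAction.stabilizer G P) 3
    (by rw [hN]; norm_num)
  rw [Subgroup.orderOf_mk] at hh₀
  obtain ⟨Q, hQP, hQ⟩ : ∃ Q : Sylow 7 G, Q ≠ P ∧ h₀ • Q = Q := by
    have hW : IsPGroup 3 (zpowers h₀) := IsPGroup.of_card (n := 1) (by rw [Nat.card_zpowers, hh₀, pow_one])
    have hmod3 := hW.card_modEq_card_fixedPoints (Sylow 7 G)
    have hPf : P ∈ MulAction.fixedPoints (zpowers h₀) (Sylow 7 G) := fun w =>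
      (zpowers_le.mpr hh₀P w.2 : (w : G) ∈ MulAction.stabilizer G P)
    by_contra hcon
    push Not at hcon
    have hone : Nat.card (MulAction.fixedPoints (zpowers h₀) (Sylow 7 G)) = 1 :=
      Nat.card_eq_one_iff_unique.mpr ⟨⟨fun a b => by
        have e : ∀ c : MulAction.fixedPoints (zpowers h₀) (Sylow 7 G), (c : Sylow 7 G) = P := fun c => by
          by_contra hc
          exact hcon c hc (c.2 ⟨h₀, mem_zpowers h₀⟩)
        exact Subtype.ext ((e a).trans (e b).symm)⟩, ⟨⟨P, hPf⟩⟩⟩
    rw [hone, h8] at hmod3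
    exact absurd hmod3 (by decide)
  obtain ⟨hel, hh, hhP, hhQ, hconj⟩ : ∃ hel : G, orderOf hel = 3 ∧ hel • P = P ∧ hel • Q = Q ∧
      hel * t * hel⁻¹ = t ^ 2 := by
    have htn : h₀ * t * h₀⁻¹ ∈ zpowers t := by
      have : h₀ ∈ normalizer ((P : Subgroup G) : Set G) := by rw [← hstab]; exact hh₀P
      rw [hzt]
      exact (mem_normalizer_iff.mp this t).mp htP
    obtain ⟨r, hr, hrr⟩ : ∃ r : ℕ, r < 7 ∧ t ^ r = h₀ * t * h₀⁻¹ := by
      obtain ⟨i, hi⟩ := mem_zpowers_iff.mp htn
      refine ⟨(i % 7).toNat, by omega, ?_⟩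
      rw [← hi, ← zpow_natCast, Int.toNat_of_nonneg (Int.emod_nonneg _ (by norm_num))]
      conv_rhs => rw [← zpow_mod_orderOf, ht]
      rfl
    have hpow : ∀ n : ℕ, h₀ ^ n * t * (h₀ ^ n)⁻¹ = t ^ r ^ n := by
      intro n
      induction n with
      | zero => simp
      | succ n ih =>
        calc h₀ ^ (n + 1) * t * (h₀ ^ (n + 1))⁻¹ = h₀ ^ n * (h₀ * t * h₀⁻¹) * (h₀ ^ n)⁻¹ := by group
          _ = t ^ r ^ (n + 1) := by rw [← hrr, ← conj_pow, ih, ← pow_mul, ← pow_succ]
    have h3 : r ^ 3 % 7 = 1 := by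
      have e := hpow 3
      rw [← hh₀, pow_orderOf_eq_one, one_mul, inv_one, mul_one, hh₀] at e
      have e2 : t ^ r ^ 3 = t ^ 1 := by rw [pow_one]; exact e.symm
      rw [pow_inj_mod, ht] at e2
      exact e2
    have hr1 : r ≠ 1 := by
      rintro rfl
      rw [pow_one] at hrr
      have hc : ∀ i : ℕ, h₀ * t ^ i = t ^ i * h₀ := fun i =>
        ((show Commute h₀ t from (mul_inv_eq_iff_eq_mul.mp hrr.symm)).pow_right i).eq
      have hh1 : h₀ = 1 := hact h₀ fun R => by
        by_cases hR : R = P
        · rw [hR]; exact hh₀P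
        let f : Option (Fin 7) → Sylow 7 G := fun o => o.elim P fun i => t ^ (i : ℕ) • Q
        have hf : Function.Injective f := by
          rintro (_ | i) (_ | j) hij
          · rfl
          · exact absurd (smul_left_cancel (t ^ (j : ℕ)) ((htP' j).trans hij)).symm hQP
          · exact absurd (smul_left_cancel (t ^ (i : ℕ)) (hij.trans (htP' i).symm)) hQP
          · rcases lt_trichotomy (i : ℕ) j with hl | hl | hl
            · refine absurd (htfix Q ((j : ℕ) - i) (fun d => ?_) ?_) hQP
              · have := Nat.le_of_dvd (by omega) d; omega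
              · apply smul_left_cancel (t ^ (i : ℕ))
                rw [smul_smul, ← pow_add, Nat.add_sub_cancel' hl.le]; exact hij.symm
            · exact congrArg some (Fin.ext hl)
            · refine absurd (htfix Q ((i : ℕ) - j) (fun d => ?_) ?_) hQP
              · have := Nat.le_of_dvd (by omega) d; omega
              · apply smul_left_cancel (t ^ (j : ℕ))
                rw [smul_smul, ← pow_add, Nat.add_sub_cancel' hl.le]; exact hij
        haveI := Fintype.ofFinite (Sylow 7 G)
        have hb : Function.Bijective f := (Fintype.bijective_iff_injective_and_card f).mpr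
          ⟨hf, by rw [Fintype.card_option, Fintype.card_fin, ← Nat.card_eq_fintype_card, h8]⟩
        obtain ⟨o, rfl⟩ := hb.2 R
        cases o with
        | none => exact absurd rfl hR
        | some i =>
          show h₀ • t ^ (i : ℕ) • Q = t ^ (i : ℕ) • Q
          rw [smul_smul, hc, ← smul_smul, hQ]
      rw [hh1, orderOf_one] at hh₀
      omega
    have hr24 : r = 2 ∨ r = 4 :=
      (by decide : ∀ r < 7, r ^ 3 % 7 = 1 → r ≠ 1 → r = 2 ∨ r = 4) r hr h3 hr1
    have hQ2 : (h₀ * h₀) • Q = Q := by rw [mul_smul, hQ, hQ]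
    have hP2 : (h₀ * h₀) • P = P := by
      rw [mul_smul, show h₀ • P = P from hh₀P, show h₀ • P = P from hh₀P]
    rcases hr24 with rfl | rfl
    · exact ⟨h₀, hh₀, hh₀P, hQ, hrr.symm⟩
    · refine ⟨h₀ * h₀, ?_, hP2, hQ2, ?_⟩
      · rw [← pow_two, Nat.Coprime.orderOf_pow (by rw [hh₀]; norm_num), hh₀]
      · have e := hpow 2
        rw [show (4 : ℕ) ^ 2 = 2 + 7 * 2 by norm_num, pow_add, pow_mul, ← ht, pow_orderOf_eq_one, one_pow,
          mul_one, pow_two] at e
        exact e
  -- the labelling
  let lab : Option (ZMod 7) → Sylow 7 G := fun o => o.elim P fun i => t ^ i.val • Q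
  have hlinj : Function.Injective lab := by
    rintro (_ | i) (_ | j) hij
    · rfl
    · exact absurd (smul_left_cancel (t ^ j.val) ((htP' j.val).trans hij)).symm hQP
    · exact absurd (smul_left_cancel (t ^ i.val) (hij.trans (htP' i.val).symm)) hQP
    · rcases lt_trichotomy i.val j.val with hl | hl | hl
      · refine absurd (htfix Q (j.val - i.val) (fun d => ?_) ?_) hQP
        · have := Nat.le_of_dvd (by omega) d; have := ZMod.val_lt j; omega
        · apply smul_left_cancel (t ^ i.val)
          rw [smul_smul, ← pow_add, Nat.add_sub_cancel' hl.le]; exact hij.symm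
      · exact congrArg some (ZMod.val_injective 7 hl)
      · refine absurd (htfix Q (i.val - j.val) (fun d => ?_) ?_) hQP
        · have := Nat.le_of_dvd (by omega) d; have := ZMod.val_lt i; omega
        · apply smul_left_cancel (t ^ j.val)
          rw [smul_smul, ← pow_add, Nat.add_sub_cancel' hl.le]; exact hij
  haveI := Fintype.ofFinite (Sylow 7 G)
  let e : Option (ZMod 7) ≃ Sylow 7 G := Equiv.ofBijective lab
    ((Fintype.bijective_iff_injective_and_card lab).mpr
      ⟨hlinj, by rw [Fintype.card_option, ZMod.card, ← Nat.card_eq_fintype_card, h8]⟩)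
  let f : G →* Equiv.Perm (Option (ZMod 7)) :=
    e.symm.permCongrHom.toMonoidHom.comp (MulAction.toPermHom G (Sylow 7 G))
  have hf : Function.Injective f := e.symm.permCongrHom.injective.comp hinj
  have hfapp : ∀ (g : G) (o o' : Option (ZMod 7)), g • lab o = lab o' → f g o = o' := by
    intro g o o' ho
    show e.symm (g • e o) = o'
    rw [show g • e o = e o' from ho, Equiv.symm_apply_apply]
  have htpow : ∀ n : ℕ, t ^ n • Q = lab (some (n : ZMod 7)) := by
    intro n
    show t ^ n • Q = t ^ ((n : ZMod 7)).val • Q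
    have hm := pow_mod_orderOf t n
    rw [ht] at hm
    rw [ZMod.val_natCast, hm]
  have hft : f t = transl := by
    refine Equiv.ext fun o => hfapp _ _ _ ?_
    cases o with
    | none => exact pow_one t ▸ htP' 1
    | some i =>
      show t • t ^ i.val • Q = lab (some (i + 1))
      rw [smul_smul, ← pow_succ', htpow]
      simp
  have hmove : ∀ i : ℕ, hel • t ^ i • Q = t ^ (2 * i) • Q := by
    intro i
    rw [smul_smul, show hel * t ^ i = (hel * t * hel⁻¹) ^ i * hel by rw [conj_pow]; group, hconj, mul_smul,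
      hhQ, ← pow_mul]
  have hfh : f hel = dbl := by
    refine Equiv.ext fun o => hfapp _ _ _ ?_
    cases o with
    | none => exact hhP
    | some i =>
      show hel • t ^ i.val • Q = lab (some (2 * i))
      rw [hmove, htpow]
      simp
  -- the points fixed by `hel`
  have hfixh : ∀ R : Sylow 7 G, hel • R = R → R = P ∨ R = Q := by
    intro R hR
    obtain ⟨o, rfl⟩ := e.surjective R
    cases o with
    | none => exact Or.inl rfl
    | some i =>
      refine Or.inr ?_
      have h1 := hfapp hel (some i) (some i) hR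
      rw [hfh] at h1
      have h2 : i = 0 := (by decide : ∀ i : ZMod 7, dbl (some i) = some i → i = 0) i h1
      show t ^ i.val • Q = Q
      rw [h2, ZMod.val_zero, pow_zero, one_smul]
  have htwo : ∀ g : G, g • P = P → g • Q = Q → g ∈ zpowers hel := by
    set D := MulAction.stabilizer G P ⊓ MulAction.stabilizer G Q with hD
    have hcard : Nat.card D ≤ 3 := by
      have hdvd : Nat.card D ∣ 21 := hN P ▸ card_dvd_of_le inf_le_left
      have h7 : ¬ 7 ∣ Nat.card D := fun h7 => by
        obtain ⟨⟨u, hu⟩, huo⟩ := exists_prime_orderOf_dvd_card' (G := D) 7 h7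
        rw [Subgroup.orderOf_mk] at huo
        have hup : ∀ R : Sylow 7 G, u ∈ MulAction.stabilizer G R → zpowers u = (R : Subgroup G) := by
          intro R hR
          have hp : IsPGroup 7 (zpowers u) :=
            IsPGroup.of_card (n := 1) (by rw [Nat.card_zpowers, huo, pow_one])
          have h1 := hp.inf_normalizer_sylow R
          refine eq_of_le_of_card_ge
            (inf_eq_left.mp (h1.symm.trans (inf_eq_left.mpr (zpowers_le.mpr (hstab R ▸ hR))))) ?_
          have := (SmallOrder.sylow_arith R (a := 1) (m := 24) (by rw [h]; norm_num) (by norm_num)).1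
          rw [Nat.card_zpowers, huo, this, pow_one]
        exact hQP (Sylow.ext ((hup Q hu.2).symm.trans (hup P hu.1)))
      have hm : Nat.card D ∈ Nat.divisors 21 := Nat.mem_divisors.mpr ⟨hdvd, by norm_num⟩
      exact (by decide : ∀ n ∈ Nat.divisors 21, ¬ 7 ∣ n → n ≤ 3) _ hm h7
    have hle : zpowers hel ≤ D := zpowers_le.mpr ⟨hhP, hhQ⟩
    have heq := eq_of_le_of_card_ge hle (by rw [Nat.card_zpowers, hh]; exact hcard)
    intro g h1 h2
    rw [heq]; exact ⟨h1, h2⟩
  obtain ⟨k, hk⟩ : ∃ k : G, k * hel * k⁻¹ = hel⁻¹ := by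
    obtain ⟨R, hR⟩ := (IsPGroup.of_card (n := 1) (p := 3)
      (by rw [Nat.card_zpowers, hh, pow_one] : Nat.card (zpowers hel) = 3 ^ 1)).exists_le_sylow
    have hR3 : Nat.card R = 3 := by
      rw [(SmallOrder.sylow_arith R (a := 1) (m := 56) (by rw [h]; norm_num) (by norm_num)).1, pow_one]
    have hRh : zpowers hel = (R : Subgroup G) := eq_of_le_of_card_ge hR (by rw [Nat.card_zpowers, hh, hR3])
    have hnle := SmallOrder.not_normalizer_le_centralizer (p := 3) hG (by rw [h]; norm_num) R
    obtain ⟨k, hkN, hkC⟩ := Set.not_subset.mp hnle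
    refine ⟨k, ?_⟩
    have hm : k * hel * k⁻¹ ∈ zpowers hel := by
      rw [hRh]; exact (mem_normalizer_iff.mp hkN hel).mp (hRh ▸ mem_zpowers hel)
    obtain ⟨i, hi⟩ := mem_zpowers_iff.mp hm
    rw [← zpow_mod_orderOf, hh] at hi
    rcases (show i % 3 = 0 ∨ i % 3 = 1 ∨ i % 3 = 2 by omega) with e | e | e
    · exfalso
      rw [show i % ((3 : ℕ) : ℤ) = 0 by exact_mod_cast e, zpow_zero] at hi
      have : hel = 1 := by simpa using hi.symm
      rw [this, orderOf_one] at hh; omega
    · exfalso
      rw [show i % ((3 : ℕ) : ℤ) = 1 by exact_mod_cast e, zpow_one] at hi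
      apply hkC
      rw [SetLike.mem_coe, mem_centralizer_iff]
      intro y hy
      rw [SetLike.mem_coe, ← hRh] at hy
      obtain ⟨j, rfl⟩ := mem_zpowers_iff.mp hy
      exact ((show Commute k hel from mul_inv_eq_iff_eq_mul.mp hi.symm).zpow_right j).eq.symm
    · rw [← hi, show i % ((3 : ℕ) : ℤ) = 2 by exact_mod_cast e]
      refine (inv_eq_of_mul_eq_one_right ?_).symm
      rw [← zpow_one_add, show (1 : ℤ) + 2 = ((3 : ℕ) : ℤ) by norm_num, zpow_natCast, ← hh, pow_orderOf_eq_one]
  have hkfix : ∀ R : Sylow 7 G, hel • R = R → hel • k • R = k • R := by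
    intro R hR
    have e : hel * k = k * hel⁻¹ := by
      have h2 : (k * hel * k⁻¹)⁻¹ = hel := by rw [hk, inv_inv]
      calc hel * k = (k * hel * k⁻¹)⁻¹ * k := by rw [h2]
        _ = k * hel⁻¹ := by group
    rw [smul_smul, e, mul_smul, inv_smul_eq_iff.mpr hR.symm]
  have hkP : k • P = Q := by
    refine (hfixh _ (hkfix P hhP)).resolve_left fun hc => ?_
    have hkQ : k • Q = Q := (hfixh _ (hkfix Q hhQ)).resolve_left fun h' =>
      hQP (smul_left_cancel k (h'.trans hc.symm))
    obtain ⟨j, rfl⟩ := mem_zpowers_iff.mp (htwo k hc hkQ)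
    rw [((Commute.refl hel).zpow_left j).eq, mul_inv_cancel_right] at hk
    have h2 : hel ^ 2 = 1 := by rw [pow_two]; exact mul_eq_one_iff_eq_inv.mpr hk
    have := orderOf_dvd_of_pow_eq_one h2
    rw [hh] at this
    omega
  have hkQ : k • Q = P := (hfixh _ (hkfix Q hhQ)).resolve_right fun h' =>
    hQP (smul_left_cancel k (h'.trans hkP.symm))
  have hk2 : k * k = 1 := by
    obtain ⟨j, hj⟩ := mem_zpowers_iff.mp (htwo (k * k) (by rw [mul_smul, hkP, hkQ]) (by rw [mul_smul, hkQ, hkP]))
    have h1 : k * hel ^ j * k⁻¹ = hel ^ (-j) := by rw [← conj_zpow, hk, inv_zpow, zpow_neg]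
    rw [hj, show k * (k * k) * k⁻¹ = k * k by group, zpow_neg, hj] at h1
    have h4 : (k * k) ^ 2 = 1 := by rw [pow_two]; exact mul_eq_one_iff_eq_inv.mpr h1
    have hd2 := orderOf_dvd_of_pow_eq_one h4
    have hd3 : orderOf (k * k) ∣ 3 := by rw [← hj, ← hh]; exact orderOf_dvd_of_mem_zpowers ⟨j, rfl⟩
    exact orderOf_eq_one_iff.mp (Nat.eq_one_of_dvd_coprimes (by norm_num : Nat.Coprime 2 3) hd2 hd3)
  have hknf : ∀ R : Sylow 7 G, k • R ≠ R := by
    intro R hR
    have h1 : orderOf k ∣ 21 := hN R ▸ Subgroup.orderOf_dvd_natCard _ (show k ∈ MulAction.stabilizer G R from hR)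
    have h2 : orderOf k ∣ 2 := orderOf_dvd_of_pow_eq_one (by rw [pow_two, hk2])
    have h3 := orderOf_eq_one_iff.mp (Nat.eq_one_of_dvd_coprimes (by norm_num : Nat.Coprime 21 2) h1 h2)
    exact hQP (hkP.symm.trans (by rw [h3, one_smul]))
  obtain ⟨c, hc, hkc⟩ : ∃ c : ZMod 7, (c = 3 ∨ c = 5 ∨ c = 6) ∧ ∀ x, f k x = inverseMap c x := by
    set σ := f k with hσ
    have h0 : σ none = some 0 := hfapp k none (some 0) (by
      show k • P = t ^ (0 : ZMod 7).val • Q
      rw [ZMod.val_zero, pow_zero, one_smul, hkP])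
    have hinv : ∀ x, σ (σ x) = x := fun x => by
      rw [← Equiv.Perm.mul_apply, hσ, ← map_mul, hk2, map_one]; rfl
    have hcomm : ∀ x, σ (dbl x) = dbl.symm (σ x) := by
      intro x
      have : σ * dbl = dbl⁻¹ * σ := by
        rw [hσ, ← hfh, ← map_mul, ← map_inv, ← map_mul]
        congr 1
        exact mul_inv_eq_iff_eq_mul.mp hk
      exact Equiv.congr_fun this x
    have hnf : ∀ x, σ x ≠ x := fun x hx => hknf (lab x) (by
      have : e.symm (k • e x) = x := hx
      exact (Equiv.symm_apply_eq e).mp this)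
    obtain ⟨c, hc⟩ : ∃ c, σ (some 1) = some c := by
      cases h1 : σ (some 1) with
      | some c => exact ⟨c, rfl⟩
      | none =>
        have := hinv (some 1)
        rw [h1, h0] at this
        exact absurd this (by decide)
    have h2 : σ (some 2) = dbl.symm (some c) := by rw [← hc, ← hcomm]; congr 1
    have h4 : σ (some 4) = dbl.symm (dbl.symm (some c)) := by rw [← h2, ← hcomm]; congr 1
    have hcv : c = 3 ∨ c = 5 ∨ c = 6 := by
      revert h2 h4 hc
      intro hc h2 h4
      rcases (by decide : ∀ c : ZMod 7, c = 0 ∨ c = 1 ∨ c = 2 ∨ c = 4 ∨ c = 3 ∨ c = 5 ∨ c = 6) c with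
        rfl | rfl | rfl | rfl | hcc
      · have := hinv (some 1)
        rw [hc] at this
        have h00 := hinv none
        rw [h0] at h00
        rw [h00] at this
        exact absurd this (by decide)
      · exact absurd hc (hnf _)
      · exact absurd (h4.trans (by decide : dbl.symm (dbl.symm (some (2 : ZMod 7))) = some 4)) (hnf _)
      · exact absurd (h2.trans (by decide : dbl.symm (some (4 : ZMod 7)) = some 2)) (hnf _)
      · exact hcc
    refine ⟨c, hcv, ?_⟩
    have h00 : σ (some 0) = none := by rw [← h0, hinv]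
    have i1 : σ (some c) = some 1 := by rw [← hc, hinv]
    have i2 : σ (dbl.symm (some c)) = some 2 := by rw [← h2, hinv]
    have i4 : σ (dbl.symm (dbl.symm (some c))) = some 4 := by rw [← h4, hinv]
    intro x
    rcases hcv with rfl | rfl | rfl <;>
      rcases (by decide : ∀ x : Option (ZMod 7), x = none ∨ x = some 0 ∨ x = some 1 ∨ x = some 2 ∨
        x = some 3 ∨ x = some 4 ∨ x = some 5 ∨ x = some 6) x with
        rfl | rfl | rfl | rfl | rfl | rfl | rfl | rfl <;>
      first
        | exact h0 | exact h00 | exact hc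
        | exact h2.trans (by decide) | exact h4.trans (by decide)
        | (refine (congrArg σ (by decide : _ = _)).trans (i1.trans (by decide)) ; done)
        | exact i1 | exact i1.trans (by decide)
        | exact (congrArg σ (show _ = _ by decide)).trans i2
        | skip
    all_goals first
      | exact i2.trans (by decide) | exact i4.trans (by decide)
  obtain ⟨hm1, hm2⟩ := mem_model_of_fun hc hkc
  set H := closure ({t, hel, k} : Set G) with hH
  have hHtop : H = ⊤ := by
    have htH : t ∈ H := subset_closure (by simp)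
    have hhH : hel ∈ H := subset_closure (by simp)
    have hkH : k ∈ H := subset_closure (by simp)
    have d7 : 7 ∣ Nat.card H := ht ▸ Subgroup.orderOf_dvd_natCard H htH
    have d3 : 3 ∣ Nat.card H := hh ▸ Subgroup.orderOf_dvd_natCard H hhH
    have hko : orderOf k = 2 := orderOf_eq_prime (by rw [pow_two, hk2])
      (fun e1 => hQP (hkP.symm.trans (by rw [e1, one_smul])))
    have d2 : 2 ∣ Nat.card H := hko ▸ Subgroup.orderOf_dvd_natCard H hkH
    have d42 : 42 ∣ Nat.card H := Nat.Coprime.mul_dvd_of_dvd_of_dvd (by norm_num : Nat.Coprime 14 3)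
      (Nat.Coprime.mul_dvd_of_dvd_of_dvd (by norm_num : Nat.Coprime 2 7) d2 d7) d3
    by_contra hne
    have h2 := SmallOrder.two_mul_card_dvd_factorial hG H hne
    have h4 : H.index ∣ 4 := by
      have h1 := H.card_mul_index
      obtain ⟨a, ha⟩ := d42
      rw [ha, h] at h1
      exact ⟨a, by linarith⟩
    have hle := Nat.le_of_dvd (by norm_num) h4
    have := Nat.le_of_dvd (Nat.factorial_pos _) h2
    have h24 : H.index.factorial ≤ 24 := (Nat.factorial_le hle).trans (by decide)
    omega
  have hrange : f.range = model := by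
    rw [MonoidHom.range_eq_map, ← hHtop, hH, MonoidHom.map_closure, Set.image_insert_eq,
      Set.image_insert_eq, Set.image_singleton, hft, hfh]
    refine le_antisymm (closure_le _ |>.mpr ?_) (closure_le _ |>.mpr ?_)
    · rintro x (rfl | rfl | rfl)
      · exact subset_closure (by simp)
      · exact subset_closure (by simp)
      · exact hm1
    · rintro x (rfl | rfl | rfl)
      · exact subset_closure (by simp)
      · exact subset_closure (by simp)
      · exact hm2
  exact ⟨(MonoidHom.ofInjective hf).trans (MulEquiv.subgroupCongr hrange)⟩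

end Cfsg.Agent.OddChar.Simple168
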