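import Mathlib.GroupTheory.SpecificGroups.Alternating
import Mathlib.GroupTheory.SpecificGroups.Alternating.Simple
import Mathlib.Algebra.CharP.Two
import Mathlib.Tactic.NoncommRing
import Mathlib.Tactic.LinearCombination

/-!
Actions of the alternating group of degree five in which the elements of order three fix nothing
are killed by two.
-/

set_option autoImplicit false
set_option maxRecDepth 4000

namespace Cfsg.Agent.OddChar.SelfThree

abbrev A5 := ↥(alternatingGroup (Fin 5))

/-- The first involution of a four-group. -/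
def aV : A5 := ⟨Equiv.swap 0 1 * Equiv.swap 2 3, Equiv.Perm.mem_alternatingGroup.2 (by decide)⟩
/-- The second involution of a four-group. -/
def aU : A5 := ⟨Equiv.swap 0 2 * Equiv.swap 1 3, Equiv.Perm.mem_alternatingGroup.2 (by decide)⟩
/-- The third involution of a four-group. -/
def aW : A5 := ⟨Equiv.swap 0 3 * Equiv.swap 1 2, Equiv.Perm.mem_alternatingGroup.2 (by decide)⟩
/-- An involution outside the four-group. -/
def aR : A5 := ⟨Equiv.swap 0 1 * Equiv.swap 2 4, Equiv.Perm.mem_alternatingGroup.2 (by decide)⟩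
/-- An element of order three normalising the four-group. -/
def aX : A5 := ⟨Equiv.swap 0 1 * Equiv.swap 1 2, Equiv.Perm.mem_alternatingGroup.2 (by decide)⟩

theorem three_of_cube {z : A5} (h : z ^ 3 = 1) (h1 : z ≠ 1) : orderOf z = 3 :=
  haveI : Fact (Nat.Prime 3) := ⟨Nat.prime_three⟩
  orderOf_eq_prime h h1

theorem four_sum {R : Type*} [Ring R] (ρ : A5 →* R)
    (hz : ∀ z : A5, orderOf z = 3 → 1 + ρ z + ρ z * ρ z = 0) : ρ aV + ρ aU + ρ aW = 3 := by
  have hz' : ∀ z : A5, z ^ 3 = 1 → z ≠ 1 → 1 + ρ z + ρ (z * z) = 0 := fun z h h1 => by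
    rw [map_mul]; exact hz z (three_of_cube h h1)
  obtain ⟨v, hv⟩ : ∃ v, v = ρ aV := ⟨_, rfl⟩
  obtain ⟨u, hu⟩ : ∃ v, v = ρ aU := ⟨_, rfl⟩
  obtain ⟨w, hw⟩ : ∃ v, v = ρ aW := ⟨_, rfl⟩
  obtain ⟨x, hx⟩ : ∃ v, v = ρ aX := ⟨_, rfl⟩
  -- the four-group sums to zero
  have e0 := hz' aX (by decide) (by decide)
  have e1 := hz' (aX * aV) (by decide) (by decide)
  have e2 := hz' (aX * aU) (by decide) (by decide)
  have e3 := hz' (aX * aW) (by decide) (by decide)
  have hb : ∃ h1 h2 h3 : A5, h1 ∈ [aV, aU, aW] ∧ h2 ∈ [aV, aU, aW] ∧ h3 ∈ [aV, aU, aW] ∧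
      h1 ≠ h2 ∧ h1 ≠ h3 ∧ h2 ≠ h3 ∧ aX * aV * (aX * aV) = aX * aX * h1 ∧
      aX * aU * (aX * aU) = aX * aX * h2 ∧ aX * aW * (aX * aW) = aX * aX * h3 := by
    refine ⟨(aX * aX)⁻¹ * (aX * aV * (aX * aV)), (aX * aX)⁻¹ * (aX * aU * (aX * aU)),
      (aX * aX)⁻¹ * (aX * aW * (aX * aW)), ?_, ?_, ?_, ?_, ?_, ?_, ?_, ?_, ?_⟩ <;> decide
  obtain ⟨h1, h2, h3, m1, m2, m3, n12, n13, n23, q1, q2, q3⟩ := hb
  rw [q1] at e1; rw [q2] at e2; rw [q3] at e3
  simp only [map_mul, ← hv, ← hu, ← hw, ← hx] at e0 e1 e2 e3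
  have hS : ρ h1 + ρ h2 + ρ h3 = v + u + w := by
    simp only [List.mem_cons, List.not_mem_nil, or_false] at m1 m2 m3
    rcases m1 with rfl | rfl | rfl <;> rcases m2 with rfl | rfl | rfl <;>
      rcases m3 with rfl | rfl | rfl <;>
      first
        | exact absurd rfl n12
        | exact absurd rfl n13
        | exact absurd rfl n23
        | (simp only [← hv, ← hu, ← hw] <;> abel)
  rw [← hv, ← hu, ← hw]
  have t1 : (1 + 1 + 1 + 1) + x * (1 + v + u + w) + x * x * (1 + (ρ h1 + ρ h2 + ρ h3)) = 0 := by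
    calc (1 + 1 + 1 + 1 : R) + x * (1 + v + u + w) + x * x * (1 + (ρ h1 + ρ h2 + ρ h3))
        = (1 + x + x * x) + (1 + x * v + x * x * ρ h1) + (1 + x * u + x * x * ρ h2)
          + (1 + x * w + x * x * ρ h3) := by noncomm_ring
      _ = 0 := by rw [e0, e1, e2, e3]; simp
  rw [hS] at t1
  have t2 : (1 + x + x * x) * (1 + (v + u + w)) = 0 := by rw [e0, zero_mul]
  have t3 : (1 : R) + (v + u + w) = (1 + x + x * x) * (1 + (v + u + w))
      - ((1 + 1 + 1 + 1) + x * (1 + v + u + w) + x * x * (1 + (v + u + w))) + (1 + 1 + 1 + 1) := by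
    noncomm_ring
  rw [t1, t2, sub_zero, zero_add] at t3
  rw [show (1 : R) + 1 + 1 + 1 = 1 + 3 by norm_num] at t3
  exact add_left_cancel t3

theorem twelve_eq_zero {R : Type*} [Ring R] (ρ : A5 →* R)
    (hz : ∀ z : A5, orderOf z = 3 → 1 + ρ z + ρ z * ρ z = 0) : (12 : R) = 0 := by
  have hS := four_sum ρ hz
  have key : 4 * ρ aV = 4 := by
    have h := congrArg (ρ aV * ·) hS
    simp only [mul_add, ← map_mul] at h
    rw [show aV * aV = 1 by decide, show aV * aU = aW by decide, show aV * aW = aU by decide,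
      map_one] at h
    have h3 : ρ aV * 3 = ρ aV + ρ aV + ρ aV := by noncomm_ring
    rw [h3] at h
    calc 4 * ρ aV = (ρ aV + ρ aV + ρ aV) + ρ aV := by noncomm_ring
      _ = 1 + (ρ aV + ρ aU + ρ aW) := by rw [← h]; abel
      _ = 4 := by rw [hS]; norm_num
  let H : Subgroup A5 :=
    { carrier := {g | 4 * ρ g = 4}
      one_mem' := by simp
      mul_mem' := fun {g h} hg hh => by
        show 4 * ρ (g * h) = 4
        rw [map_mul, ← mul_assoc, hg]; exact hh
      inv_mem' := fun {g} hg => by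
        show 4 * ρ g⁻¹ = 4
        conv_lhs => rw [← (show 4 * ρ g = 4 from hg)]
        rw [mul_assoc, ← map_mul, mul_inv_cancel, map_one, mul_one] }
  haveI : H.Normal := ⟨fun g hg k => by
    show 4 * ρ (k * g * k⁻¹) = 4
    have h2 : ∀ y : R, 4 * y = y * 4 := fun y => by noncomm_ring
    rw [map_mul, map_mul, ← mul_assoc, ← mul_assoc, h2, mul_assoc (ρ k), (show 4 * ρ g = 4 from hg),
      ← h2, mul_assoc, ← map_mul, mul_inv_cancel, map_one, mul_one]⟩
  haveI : IsSimpleGroup A5 := alternatingGroup.isSimpleGroup (α := Fin 5) (by simp)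
  rcases Subgroup.Normal.eq_bot_or_eq_top (inferInstance : H.Normal) with h | h
  · have hV : aV ∈ H := key
    rw [h, Subgroup.mem_bot] at hV
    exact absurd hV (by decide)
  · have hxx : 4 * ρ aX = 4 := (show aX ∈ H from h ▸ Subgroup.mem_top _)
    have e : (4 : R) * (1 + ρ aX + ρ aX * ρ aX) = 4 + 4 + 4 := by
      rw [mul_add, mul_add, mul_one, ← mul_assoc, hxx, hxx]
    rw [hz aX (three_of_cube (by decide) (by decide)), mul_zero] at e
    rw [e]; norm_num

theorem two_eq_zero {R : Type*} [Ring R] (h4 : (4 : R) = 0) (ρ : A5 →* R)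
    (hz : ∀ z : A5, orderOf z = 3 → 1 + ρ z + ρ z * ρ z = 0) : (2 : R) = 0 := by
  have hz' : ∀ z : A5, z ^ 3 = 1 → z ≠ 1 → 1 + ρ z + ρ (z * z) = 0 := fun z h h1 => by
    rw [map_mul]; exact hz z (three_of_cube h h1)
  obtain ⟨v, hv⟩ : ∃ v, v = ρ aV := ⟨_, rfl⟩
  obtain ⟨u, hu⟩ : ∃ v, v = ρ aU := ⟨_, rfl⟩
  obtain ⟨w, hw⟩ : ∃ v, v = ρ aW := ⟨_, rfl⟩
  obtain ⟨r, hr⟩ : ∃ v, v = ρ aR := ⟨_, rfl⟩
  obtain ⟨x, hx⟩ : ∃ v, v = ρ aX := ⟨_, rfl⟩
  have hsum : v + u + w = -1 := by
    rw [hv, hu, hw, four_sum ρ hz, eq_neg_iff_add_eq_zero, ← h4]; norm_num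
  -- relations
  have g1 : ∀ {g h : A5}, g * h = 1 → ρ g * ρ h = 1 := fun h => by rw [← map_mul, h, map_one]
  have vv : v * v = 1 := hv ▸ g1 (by decide)
  have uu : u * u = 1 := hu ▸ g1 (by decide)
  have rr : r * r = 1 := hr ▸ g1 (by decide)
  have vu : v * u = w := by rw [hv, hu, hw, ← map_mul]; exact congrArg ρ (by decide)
  have uv : u * v = w := by rw [hv, hu, hw, ← map_mul]; exact congrArg ρ (by decide)
  have hvr : v * r + r * v = -1 := by
    have e := hz' (aV * aR) (by decide) (by decide)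
    rw [show aV * aR * (aV * aR) = aR * aV by decide, map_mul, map_mul, ← hv, ← hr, add_assoc] at e
    exact eq_neg_of_add_eq_zero_right e
  have hs5 : (u * r) ^ 5 = 1 := by
    rw [hu, hr, ← map_mul, ← map_pow, show (aU * aR) ^ 5 = 1 by decide, map_one]
  obtain ⟨a, ha⟩ : ∃ a, a = v - 1 := ⟨_, rfl⟩
  obtain ⟨b, hb⟩ : ∃ a, a = u - 1 := ⟨_, rfl⟩
  obtain ⟨d, hd⟩ : ∃ a, a = r - 1 := ⟨_, rfl⟩
  have four : ∀ y : R, y + y + y + y = 0 := fun y => by
    have : (4 : R) * y = 0 := by rw [h4, zero_mul]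
    rw [← this]; noncomm_ring
  have aa : a * a = 2 * a := by
    have h : a * a - 2 * a = (v * v - 1) - (a + a + a + a) := by rw [ha]; noncomm_ring
    rw [vv, four, sub_self, sub_zero] at h; exact sub_eq_zero.mp h
  have bb : b * b = 2 * b := by
    have h : b * b - 2 * b = (u * u - 1) - (b + b + b + b) := by rw [hb]; noncomm_ring
    rw [uu, four, sub_self, sub_zero] at h; exact sub_eq_zero.mp h
  have dd : d * d = 2 * d := by
    have h : d * d - 2 * d = (r * r - 1) - (d + d + d + d) := by rw [hd]; noncomm_ring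
    rw [rr, four, sub_self, sub_zero] at h; exact sub_eq_zero.mp h
  have hw' : w = -1 - v - u := by rw [← hsum]; abel
  have ab : a * b = 2 * a + 2 * b := by
    have h : a * b = (v * u) - v - u + 1 := by rw [ha, hb]; noncomm_ring
    rw [vu, hw'] at h
    rw [h, ← sub_eq_zero, ← four (1 - v - u - (1 - v - u))]
    have h' : (-1 - v - u) - v - u + 1 - (2 * a + 2 * b)
        = -((v + v + v + v) + (u + u + u + u)) + (1 + 1 + 1 + 1) := by rw [ha, hb]; noncomm_ring
    rw [h', four, four, four, four]; simp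
  have ba : b * a = 2 * a + 2 * b := by
    have h : b * a = (u * v) - u - v + 1 := by rw [ha, hb]; noncomm_ring
    have h2 : a * b = (v * u) - v - u + 1 := by rw [ha, hb]; noncomm_ring
    rw [uv] at h; rw [vu] at h2
    rw [← ab, h, h2]; abel
  have hX : a * d + d * a = 1 + 2 * a + 2 * d := by
    have h : a * d + d * a - (1 + 2 * a + 2 * d)
        = (v * r + r * v + 1) - ((a + a + a + a) + (d + d + d + d)) - (1 + 1 + 1 + 1) := by
      rw [ha, hd]; noncomm_ring
    rw [hvr, four, four, four, neg_add_cancel] at h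
    exact sub_eq_zero.mp (by rw [h]; simp)
  have ada : a * d * a = a := by
    have h : a * d * a - a = (a * d + d * a - (1 + 2 * a + 2 * d)) * a
        - d * (a * a - 2 * a) + 2 * (a * a - 2 * a) + (a + a + a + a) := by noncomm_ring
    rw [hX, aa, four] at h; simpa [sub_eq_zero] using h
  have dad : d * a * d = d := by
    have h : d * a * d - d = (a * d + d * a - (1 + 2 * a + 2 * d)) * d
        - a * (d * d - 2 * d) + 2 * (d * d - 2 * d) + (d + d + d + d) := by noncomm_ring
    rw [hX, dd, four] at h; simpa [sub_eq_zero] using h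
  have adb : a * d * b = b + 2 * (d * a) := by
    have h : a * d * b - (b + 2 * (d * a)) = (a * d + d * a - (1 + 2 * a + 2 * d)) * b
        - d * (a * b - (2 * a + 2 * b)) + 2 * (a * b - (2 * a + 2 * b))
        + ((a + a + a + a) + (b + b + b + b)) - (d * a + d * a + d * a + d * a) := by noncomm_ring
    rw [hX, ab, four, four, four] at h; simpa [sub_eq_zero] using h
  have bda : b * d * a = b + 2 * (a * d) := by
    have h : b * d * a - (b + 2 * (a * d)) = b * (a * d + d * a - (1 + 2 * a + 2 * d))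
        - (b * a - (2 * a + 2 * b)) * d + 2 * (b * a - (2 * a + 2 * b))
        + ((a + a + a + a) + (b + b + b + b)) - (a * d + a * d + a * d + a * d) := by noncomm_ring
    rw [hX, ba, four, four, four] at h; simpa [sub_eq_zero] using h
  have bdb : 2 * (b * d * b) = 2 * b := by
    have b1 : b = b * d * a + 2 * (a * d) := by
      rw [bda, add_assoc, show 2 * (a * d) + 2 * (a * d) = a * d + a * d + a * d + a * d by noncomm_ring,
        four, add_zero]
    have b2 : b = a * d * b + 2 * (d * a) := by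
      rw [adb, add_assoc, show 2 * (d * a) + 2 * (d * a) = d * a + d * a + d * a + d * a by noncomm_ring,
        four, add_zero]
    have key : (b * d * a + 2 * (a * d)) * (a * d * b + 2 * (d * a))
        = b * d * (a * a - 2 * a) * d * b + 2 * (b * (d * a * d - d) * b)
          + 2 * (b * d * (a * d * a - a)) + 2 * ((a * d * a - a) * d * b)
          + 2 * (b * d * b) + 2 * (b * d * a - (b + 2 * (a * d)))
          + 2 * (a * d * b - (b + 2 * (d * a)))
          + (a * d * (d * a) + a * d * (d * a) + a * d * (d * a) + a * d * (d * a))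
          + (b + b + b + b)
          + ((a * d + a * d + a * d + a * d) + (d * a + d * a + d * a + d * a)) := by noncomm_ring
    rw [← b1, ← b2, bb, aa, dad, ada, bda, adb, four, four, four, four] at key
    simpa using key.symm
  -- the element of order five
  obtain ⟨s, hs⟩ : ∃ s, s = u * r := ⟨_, rfl⟩
  rw [← hs] at hs5
  have hse : s = (1 + b) * (1 + d) := by rw [hs, hb, hd]; noncomm_ring
  have s1 : s * (2 * b) = 2 * (d * b) := by
    have h : s * (2 * b) - 2 * (d * b) = 2 * (b * b - 2 * b) + (2 * (b * d * b) - 2 * b)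
        + ((b + b + b + b) + (b + b + b + b)) := by rw [hse]; noncomm_ring
    rw [bb, bdb, four] at h; simpa [sub_eq_zero] using h
  have s2 : s * (2 * (d * b)) = 2 * (d * b) + 2 * b := by
    have h : s * (2 * (d * b)) - (2 * (d * b) + 2 * b) = 2 * ((d * d - 2 * d) * b)
        + 2 * (b * ((d * d - 2 * d) * b)) + (2 * (b * d * b) - 2 * b)
        + ((d * b + d * b + d * b + d * b) + (b * d * b + b * d * b + b * d * b + b * d * b)) := by
      rw [hse]; noncomm_ring
    rw [dd, bdb, four, four] at h; simpa [sub_eq_zero] using h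
  have s3 : s ^ 3 * (2 * b) = 2 * b := by
    rw [show s ^ 3 * (2 * b) = s * (s * (s * (2 * b))) by noncomm_ring, s1, s2, mul_add, s1, s2]
    have := four (d * b)
    calc 2 * (d * b) + 2 * b + 2 * (d * b) = (d * b + d * b + d * b + d * b) + 2 * b := by noncomm_ring
      _ = 2 * b := by rw [this, zero_add]
  have s4 : s * (2 * b) = 2 * b := by
    calc s * (2 * b) = (s ^ 5 * s) * (2 * b) := by rw [hs5, one_mul]
      _ = s ^ 3 * (s ^ 3 * (2 * b)) := by noncomm_ring
      _ = 2 * b := by rw [s3, s3]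
  have hb0 : 2 * b = 0 := by
    rw [← bdb, show 2 * (b * d * b) = b * (2 * (d * b)) by noncomm_ring, ← s1, s4,
      show b * (2 * b) = 2 * (b * b) by noncomm_ring, bb,
      show 2 * (2 * b) = b + b + b + b by noncomm_ring, four]
  -- the elements fixed mod two form a normal subgroup
  let H : Subgroup A5 :=
    { carrier := {g | 2 * ρ g = 2}
      one_mem' := by simp
      mul_mem' := fun {g h} hg hh => by
        show 2 * ρ (g * h) = 2
        rw [map_mul, ← mul_assoc, hg]; exact hh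
      inv_mem' := fun {g} hg => by
        show 2 * ρ g⁻¹ = 2
        conv_lhs => rw [← (show 2 * ρ g = 2 from hg)]
        rw [mul_assoc, g1 (mul_inv_cancel g), mul_one] }
  haveI : H.Normal := ⟨fun g hg k => by
    show 2 * ρ (k * g * k⁻¹) = 2
    have h2 : ∀ y : R, 2 * y = y * 2 := fun y => by noncomm_ring
    rw [map_mul, map_mul, ← mul_assoc, ← mul_assoc, h2, mul_assoc (ρ k), (show 2 * ρ g = 2 from hg),
      ← h2, mul_assoc, g1 (mul_inv_cancel k), mul_one]⟩
  haveI : IsSimpleGroup A5 := alternatingGroup.isSimpleGroup (α := Fin 5) (by simp)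
  have hU : aU ∈ H := by
    show 2 * ρ aU = 2
    rw [hb, mul_sub, mul_one] at hb0
    rw [← hu]; exact sub_eq_zero.mp hb0
  rcases Subgroup.Normal.eq_bot_or_eq_top (inferInstance : H.Normal) with h | h
  · rw [h, Subgroup.mem_bot] at hU; exact absurd hU (by decide)
  · have hxx : 2 * x = 2 := hx ▸ (show aX ∈ H from h ▸ Subgroup.mem_top _)
    have e : 2 * (1 + x + x * x) = 2 + 2 + 2 := by
      rw [mul_add, mul_add, mul_one, ← mul_assoc, hxx, hxx]
    rw [hx, hz aX (three_of_cube (by decide) (by decide)), mul_zero, show (2 : R) + 2 = 4 by norm_num, h4,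
      zero_add] at e
    exact e.symm

end Cfsg.Agent.OddChar.SelfThree
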