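import Cfsg.Agent.Core.Cores
import Cfsg.Agent.Core.PiSeparable
import Cfsg.Agent.Core.CoprimeAction
import Cfsg.Agent.Core.PiNumber

/-!
A Sylow subgroup normalising another one, from class sizes.
-/

set_option autoImplicit false
set_option linter.unusedSectionVars false

namespace Cfsg.Agent.OddChar

variable {G : Type*} [Group G] [Finite G] {p q : ℕ} [hp : Fact p.Prime] [hq : Fact q.Prime]

theorem relIndex_sup_normal (H K : Subgroup G) [K.Normal] : H.relIndex (H ⊔ K) = H.relIndex K := by
  have h1 := Core.card_mul_relIndex (H := H) (K := H ⊔ K) le_sup_left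
  have h2 := Core.card_mul_relIndex (H := H ⊓ K) (K := K) inf_le_right
  have h3 := Core.card_sup_mul_card_inf H K
  rw [Subgroup.inf_relIndex_right] at h2
  rw [← h1, ← h2] at h3
  have h4 : Nat.card H * (Nat.card ↥(H ⊓ K) * H.relIndex (H ⊔ K)) =
      Nat.card H * (Nat.card ↥(H ⊓ K) * H.relIndex K) := by
    rw [← h3]; ring
  exact Nat.eq_of_mul_eq_mul_left Nat.card_pos (Nat.eq_of_mul_eq_mul_left Nat.card_pos h4)

/-- Every element of `q`-power order has class size prime to `p`. -/
def QClassPrime (p q : ℕ) (G : Type*) [Group G] : Prop :=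
  ∀ y : G, (∃ k : ℕ, orderOf y = q ^ k) → ¬ p ∣ (Subgroup.centralizer ({y} : Set G)).index

theorem qClassPrime_quotient (h : QClassPrime p q G) (N : Subgroup G) [N.Normal] :
    QClassPrime p q (G ⧸ N) := by
  intro z hz hdvd
  obtain ⟨k, hk⟩ := hz
  obtain ⟨T, hT⟩ := (IsPGroup.of_card (n := k) (by rw [Nat.card_zpowers, hk]) :
    IsPGroup q (Subgroup.zpowers z)).exists_le_sylow
  obtain ⟨Q, rfl⟩ := Sylow.mapSurjective_surjective (QuotientGroup.mk'_surjective N) q T
  obtain ⟨y, hy, hyz⟩ := hT (Subgroup.mem_zpowers z)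
  obtain ⟨j, hj⟩ := Q.isPGroup'.exists_orderOf_eq_pow ⟨y, hy⟩
  rw [Subgroup.orderOf_mk] at hj
  refine h y ⟨j, hj⟩ (hdvd.trans ((Subgroup.index_dvd_of_le ?_).trans
    ((Subgroup.centralizer ({y} : Set G)).index_map_dvd (QuotientGroup.mk'_surjective N))))
  rintro _ ⟨c, hc, rfl⟩
  rw [Subgroup.mem_centralizer_singleton_iff, ← hyz, ← map_mul, ← map_mul]
  exact congrArg _ (Subgroup.mem_centralizer_singleton_iff.mp hc)

/-- In a `p`-separable group the `q`-elements lie in the `p'`-core. -/
theorem not_dvd_index_pPrimeCore (hpq : p ≠ q) (hsolv : Cfsg.IsPSolvable p G) (h : QClassPrime p q G) :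
    ¬ q ∣ (Cfsg.pPrimeCore p G).index := by
  set K := Cfsg.pPrimeCore p G
  intro hdvd
  have hHH := Core.centralizer_pCore_le (Core.isPSolvable_quotient hsolv K)
    (Core.pPrimeCore_quotient_pPrimeCore p G)
  have h' := qClassPrime_quotient h K
  rw [Subgroup.index_eq_card] at hdvd
  obtain ⟨z, hz⟩ := exists_prime_orderOf_dvd_card' (G := G ⧸ K) q hdvd
  have hzc : z ∈ Subgroup.centralizer (Cfsg.pCore p (G ⧸ K) : Set (G ⧸ K)) := by
    set C := Subgroup.centralizer ({z} : Set (G ⧸ K))
    have hnd := h' z ⟨1, by rw [hz, pow_one]⟩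
    obtain ⟨S⟩ : Nonempty (Sylow p C) := inferInstance
    have hS : ¬ p ∣ ((S : Subgroup C).map C.subtype).index := by
      rw [Subgroup.index_map_subtype]
      intro hd
      rcases hp.out.dvd_mul.mp hd with h1 | h1
      · exact S.not_dvd_index h1
      · exact hnd h1
    have hle := Core.pCore_le_sylow ((S.isPGroup'.map C.subtype).toSylow hS)
    rw [Subgroup.mem_centralizer_iff]
    intro r hr
    obtain ⟨s, -, rfl⟩ := hle hr
    exact Subgroup.mem_centralizer_singleton_iff.mp s.2
  obtain ⟨j, hj⟩ := (Core.isPGroup_pCore p (G ⧸ K)).exists_orderOf_eq_pow ⟨z, hHH hzc⟩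
  rw [Subgroup.orderOf_mk, hz] at hj
  rcases j with - | j
  · exact hq.out.one_lt.ne' (by simpa using hj)
  · exact hpq (((Nat.prime_dvd_prime_iff_eq hp.out hq.out).mp (hj ▸ dvd_pow_self p j.succ_ne_zero)))

/-- Descent through a normal `q'`-subgroup. -/
theorem normalizes_of_qprime (h : QClassPrime p q G) (N : Subgroup G) [N.Normal]
    (hN : (Nat.card N).Coprime q) (Q : Sylow q G)
    (hM : ¬ p ∣ (Subgroup.normalizer ((((Q : Subgroup G) ⊔ N : Subgroup G)) : Set G)).index) :
    ¬ p ∣ (Subgroup.normalizer ((Q : Subgroup G) : Set G)).index := by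
  set X := (Q : Subgroup G) ⊔ N with hX
  set M := Subgroup.normalizer (X : Set G) with hMdef
  set U := Subgroup.normalizer ((Q : Subgroup G) : Set G) with hU
  have hcop : (Nat.card (Q : Subgroup G)).Coprime (Nat.card N) := by
    obtain ⟨k, hk⟩ := IsPGroup.iff_card.mp Q.isPGroup'
    rw [hk]
    exact Nat.Coprime.pow_left _ hN.symm
  haveI : Group.IsNilpotent (Q : Subgroup G) := Q.isPGroup'.isNilpotent
  have hQN : (Q : Subgroup G) ≤ Subgroup.normalizer (N : Set G) := fun x _ => by
    rw [Subgroup.normalizer_eq_top]; trivial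
  obtain ⟨P₀, hP₀N, hP₀, hP₀i, hP₀Q⟩ :=
    Core.exists_invariant_sylow hQN (Or.inl inferInstance) hcop p
  -- the invariant Sylow subgroup centralises `Q`
  have hfix : P₀ ≤ U := by
    intro r hr
    rw [hU, Subgroup.mem_normalizer_iff]
    have hcomm : ∀ y ∈ (Q : Subgroup G), r * y = y * r := by
      intro y hy
      set A := Subgroup.zpowers y
      have hAQ : A ≤ (Q : Subgroup G) := Subgroup.zpowers_le.mpr hy
      set D := N ⊓ Subgroup.centralizer ({y} : Set G) with hD
      obtain ⟨S⟩ : Nonempty (Sylow p D) := inferInstance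
      set P₁ := (S : Subgroup D).map D.subtype
      have hP₁D : P₁ ≤ D := Subgroup.map_subtype_le _
      obtain ⟨k, hk⟩ := Q.isPGroup'.exists_orderOf_eq_pow ⟨y, hy⟩
      rw [Subgroup.orderOf_mk] at hk
      have hDi : ¬ p ∣ D.relIndex N := by
        rw [hD, Subgroup.inf_relIndex_left]
        intro hd
        rw [← relIndex_sup_normal] at hd
        exact h y ⟨k, hk⟩ (hd.trans (Subgroup.relIndex_dvd_index_of_le le_sup_left))
      have hP₁i : ¬ p ∣ P₁.relIndex N := by
        rw [← Subgroup.relIndex_mul_relIndex P₁ D N hP₁D inf_le_left]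
        intro hd
        rcases hp.out.dvd_mul.mp hd with h1 | h1
        · rw [Subgroup.relIndex, show P₁.subgroupOf D = (S : Subgroup D) from
            Subgroup.comap_map_eq_self_of_injective D.subtype_injective _] at h1
          exact S.not_dvd_index h1
        · exact hDi h1
      haveI : Group.IsSolvable A := by
        haveI : IsMulCommutative A := inferInstance
        exact Group.isSolvable_of_comm fun a b => mul_comm' a b
      obtain ⟨c, hc, hcP⟩ := Core.exists_conj_invariant_sylow (hAQ.trans hQN) (Or.inl inferInstance)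
        (hcop.coprime_dvd_left (Subgroup.card_dvd_of_le hAQ)) (P := P₁) (Q := P₀)
        (hP₁D.trans inf_le_left) hP₀N (S.isPGroup'.map _) hP₀ hP₁i hP₀i
        (fun a ha => by
          obtain ⟨i, rfl⟩ := Subgroup.mem_zpowers_iff.mp ha
          rw [Subgroup.mem_normalizer_iff]
          intro w
          have hcy : ∀ v ∈ P₁, y ^ i * v * (y ^ i)⁻¹ = v := fun v hv => by
            have hv' : Commute v y := Subgroup.mem_centralizer_singleton_iff.mp (hP₁D hv).2
            rw [(hv'.zpow_right i).symm.eq, mul_inv_cancel_right]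
          refine ⟨fun hw => by rw [hcy w hw]; exact hw, fun hw => ?_⟩
          have h1 := hcy _ hw
          have h2 : y ^ i * w * (y ^ i)⁻¹ = w := by
            have h3 : y ^ i * (y ^ i * w * (y ^ i)⁻¹) = y ^ i * w := by
              calc y ^ i * (y ^ i * w * (y ^ i)⁻¹)
                  = y ^ i * (y ^ i * w * (y ^ i)⁻¹) * (y ^ i)⁻¹ * y ^ i := by group
                _ = y ^ i * w := by rw [h1]; group
            exact mul_left_cancel h3
          rwa [h2] at hw)
        (hAQ.trans hP₀Q)
      rw [← hcP] at hr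
      obtain ⟨v, hv, rfl⟩ := hr
      have hv' : Commute v y := Subgroup.mem_centralizer_singleton_iff.mp (hP₁D hv).2
      have hc' : Commute c y :=
        ((Subgroup.mem_centralizer_iff.mp hc.2) y (Subgroup.mem_zpowers y)).symm
      exact (((hc'.mul_left hv').mul_left hc'.inv_left)).eq
    intro w
    refine ⟨fun hw => by rw [hcomm w hw, mul_inv_cancel_right]; exact hw, fun hw => ?_⟩
    have h1 : r * (r * w * r⁻¹) = r * w := (hcomm _ hw).trans (inv_mul_cancel_right _ _)
    rwa [mul_left_cancel h1] at hw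
  -- Frattini
  have hfrat : M ≤ (U ⊓ M) ⊔ N := by
    intro x hx
    have hQX : (Q : Subgroup G) ≤ X := le_sup_left
    have hQxX : (Q : Subgroup G).map (MulAut.conj x).toMonoidHom ≤ X := by
      rintro _ ⟨a, ha, rfl⟩
      exact (Subgroup.mem_normalizer_iff.mp hx a).mp (hQX ha)
    have hQi : ¬ q ∣ (Q : Subgroup G).relIndex X := fun hd =>
      Q.not_dvd_index (hd.trans (Subgroup.relIndex_dvd_index_of_le hQX))
    have hQxi : ¬ q ∣ ((Q : Subgroup G).map (MulAut.conj x).toMonoidHom).relIndex X := fun hd =>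
      Q.not_dvd_index (hd.trans ((Subgroup.relIndex_dvd_index_of_le hQxX).trans
        ((Q : Subgroup G).index_map_dvd (MulAut.conj x).surjective)))
    obtain ⟨w, hw, hwQ⟩ := Coprime.exists_conj_of_sylow (Q.isPGroup'.map _) Q.isPGroup' hQxX hQX hQxi hQi
    obtain ⟨a, ha, n, hn, rfl⟩ := Subgroup.mem_sup_of_normal_right.mp hw
    have hU' : a * n * x ∈ U := by
      rw [hU, Subgroup.mem_normalizer_iff_map_conj_eq]
      refine Eq.trans ?_ hwQ
      rw [Subgroup.map_map]
      congr 1
      ext z
      simp [mul_assoc]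
    have hnx : n * x ∈ U := by
      have := U.mul_mem (U.inv_mem (Subgroup.le_normalizer ha)) hU'
      simpa [mul_assoc] using this
    have hnM : n ∈ M := Subgroup.le_normalizer ((le_sup_right : N ≤ X) hn)
    rw [show x = n⁻¹ * (n * x) by group, sup_comm]
    exact Subgroup.mul_mem_sup (N.inv_mem hn) ⟨hnx, M.mul_mem hnM hx⟩
  intro hd
  have hNM : N ≤ M := (le_sup_right : N ≤ X).trans Subgroup.le_normalizer
  have h1 : p ∣ (U ⊓ M).index := hd.trans (Subgroup.index_dvd_of_le inf_le_left)
  rw [← Subgroup.relIndex_mul_index (inf_le_right : U ⊓ M ≤ M)] at h1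
  rcases hp.out.dvd_mul.mp h1 with h2 | h2
  · have heq : (U ⊓ M) ⊔ N = M := le_antisymm (sup_le inf_le_right hNM) hfrat
    set W := U ⊓ M
    have h3 : W.relIndex M ∣ P₀.relIndex N := by
      rw [← heq, relIndex_sup_normal]
      rw [← Subgroup.relIndex_mul_relIndex P₀ (W ⊓ N) N (le_inf (le_inf hfix (hP₀N.trans hNM)) hP₀N)
        inf_le_right, Subgroup.inf_relIndex_right]
      exact dvd_mul_left _ _
    exact hP₀i (h2.trans h3)
  · exact hM h2

theorem exists_le_normalizer_of_not_dvd {U : Subgroup G} (h : ¬ p ∣ U.index) :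
    ∃ P : Sylow p G, (P : Subgroup G) ≤ U := by
  obtain ⟨S⟩ : Nonempty (Sylow p U) := inferInstance
  have hS : ¬ p ∣ ((S : Subgroup U).map U.subtype).index := by
    rw [Subgroup.index_map_subtype]
    intro hd
    rcases hp.out.dvd_mul.mp hd with h1 | h1
    · exact S.not_dvd_index h1
    · exact h h1
  exact ⟨(S.isPGroup'.map U.subtype).toSylow hS, Subgroup.map_subtype_le _⟩

theorem not_dvd_of_le {U : Subgroup G} {P : Sylow p G} (h : (P : Subgroup G) ≤ U) : ¬ p ∣ U.index :=
  fun hd => P.not_dvd_index (hd.trans (Subgroup.index_dvd_of_le h))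

omit [Finite G] in
theorem qsep_induction {p q : ℕ} [Fact p.Prime] [Fact q.Prime] (n : ℕ) :
    ∀ (G : Type*) [Group G] [Finite G], Nat.card G = n → Core.IsPiSeparable {q} G →
      QClassPrime p q G → ∃ Q : Sylow q G,
        ¬ p ∣ (Subgroup.normalizer ((Q : Subgroup G) : Set G)).index := by
  induction n using Nat.strong_induction_on with
  | _ n ih =>
    intro G _ _ hn hsep hcl
    haveI : Fact p.Prime := inferInstance
    rcases subsingleton_or_nontrivial G with hG | hG
    · obtain ⟨Q⟩ : Nonempty (Sylow q G) := inferInstance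
      refine ⟨Q, fun hd => ?_⟩
      have : (Subgroup.normalizer ((Q : Subgroup G) : Set G)) = ⊤ := Subsingleton.elim _ _
      rw [this, Subgroup.index_top] at hd
      exact (Fact.out : p.Prime).not_dvd_one hd
    have hstep : ∀ N : Subgroup G, N.Normal → N ≠ ⊥ → (IsPGroup q N ∨ (Nat.card N).Coprime q) →
        ∃ Q : Sylow q G, ¬ p ∣ (Subgroup.normalizer ((Q : Subgroup G) : Set G)).index := by
      intro N hN hN1 hcase
      set π := QuotientGroup.mk' N
      have hπ : Function.Surjective π := QuotientGroup.mk'_surjective N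
      have hlt : Nat.card (G ⧸ N) < n := by
        rw [← hn, Subgroup.card_eq_card_quotient_mul_card_subgroup N]
        exact lt_mul_of_one_lt_right Nat.card_pos ((Subgroup.one_lt_card_iff_ne_bot N).mpr hN1)
      obtain ⟨Qb, hQb⟩ := ih _ hlt (G ⧸ N) rfl (hsep.quotient N) (qClassPrime_quotient hcl N)
      obtain ⟨Q, rfl⟩ := Sylow.mapSurjective_surjective hπ q Qb
      refine ⟨Q, ?_⟩
      set X := (Q : Subgroup G) ⊔ N with hX
      have hXc : ((Q : Subgroup G).map π).comap π = X := by
        rw [Subgroup.comap_map_eq, QuotientGroup.ker_mk']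
      have hidx : ¬ p ∣ (Subgroup.normalizer (X : Set G)).index := by
        intro hd
        apply hQb
        rw [Sylow.coe_mapSurjective, ← (Subgroup.normalizer _).index_comap_of_surjective hπ,
          Subgroup.comap_normalizer_eq_of_surjective _ hπ, hXc]
        exact hd
      rcases hcase with h1 | h1
      · have hXQ : X = (Q : Subgroup G) := by
          have hle : N ≤ (Q : Subgroup G) := (Core.le_pCore hN h1).trans (Core.pCore_le_sylow Q)
          rw [hX, sup_of_le_left hle]
        rwa [hXQ] at hidx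
      · exact normalizes_of_qprime hcl N h1 Q hidx
    rcases Core.piCore_ne_bot_or hsep with h1 | h1
    · rw [← Core.pCore_eq_piCore q G] at h1
      exact hstep _ inferInstance h1 (Or.inl (Core.isPGroup_pCore q G))
    · rw [← Core.pPrimeCore_eq_piCore q G] at h1
      exact hstep _ inferInstance h1 (Or.inr (Core.card_pPrimeCore_coprime q G))

end Cfsg.Agent.OddChar
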