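import Mathlib.GroupTheory.Perm.Fin
import Mathlib.Algebra.Group.MinimalAxioms
import Mathlib.Data.Fintype.Prod

/-!
The semidirect product of the plane over three elements by the signed permutations, its action on
six points and its outer automorphism.
-/

set_option autoImplicit false

namespace Cfsg.Agent.OddChar.Wreath72

/-- A vector of the plane over three elements. -/
abbrev V : Type := Fin 3 × Fin 3

/-- A signed permutation of the two coordinates. -/
structure S where
  w : Bool
  u : Bool
  v : Bool
deriving DecidableEq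

/-- A signed permutation as a triple. -/
def equivS : S ≃ Bool × Bool × Bool :=
  ⟨fun s => (s.w, s.u, s.v), fun p => ⟨p.1, p.2.1, p.2.2⟩, fun _ => rfl, fun _ => rfl⟩

instance : Fintype S := Fintype.ofEquiv _ equivS.symm

/-- The sign. -/
def sg (b : Bool) (a : Fin 3) : Fin 3 := if b then -a else a

/-- The linear action. -/
def S.act (s : S) (p : V) : V := (sg s.u (if s.w then p.2 else p.1), sg s.v (if s.w then p.1 else p.2))

/-- Composition. -/
def S.mul (s t : S) : S :=
  ⟨xor s.w t.w, xor s.u (if s.w then t.v else t.u), xor s.v (if s.w then t.u else t.v)⟩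

/-- The inverse. -/
def S.inv (s : S) : S := ⟨s.w, if s.w then s.v else s.u, if s.w then s.u else s.v⟩

theorem S.mul_assoc' : ∀ a b c : S, (a.mul b).mul c = a.mul (b.mul c) := by decide +kernel
theorem S.inv_mul' : ∀ a : S, a.inv.mul a = ⟨false, false, false⟩ := by decide +kernel
theorem S.one_mul' : ∀ a : S, S.mul ⟨false, false, false⟩ a = a := by decide +kernel
theorem S.act_add : ∀ (a : S) (p q : V), a.act (p + q) = a.act p + a.act q := by decide +kernel
theorem S.act_mul : ∀ (a b : S) (p : V), (a.mul b).act p = a.act (b.act p) := by decide +kernel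

/-- The semidirect product of order seventy-two. -/
structure W where
  t : V
  s : S
deriving DecidableEq

/-- An element as a pair. -/
def equivW : W ≃ V × S := ⟨fun g => (g.t, g.s), fun p => ⟨p.1, p.2⟩, fun _ => rfl, fun _ => rfl⟩

instance : Fintype W := Fintype.ofEquiv _ equivW.symm
instance : One W := ⟨⟨(0, 0), ⟨false, false, false⟩⟩⟩
instance : Mul W := ⟨fun g h => ⟨g.t + g.s.act h.t, g.s.mul h.s⟩⟩
instance : Inv W := ⟨fun g => ⟨-(g.s.inv.act g.t), g.s.inv⟩⟩

theorem W.inv_mul' : ∀ g : W, g⁻¹ * g = 1 := by decide +kernel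
theorem W.one_mul' : ∀ g : W, 1 * g = g := by decide +kernel

theorem W.mul_assoc' (a b c : W) : a * b * c = a * (b * c) := by
  show (⟨_, _⟩ : W) = ⟨_, _⟩
  congr 1
  · show a.t + a.s.act b.t + (a.s.mul b.s).act c.t = a.t + a.s.act (b.t + b.s.act c.t)
    rw [S.act_mul, S.act_add, add_assoc]
  · exact S.mul_assoc' _ _ _

instance : Group W := Group.ofLeftAxioms W.mul_assoc' W.one_mul' W.inv_mul'

theorem card_W : Fintype.card W = 72 := by decide +kernel

/-- The block of a point. -/
def blk (i : Fin 6) : Bool := decide ((i : ℕ) < 3)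

/-- The image of a point. -/
def ptFun (g : W) (i : Fin 6) : Fin 6 :=
  let k : Bool := xor (decide (3 ≤ (i : ℕ))) g.s.w
  let c : Fin 3 := ⟨(i : ℕ) % 3, Nat.mod_lt _ (by norm_num)⟩
  if k then Fin.natAdd 3 (g.t.2 + sg g.s.v c) else Fin.castAdd 3 (g.t.1 + sg g.s.u c)

theorem ptFun_inv : ∀ g : W, ∀ i, ptFun g⁻¹ (ptFun g i) = i ∧ ptFun g (ptFun g⁻¹ i) = i := by
  decide +kernel

theorem ptFun_mul : ∀ g h : W, ∀ i, ptFun (g * h) i = ptFun g (ptFun h i) := by decide +kernel

theorem ptFun_blk : ∀ g : W, ∀ i j, blk i = blk j ↔ blk (ptFun g i) = blk (ptFun g j) := by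
  decide +kernel

theorem ptFun_faithful : ∀ g : W, (∀ i, ptFun g i = i) → g = 1 := by decide +kernel

/-- The action on six points. -/
def toPerm : W →* Equiv.Perm (Fin 6) :=
  MonoidHom.mk' (fun g => ⟨ptFun g, ptFun g⁻¹, fun i => (ptFun_inv g i).1, fun i => (ptFun_inv g i).2⟩)
    fun g h => Equiv.ext (ptFun_mul g h)

/-- The permutations respecting the two blocks. -/
def K : Subgroup (Equiv.Perm (Fin 6)) where
  carrier := {σ | ∀ i j, blk i = blk j ↔ blk (σ i) = blk (σ j)}
  one_mem' := fun _ _ => Iff.rfl
  mul_mem' := fun {a b} ha hb i j => (hb i j).trans (ha (b i) (b j))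
  inv_mem' := fun {a} ha i j => by
    have := ha (a⁻¹ i) (a⁻¹ j)
    simpa using this.symm

instance : DecidablePred (· ∈ K) := fun σ =>
  decidable_of_iff (∀ i j, blk i = blk j ↔ blk (σ i) = blk (σ j)) Iff.rfl

theorem card_K : Fintype.card K = 72 := by decide +kernel

/-- The group as the permutations respecting two blocks. -/
noncomputable def equivK : W ≃* K :=
  MulEquiv.ofBijective (toPerm.codRestrict K fun g => ptFun_blk g) (by
    refine (Fintype.bijective_iff_injective_and_card _).mpr ⟨?_, by rw [card_W, card_K]⟩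
    rw [injective_iff_map_eq_one]
    exact fun g hg => ptFun_faithful g fun i =>
      congrFun (congrArg (fun σ : K => (σ.1 : Fin 6 → Fin 6)) hg) i)

/-- The change of axes. -/
def rot (p : V) : V := (p.1 + p.2, p.1 - p.2)

/-- The image of an element under the change of axes. -/
def outerFun (g : W) : W :=
  let e1 : V := -(rot (g.s.act (rot (1, 0))))
  let e2 : V := -(rot (g.s.act (rot (0, 1))))
  ⟨rot g.t, ⟨decide (e1.1 = 0), decide ((e1.1 + e2.1) = 2), decide ((e1.2 + e2.2) = 2)⟩⟩

theorem outerFun_mul : ∀ g h : W, outerFun (g * h) = outerFun g * outerFun h := by decide +kernel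

/-- The outer automorphism. -/
def outer : W →* W := MonoidHom.mk' outerFun outerFun_mul

theorem outer_bij : Function.Bijective outer := by
  refine (Fintype.bijective_iff_injective_and_card _).mpr ⟨?_, rfl⟩
  rw [injective_iff_map_eq_one]
  decide +kernel

end Cfsg.Agent.OddChar.Wreath72
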