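import Mathlib.Tactic.FieldSimp
import Mathlib.Tactic.LinearCombination
import Mathlib.Tactic.Ring
import Mathlib.Data.ZMod.Basic
import Mathlib.Tactic.Linarith
import Mathlib.Tactic.IntervalCases
import Mathlib.Algebra.Order.Ring.Rat
import Mathlib.Data.Rat.Lemmas
import Mathlib.Data.Rat.Cast.Order
import Mathlib.Algebra.Order.Field.Basic

/-!
Quadratic forms on four constituents of a generalised character of degree zero, and the arithmetic
deciding the configuration of order seventy-two.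
-/

set_option autoImplicit false

namespace Cfsg.Agent.OddChar.Wreath72

variable {F : Type*} [Field F]

/-- The form `Σ x y / D` on four constituents. -/
def form4 (D x y : Fin 4 → F) : F :=
  x 0 * y 0 / D 0 + x 1 * y 1 / D 1 + x 2 * y 2 / D 2 + x 3 * y 3 / D 3

/-- The pairing of four weights with four values. -/
def dot4 (f x : Fin 4 → F) : F := f 0 * x 0 + f 1 * x 1 + f 2 * x 2 + f 3 * x 3

/-- The minor on the coordinates `0`, `1`, `3`. -/
def minor4 (D x y : Fin 4 → F) : F :=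
  D 0 * (x 1 * y 3 - x 3 * y 1) - D 1 * (x 0 * y 3 - x 3 * y 0) + D 3 * (x 0 * y 1 - x 1 * y 0)

theorem form4_det {D x y : Fin 4 → F} (hD : ∀ j, D j ≠ 0)
    (sD : D 0 + D 1 + D 2 + D 3 = 0) (sx : x 0 + x 1 + x 2 + x 3 = 0)
    (sy : y 0 + y 1 + y 2 + y 3 = 0) :
    (form4 D x x * form4 D y y - form4 D x y ^ 2) * (D 0 * D 1 * D 2 * D 3) =
      -(minor4 D x y) ^ 2 := by
  have h0 := hD 0; have h1 := hD 1; have h2 := hD 2; have h3 := hD 3
  have ex : x 2 = -(x 0 + x 1 + x 3) := by linear_combination sx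
  have ey : y 2 = -(y 0 + y 1 + y 3) := by linear_combination sy
  have eD : D 2 = -(D 0 + D 1 + D 3) := by linear_combination sD
  simp only [form4, minor4, ex, ey]
  field_simp
  rw [eD]
  ring

theorem form4_dual {D x y f h : Fin 4 → F} (hD : ∀ j, D j ≠ 0)
    (sD : D 0 + D 1 + D 2 + D 3 = 0) (sx : x 0 + x 1 + x 2 + x 3 = 0)
    (sy : y 0 + y 1 + y 2 + y 3 = 0) (hf : dot4 f D = 0) (hh : dot4 h D = 0) :
    form4 D y y * (dot4 f x * dot4 h x) -
        form4 D x y * (dot4 f x * dot4 h y + dot4 f y * dot4 h x) +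
        form4 D x x * (dot4 f y * dot4 h y) =
      (form4 D x x * form4 D y y - form4 D x y ^ 2) *
        (f 0 * h 0 * D 0 + f 1 * h 1 * D 1 + f 2 * h 2 * D 2 + f 3 * h 3 * D 3) := by
  have h0 := hD 0; have h1 := hD 1; have h2 := hD 2; have h3 := hD 3
  have ex : x 3 = -(x 0 + x 1 + x 2) := by linear_combination sx
  have ey : y 3 = -(y 0 + y 1 + y 2) := by linear_combination sy
  have eD : D 3 = -(D 0 + D 1 + D 2) := by linear_combination sD
  simp only [dot4] at hf hh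
  have ef : f 3 = -(f 0 * D 0 + f 1 * D 1 + f 2 * D 2) / D 3 := by
    field_simp; linear_combination hf
  have eh : h 3 = -(h 0 * D 0 + h 1 * D 1 + h 2 * D 2) / D 3 := by
    field_simp; linear_combination hh
  simp only [form4, dot4, ex, ey, ef, eh]
  field_simp
  rw [eD]
  ring


set_option synthInstance.maxSize 2000 in
theorem zmod27_facts : ∀ T b c : ZMod 27, T.val % 9 = 2 → b.val % 9 = 1 → c.val % 9 = 1 →
    (((1 + T) * (b + T) ≠ b) ∧ (9 * ((1 + T) * (b + T)) ≠ 17 * b) ∧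
      (25 * ((1 + T) * (b + T)) ≠ 33 * b) ∧ (49 * ((1 + T) * (b + T)) ≠ 5049 * b)) ∧
    ((b + T) * (c + T) ≠ b * c) ∧ (9 * ((b + T) * (c + T)) ≠ 17 * (b * c)) := by decide +kernel

/-- The congruences exclude the other proportions. -/
theorem excluded {T b c : ℤ} (hT : T % 9 = 2) (hb : b % 9 = 1) (hc : c % 9 = 1) :
    (((1 + T) * (b + T) ≠ b) ∧ (9 * ((1 + T) * (b + T)) ≠ 17 * b) ∧
      (25 * ((1 + T) * (b + T)) ≠ 33 * b) ∧ (49 * ((1 + T) * (b + T)) ≠ 5049 * b)) ∧
    ((b + T) * (c + T) ≠ b * c) ∧ (9 * ((b + T) * (c + T)) ≠ 17 * (b * c)) := by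
  have key : ∀ a : ℤ, ((a : ZMod 27)).val % 9 = (a % 9).toNat := by
    intro a
    have h := ZMod.val_intCast (n := 27) a
    omega
  obtain ⟨⟨h1, h2, h3, h4⟩, h5, h6⟩ := zmod27_facts (T : ZMod 27) (b : ZMod 27) (c : ZMod 27)
    (by rw [key, hT]; rfl) (by rw [key, hb]; rfl) (by rw [key, hc]; rfl)
  refine ⟨⟨?_, ?_, ?_, ?_⟩, ?_, ?_⟩ <;> intro h <;>
    have hh := congrArg (fun a : ℤ => (a : ZMod 27)) h <;>
    push_cast at hh
  exacts [h1 hh, h2 hh, h3 hh, h4 hh, h5 hh, h6 hh]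

/-- The squared cosine of two functionals, cleared of common factors. -/
theorem proportion {N₁ N₂ X : ℤ} {G n₁ n₂ x : ℚ} {D K : ℤ} (h1 : G * n₁ = N₁) (h2 : G * n₂ = N₂)
    (h3 : G * x = X) (hid : (D : ℚ) * (n₁ * n₂) = K * x ^ 2) : D * (N₁ * N₂) = K * X ^ 2 := by
  have h : ((D * (N₁ * N₂) : ℤ) : ℚ) = ((K * X ^ 2 : ℤ) : ℚ) := by
    push_cast
    rw [← h1, ← h2, ← h3]
    linear_combination G ^ 2 * hid
  exact_mod_cast h

/-- The proportion in the second row, cancelled. -/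
theorem cancel_second {T b D K : ℤ} (hT : T ≠ 0) (hb : b ≠ 0)
    (h : D * (T * (1 + T) * (b * T * (b + T))) = K * (-(b * T)) ^ 2) :
    D * ((1 + T) * (b + T)) = K * b := by
  refine mul_left_cancel₀ (mul_ne_zero (mul_ne_zero hb hT) hT) ?_
  linear_combination h

/-- The proportion in the third row, cancelled. -/
theorem cancel_third {T b c D K : ℤ} (hT : T ≠ 0) (hb : b ≠ 0) (hc : c ≠ 0)
    (h : D * (b * T * (b + T) * (c * T * (c + T))) = K * (-(b * c * T)) ^ 2) :
    D * ((b + T) * (c + T)) = K * (b * c) := by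
  refine mul_left_cancel₀ (mul_ne_zero (mul_ne_zero (mul_ne_zero hb hc) hT) hT) ?_
  linear_combination h

/-- The last equation. -/
theorem final_c {T b c : ℤ} (hT : T % 9 = 2) (hb : b % 9 = 1)
    (h1 : (1 + T) * (b + T) = 9 * b) (h2 : (b + T) * (c + T) = 9 * (b * c)) : c = 1 := by
  have hbT : b + T ≠ 0 := by omega
  have hT0 : T ≠ 0 := by omega
  have h : (c + T) = c * (1 + T) := by
    refine mul_left_cancel₀ hbT ?_
    linear_combination h2 - c * h1
  have h' : T * (c - 1) = 0 := by linear_combination -h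
  rcases mul_eq_zero.mp h' with h0 | h0
  · exact absurd h0 hT0
  · omega

variable {T b c : ℤ} {G t s u v m k : ℚ}

/-- The case without fusion. -/
theorem arith_none (hG : G ≠ 0) (hT : T % 9 = 2) (hb : b % 9 = 1) (hc : c % 9 = 1)
    (a1 : G * (2 * t ^ 2 + s ^ 2) = (T * (1 + T) : ℤ))
    (a2 : G * (t ^ 2 + 2 * s ^ 2) = (T * (1 + T) : ℤ))
    (b2 : G * (u ^ 2 + 2 * v ^ 2) = (b * T * (b + T) : ℤ))
    (b3 : G * (2 * u ^ 2 + v ^ 2) = (b * T * (b + T) : ℤ))
    (c2 : G * (t * u + 2 * (s * v)) = (-(b * T) : ℤ))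
    (c3 : G * (2 * (u * m) + v * k) = (-(b * c * T) : ℤ))
    (d3 : G * (2 * m ^ 2 + k ^ 2) = (c * T * (c + T) : ℤ))
    (d4 : G * (m ^ 2 + 2 * k ^ 2) = (c * T * (c + T) : ℤ)) : c = 1 := by
  obtain ⟨⟨e1, -, -, -⟩, e5, -⟩ := excluded hT hb hc
  have hT0 : T ≠ 0 := by omega
  have hb0 : b ≠ 0 := by omega
  have hc0 : c ≠ 0 := by omega
  have hts : t ^ 2 = s ^ 2 := mul_left_cancel₀ hG (by linear_combination a1 - a2)
  have huv : u ^ 2 = v ^ 2 := mul_left_cancel₀ hG (by linear_combination b3 - b2)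
  have hmk : m ^ 2 = k ^ 2 := mul_left_cancel₀ hG (by linear_combination d3 - d4)
  refine final_c hT hb ?_ ?_
  · rcases sq_eq_sq_iff_eq_or_eq_neg.mp hts with rfl | rfl <;>
      rcases sq_eq_sq_iff_eq_or_eq_neg.mp huv with rfl | rfl
    · have h := cancel_second hT0 hb0 (proportion (D := 1) (K := 1) a2 b2 c2 (by push_cast; ring))
      rw [one_mul, one_mul] at h
      exact absurd h e1
    · have h := cancel_second hT0 hb0 (proportion (D := 1) (K := 9) a2 b2 c2 (by push_cast; ring))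
      rwa [one_mul] at h
    · have h := cancel_second hT0 hb0 (proportion (D := 1) (K := 9) a2 b2 c2 (by push_cast; ring))
      rwa [one_mul] at h
    · have h := cancel_second hT0 hb0 (proportion (D := 1) (K := 1) a2 b2 c2 (by push_cast; ring))
      rw [one_mul, one_mul] at h
      exact absurd h e1
  · rcases sq_eq_sq_iff_eq_or_eq_neg.mp huv with rfl | rfl <;>
      rcases sq_eq_sq_iff_eq_or_eq_neg.mp hmk with rfl | rfl
    · have h := cancel_third hT0 hb0 hc0 (proportion (D := 1) (K := 1) b3 d3 c3 (by push_cast; ring))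
      rw [one_mul, one_mul] at h
      exact absurd h e5
    · have h := cancel_third hT0 hb0 hc0 (proportion (D := 1) (K := 9) b3 d3 c3 (by push_cast; ring))
      rwa [one_mul] at h
    · have h := cancel_third hT0 hb0 hc0 (proportion (D := 1) (K := 9) b3 d3 c3 (by push_cast; ring))
      rwa [one_mul] at h
    · have h := cancel_third hT0 hb0 hc0 (proportion (D := 1) (K := 1) b3 d3 c3 (by push_cast; ring))
      rw [one_mul, one_mul] at h
      exact absurd h e5

/-- The case with the central inversion fused. -/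
theorem arith_fused (hG : G ≠ 0) (hT : T % 9 = 2) (hb : b % 9 = 1) (hc : c % 9 = 1)
    (a1 : G * ((t ^ 2 + 8 * s ^ 2) / 8) = (T * (1 + T) : ℤ))
    (a2 : G * (t ^ 2 - 6 * (t * s) + 11 * s ^ 2) = (T * (1 + T) : ℤ))
    (b2 : G * (u ^ 2 - 6 * (u * v) + 11 * v ^ 2) = (b * T * (b + T) : ℤ))
    (b3 : G * ((u ^ 2 + 2 * v ^ 2) / 2) = (b * T * (b + T) : ℤ))
    (c2 : G * (t * u - 3 * (t * v + s * u) + 11 * (s * v)) = (-(b * T) : ℤ))
    (c3 : G * ((u * m + 2 * (v * k)) / 2) = (-(b * c * T) : ℤ))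
    (d3 : G * ((m ^ 2 + 2 * k ^ 2) / 2) = (c * T * (c + T) : ℤ))
    (d4 : G * (m ^ 2 + 6 * (m * k) + 11 * k ^ 2) = (c * T * (c + T) : ℤ)) : c = 1 := by
  obtain ⟨⟨-, e2, e3, e4⟩, -, e6⟩ := excluded hT hb hc
  have hT0 : T ≠ 0 := by omega
  have hb0 : b ≠ 0 := by omega
  have hc0 : c ≠ 0 := by omega
  have hts : (t - 4 * s) * (7 * t - 20 * s) = 0 :=
    mul_left_cancel₀ hG (by linear_combination 8 * a2 - 8 * a1)
  have huv : (u - 2 * v) * (u - 10 * v) = 0 :=
    mul_left_cancel₀ hG (by linear_combination 2 * b2 - 2 * b3)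
  have hmk : (m + 2 * k) * (m + 10 * k) = 0 :=
    mul_left_cancel₀ hG (by linear_combination 2 * d4 - 2 * d3)
  rcases mul_eq_zero.mp hts with ht | ht <;> rcases mul_eq_zero.mp huv with hu | hu
  · obtain rfl : t = 4 * s := by linarith
    obtain rfl : u = 2 * v := by linarith
    have h2 := cancel_second hT0 hb0 (proportion (D := 1) (K := 9) a2 b2 c2 (by push_cast; ring))
    rw [one_mul] at h2
    refine final_c hT hb h2 ?_
    rcases mul_eq_zero.mp hmk with hm | hm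
    · obtain rfl : m = -2 * k := by linarith
      have h := cancel_third hT0 hb0 hc0
        (proportion (D := 1) (K := 9) b3 d3 c3 (by push_cast; ring))
      rwa [one_mul] at h
    · obtain rfl : m = -10 * k := by linarith
      exact absurd (cancel_third hT0 hb0 hc0
        (proportion (D := 9) (K := 17) b3 d3 c3 (by push_cast; ring))) e6
  · obtain rfl : t = 4 * s := by linarith
    obtain rfl : u = 10 * v := by linarith
    exact absurd (cancel_second hT0 hb0
      (proportion (D := 9) (K := 17) a2 b2 c2 (by push_cast; ring))) e2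
  · obtain rfl : t = 20 / 7 * s := by linarith
    obtain rfl : u = 2 * v := by linarith
    exact absurd (cancel_second hT0 hb0
      (proportion (D := 25) (K := 33) a2 b2 c2 (by push_cast; ring))) e3
  · obtain rfl : t = 20 / 7 * s := by linarith
    obtain rfl : u = 10 * v := by linarith
    exact absurd (cancel_second hT0 hb0
      (proportion (D := 49) (K := 5049) a2 b2 c2 (by push_cast; ring))) e4

/-- The dual form of a row in terms of its unit Gram matrix. -/
theorem row_dual {D x y f h : Fin 4 → ℚ} (hD : ∀ j, D j ≠ 0)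
    (sD : D 0 + D 1 + D 2 + D 3 = 0) (sx : x 0 + x 1 + x 2 + x 3 = 0)
    (sy : y 0 + y 1 + y 2 + y 3 = 0) (hf : dot4 f D = 0) (hh : dot4 h D = 0)
    {g X Y u₁₁ u₂₂ u₁₂ : ℚ} (hg : g ≠ 0) (hX : X ≠ 0) (hY : Y ≠ 0)
    (hxx : form4 D x x * (X * X) = g / 72 * u₁₁) (hyy : form4 D y y * (Y * Y) = g / 72 * u₂₂)
    (hxy : form4 D x y * (X * Y) = g / 72 * u₁₂) :
    u₂₂ * (dot4 f x * X * (dot4 h x * X)) -
        u₁₂ * (dot4 f x * X * (dot4 h y * Y) + dot4 f y * Y * (dot4 h x * X)) +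
        u₁₁ * (dot4 f y * Y * (dot4 h y * Y)) =
      g * ((u₁₁ * u₂₂ - u₁₂ ^ 2) / 72) *
        (f 0 * h 0 * D 0 + f 1 * h 1 * D 1 + f 2 * h 2 * D 2 + f 3 * h 3 * D 3) := by
  have key := form4_dual hD sD sx sy hf hh
  have e1 : u₁₁ = 72 * (form4 D x x * (X * X)) / g := by rw [hxx]; field_simp
  have e2 : u₂₂ = 72 * (form4 D y y * (Y * Y)) / g := by rw [hyy]; field_simp
  have e3 : u₁₂ = 72 * (form4 D x y * (X * Y)) / g := by rw [hxy]; field_simp
  rw [e1, e2, e3]
  field_simp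
  linear_combination key

/-- A product of four degrees times `-2` is a square. -/
theorem row_square {D x y : Fin 4 → ℤ} (hD : ∀ j, D j ≠ 0)
    (sD : D 0 + D 1 + D 2 + D 3 = 0) (sx : x 0 + x 1 + x 2 + x 3 = 0)
    (sy : y 0 + y 1 + y 2 + y 3 = 0) {g X Y u₁₁ u₂₂ u₁₂ s : ℚ} (hg : g ≠ 0) (hs : s ≠ 0)
    (hdet : u₁₁ * u₂₂ - u₁₂ ^ 2 = 2 * s ^ 2)
    (hxx : form4 (fun j => (D j : ℚ)) (fun j => x j) (fun j => x j) * (X * X) = g / 72 * u₁₁)
    (hyy : form4 (fun j => (D j : ℚ)) (fun j => y j) (fun j => y j) * (Y * Y) = g / 72 * u₂₂)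
    (hxy : form4 (fun j => (D j : ℚ)) (fun j => x j) (fun j => y j) * (X * Y) = g / 72 * u₁₂) :
    IsSquare ((-2) * (D 0 * D 1 * D 2 * D 3) : ℤ) := by
  have key := form4_det (D := fun j => (D j : ℚ)) (x := fun j => (x j : ℚ)) (y := fun j => (y j : ℚ))
    (fun j => Int.cast_ne_zero.mpr (hD j)) (by exact_mod_cast sD) (by exact_mod_cast sx)
    (by exact_mod_cast sy)
  set Δ := minor4 (fun j => (D j : ℚ)) (fun j => (x j : ℚ)) (fun j => (y j : ℚ))
  refine Rat.isSquare_intCast_iff.mp ⟨72 * X * Y * Δ / (g * s), ?_⟩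
  have h2 : g ^ 2 * (2 * s ^ 2) * ((D 0 : ℚ) * D 1 * D 2 * D 3) = -(72 * X * Y * Δ) ^ 2 := by
    rw [← hdet]
    linear_combination (X * Y * 72) ^ 2 * key -
      (D 0 : ℚ) * D 1 * D 2 * D 3 * ((72 * (form4 (fun j => (D j : ℚ)) (fun j => (y j : ℚ))
        (fun j => (y j : ℚ)) * (Y * Y))) * (72 * hxx) + g * u₁₁ * (72 * hyy) -
        (72 * (form4 (fun j => (D j : ℚ)) (fun j => (x j : ℚ)) (fun j => (y j : ℚ)) * (X * Y)) +
          g * u₁₂) * (72 * hxy))
  push_cast
  field_simp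
  linear_combination -h2

/-- The squares modulo nine. -/
theorem square_mod_nine {a : ℤ} (h : IsSquare a) :
    a % 9 = 0 ∨ a % 9 = 1 ∨ a % 9 = 4 ∨ a % 9 = 7 := by
  obtain ⟨b, rfl⟩ := h
  rw [Int.mul_emod]
  have h1 := Int.emod_nonneg b (by norm_num : (9 : ℤ) ≠ 0)
  have h2 := Int.emod_lt_of_pos b (by norm_num : (0 : ℤ) < 9)
  interval_cases h : b % 9 <;> norm_num

end Cfsg.Agent.OddChar.Wreath72
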