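import Cfsg.Agent.OddChar.Wreath72Twist

/-!
The three possible degree patterns of the constituents.
-/

set_option autoImplicit false

open Cfsg
open scoped Classical ComplexConjugate

namespace Cfsg.Agent.OddChar.Wreath72

open S3Cubed (virt_comp virt_indFun setA)

variable {G : Type*} [Group G] [Fintype G] {H : Subgroup G} [Fintype H] {e : H ≃* W}

/-- The value at an involution has the parity of the degree. -/
theorem char_involution_parity {χ : G → ℂ} (hχ : IsCharacter G χ) {t : G} (ht : t ^ 2 = 1)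
    {k d : ℤ} (hk : χ t = k) (hd : χ 1 = d) : 2 ∣ d - k := by
  obtain ⟨n, ρ, rfl⟩ := hχ
  obtain ⟨b, z, hb, hz⟩ := Chars.exists_eigenbasis ρ t
  have hz2 : ∀ i, ∃ m : ℤ, z i = ((1 - 2 * m : ℤ) : ℂ) := fun i => by
    have h2 : z i ^ 2 = 1 := by
      obtain ⟨j, hj⟩ := orderOf_dvd_of_pow_eq_one ht
      rw [hj, pow_mul, hz i, one_pow]
    rcases sq_eq_one_iff.1 h2 with e | e
    · exact ⟨0, by rw [e]; norm_num⟩
    · exact ⟨1, by rw [e]; norm_num⟩
  have hmat : LinearMap.toMatrix b b (ρ t) = Matrix.diagonal z := by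
    ext i j
    rw [LinearMap.toMatrix_apply, hb, map_smul, Module.Basis.repr_self, Finsupp.smul_apply,
      Finsupp.single_apply, smul_eq_mul, Matrix.diagonal_apply]
    by_cases hij : i = j
    · subst hij; simp
    · simp [hij, Ne.symm hij]
  choose m hm using hz2
  have hval : ρ.character t = ((∑ i, (1 - 2 * m i) : ℤ) : ℂ) := by
    rw [Representation.character, LinearMap.trace_eq_matrix_trace ℂ b, hmat, Matrix.trace_diagonal,
      Int.cast_sum]
    exact Finset.sum_congr rfl fun i _ => hm i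
  rw [hval] at hk
  rw [Representation.char_one] at hd
  have hk' : ∑ i, (1 - 2 * m i) = k := by exact_mod_cast hk
  have hd' : (Module.finrank ℂ (Fin n → ℂ) : ℤ) = d := by exact_mod_cast hd
  refine ⟨∑ i, m i, ?_⟩
  rw [← hk', ← hd', Finset.sum_sub_distrib, ← Finset.mul_sum]
  simp

theorem Config.val_parity (cfg : Config e) {x : G} (hx : x ^ 2 = 1) {v : Fin 9 → ℤ}
    (hv : cfg.IsVal x v) (k : Fin 9) : 2 ∣ cfg.D k - v k := by
  have h := char_involution_parity (Chars.irr_isCharacter (cfg.pts k)) hx (hv k) (cfg.deg k)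
  rw [← mul_sub] at h
  rcases Int.eq_one_or_neg_one_of_mul_eq_one (cfg.sgn_sq k) with h' | h' <;> rw [h'] at h <;>
    simpa [dvd_sub_comm] using h

theorem el_sq_one (e : H ≃* W) {w : W} (h : w * w = 1) : el e w ^ 2 = 1 := by
  rw [sq, ← el_mul, h, el_one]

/-- The pattern of degrees and values at a reflection. -/
def Pattern (T b ξ : ℤ) : Prop :=
  (T = 2 ∧ b = 1 ∧ ξ = -1) ∨ (T = 20 ∧ b = -35 ∧ ξ = 5) ∨ (T = -16 ∧ b = 10 ∧ ξ = 2)

theorem pattern_of (T b : ℤ) (hT : T % 9 = 2) (hT2 : 2 ∣ T) (hb : b * (8 - T) = T * (1 + T)) :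
    (T = 2 ∧ b = 1) ∨ (T = 20 ∧ b = -35) ∨ (T = -16 ∧ b = 10) := by
  have h72 : (8 - T) ∣ 72 := ⟨b + 17 - (8 - T), by linear_combination -hb⟩
  have hle := Int.le_of_dvd (by norm_num) h72
  have hge := Int.le_of_dvd (by norm_num) ((Int.neg_dvd).mpr h72)
  have h1 : -64 ≤ T := by omega
  have h2 : T ≤ 80 := by omega
  clear h72 hle hge
  interval_cases T <;> omega

/-- Values at the reflections, and the order of the group in terms of the class length. -/
theorem Full.reflections (F : Full e) : ∃ (x y : Fin 9 → ℤ) (T b ξ : ℤ),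
    F.cfg.IsVal (el e r1) x ∧ F.cfg.IsVal (el e r2) y ∧ Pattern T b ξ ∧
      F.cfg.D 1 = T ∧ F.cfg.D 3 = b ∧ F.cfg.D 2 = b ∧ F.cfg.D 5 = -(1 + T + b) ∧
      F.cfg.D 6 = -(1 + T + b) ∧ x 1 = 0 ∧ y 1 = 0 ∧ x 2 = -ξ ∧ x 5 = ξ - 1 ∧ y 6 = ξ - 1 ∧
      (clOf (el e r2)).card = (clOf (el e r1)).card ∧
      (Nat.card G : ℤ) * (1 + T) = 3 * T * ((clOf (el e r1)).card : ℤ) ^ 2 := by
  obtain ⟨x, hx⟩ := F.cfg.exists_val (el_sq_one e (w := r1) (by decide))
  obtain ⟨y, hy⟩ := F.cfg.exists_val (el_sq_one e (w := r2) (by decide))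
  have hD := fun k => F.val_twist F.cfg.isVal_one k
  have hxt := fun k => F.val_twist hx k
  have hyt := fun k => F.val_twist hy k
  have hx4 : x 4 = -1 := by rw [F.val_four hx]; decide
  have hy4 : y 4 = -1 := by rw [F.val_four hy]; decide
  have hD4 : F.cfg.D 4 = 1 := F.cfg.D_four F.hA F.lab
  have hD0 := F.cfg.D_zero
  have hx0 := F.cfg.val_zero hx
  have hy0 := F.cfg.val_zero hy
  have hx1 : x 1 = 0 := by have := hxt 1; rw [hx4, show twist 1 = 1 from rfl] at this; omega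
  have hy1 : y 1 = 0 := by have := hyt 1; rw [hy4, show twist 1 = 1 from rfl] at this; omega
  have hx32 : x 3 = -x 2 := by have := hxt 2; rw [hx4, show twist 2 = 3 from rfl] at this; omega
  have hD32 : F.cfg.D 3 = F.cfg.D 2 := by
    have := hD 2; rw [hD4, show twist 2 = 3 from rfl] at this; omega
  set T := F.cfg.D 1 with hTdef
  set b := F.cfg.D 3 with hbdef
  have hT : T % 9 = 2 := by rw [hTdef, F.cfg.D_mod]; rfl
  have hb : b % 9 = 1 := by rw [hbdef, F.cfg.D_mod]; rfl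
  have hT2 : 2 ∣ T := by
    have := F.cfg.val_parity (el_sq_one e (w := r1) (by decide)) hx 1
    rw [hx1, ← hTdef, sub_zero] at this
    exact this
  let fl : Fin 4 → ℚ := ![-(T : ℚ), 1, 0, 0]
  let fb : Fin 4 → ℚ := ![0, -(b : ℚ), (T : ℚ), 0]
  let fb' : Fin 4 → ℚ := ![-(b : ℚ), (T : ℚ), 0, 0]
  have hd0 : dot4 fl (rowQ F.cfg.D 0) = 0 := by
    simp [dot4, fl, rowQ, rowPts, hD0, ← hTdef]
  have hd1 : dot4 fl (rowQ F.cfg.D 1) = 0 := by
    simp [dot4, fl, rowQ, rowPts, hD0, ← hTdef]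
  have hd1' : dot4 fb (rowQ F.cfg.D 1) = 0 := by
    simp [dot4, fb, rowQ, rowPts, ← hTdef, ← hbdef]; ring
  have hd2 : dot4 fb' (rowQ F.cfg.D 2) = 0 := by
    simp [dot4, fb', rowQ, rowPts, ← hTdef, ← hbdef]; ring
  have A1 := F.cfg.quad F.hA F.lab hx hy 0 hd0 hd0
  have A2 := F.cfg.quad F.hA F.lab hx hy 1 hd1 hd1
  have B2 := F.cfg.quad F.hA F.lab hx hy 1 hd1' hd1'
  have C2 := F.cfg.quad F.hA F.lab hx hy 1 hd1 hd1'
  have B3 := F.cfg.quad F.hA F.lab hx hy 2 hd2 hd2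
  simp only [dot4, rowQ, fl, fb, fb', rowPts, units, Matrix.cons_val_zero, Matrix.cons_val_one,
    Matrix.cons_val, hD0, hx0, hy0, hx1, hy1, Int.cast_one, Int.cast_zero, zero_mul, mul_zero,
    add_zero, zero_add, mul_one, one_mul, ← hTdef, ← hbdef] at A1 A2 B2 C2 B3
  norm_num [-Nat.card_eq_fintype_card] at A1 A2 B2 C2 B3
  have hX0 : 0 < (clOf (el e r1)).card := Finset.card_pos.mpr ⟨_, mem_clOf.mpr (IsConj.refl _)⟩
  have hY0 : 0 < (clOf (el e r2)).card := Finset.card_pos.mpr ⟨_, mem_clOf.mpr (IsConj.refl _)⟩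
  have hg : 0 < Nat.card G := Nat.card_pos
  have hT0 : (T : ℚ) ≠ 0 := by exact_mod_cast (show T ≠ 0 by omega)
  have hb0 : (b : ℚ) ≠ 0 := by exact_mod_cast (show b ≠ 0 by omega)
  have hXY : (clOf (el e r2)).card = (clOf (el e r1)).card := by
    have h : ((T : ℚ) * (clOf (el e r1)).card) ^ 2 = ((T : ℚ) * (clOf (el e r2)).card) ^ 2 := by
      linear_combination (1 / 36 : ℚ) * A1 - (1 / 36 : ℚ) * A2
    have h' : (((clOf (el e r1)).card : ℚ)) ^ 2 = (((clOf (el e r2)).card : ℚ)) ^ 2 :=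
      mul_left_cancel₀ (pow_ne_zero 2 hT0) (by linear_combination h)
    have h'' : (clOf (el e r1)).card ^ 2 = (clOf (el e r2)).card ^ 2 := by exact_mod_cast h'
    exact (Nat.pow_left_injective two_ne_zero h'').symm
  simp only [hXY] at A1 A2 B2 C2 B3
  set X : ℚ := ((clOf (el e r1)).card : ℚ) with hXdef
  have hX : X ≠ 0 := by rw [hXdef]; exact_mod_cast hX0.ne'
  have hgq : (Nat.card G : ℚ) ≠ 0 := by exact_mod_cast hg.ne'
  have h1T : (1 + (T : ℚ)) ≠ 0 := by exact_mod_cast (show 1 + T ≠ 0 by omega)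
  have hord : (Nat.card G : ℚ) * (1 + T) = 3 * T * X ^ 2 := by
    refine mul_left_cancel₀ hT0 ?_
    linear_combination (-1 / 36 : ℚ) * A1
  have hsq : (x 3 : ℚ) ^ 2 = (y 3 : ℚ) ^ 2 := by
    refine mul_left_cancel₀ (mul_ne_zero (pow_ne_zero 2 hT0) (pow_ne_zero 2 hX)) ?_
    linear_combination (1 / 36 : ℚ) * B3 - (1 / 36 : ℚ) * B2
  have hC : (T : ℚ) * X ^ 2 * (x 3 + 2 * y 3) = b * Nat.card G := by
    refine mul_left_cancel₀ hT0 ?_
    linear_combination (-1 / 36 : ℚ) * C2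
  have hlin : ((x 3 : ℚ) + 2 * y 3) * (1 + T) = 3 * b := by
    refine mul_left_cancel₀ (mul_ne_zero hT0 (pow_ne_zero 2 hX)) ?_
    linear_combination (1 + (T : ℚ)) * hC + (b : ℚ) * hord
  have hB : (x 3 : ℚ) ^ 2 * (1 + T) = b * (b + T) := by
    have h3 : 3 * ((T : ℚ) * X) ^ 2 * (x 3 : ℚ) ^ 2 = Nat.card G * (b * T * (b + T)) := by
      rw [← sub_eq_zero]
      linear_combination (1 / 36 : ℚ) * B2 + 2 * ((T : ℚ) * X) ^ 2 * hsq
    refine mul_left_cancel₀ (mul_ne_zero (mul_ne_zero three_ne_zero (pow_ne_zero 2 hT0))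
      (pow_ne_zero 2 hX)) ?_
    linear_combination (1 + (T : ℚ)) * h3 + (b * T * (b + T) : ℚ) * hord
  rcases sq_eq_sq_iff_eq_or_eq_neg.mp hsq with hxy | hxy
  · exfalso
    rw [← hxy] at hlin
    have h1 : ((((1 + T) * (b + T) : ℤ)) : ℚ) = ((b : ℤ) : ℚ) := by
      push_cast
      refine mul_left_cancel₀ hb0 ?_
      linear_combination -(1 + (T : ℚ)) * hB + (((x 3 : ℚ) * (1 + T) + b) / 3) * hlin
    exact (excluded (c := 1) hT hb rfl).1.1 (by exact_mod_cast h1)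
  · rw [hxy] at hlin
    have hneg : y 3 = -x 3 := by
      have : (y 3 : ℚ) = ((-x 3 : ℤ) : ℚ) := by push_cast; rw [hxy, neg_neg]
      exact_mod_cast this
    have h9 : (((b * (8 - T) : ℤ)) : ℚ) = ((T * (1 + T) : ℤ) : ℚ) := by
      push_cast
      refine mul_left_cancel₀ hb0 ?_
      rw [hxy] at hB
      linear_combination (1 + (T : ℚ)) * hB - ((y 3 : ℚ) * (1 + T) + 3 * b) * hlin
    have hcase := pattern_of T b hT hT2 (by exact_mod_cast h9)
    have hlin' : (2 * y 3 - y 3) * (1 + T) = 3 * b := by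
      have : ((((2 * y 3 - y 3) * (1 + T) : ℤ)) : ℚ) = ((3 * b : ℤ) : ℚ) := by
        push_cast; linear_combination hlin
      exact_mod_cast this
    have hx2D := F.cfg.row_zero (one_pow 4) F.cfg.isVal_one 0
    have hD6 := F.cfg.row_zero (one_pow 4) F.cfg.isVal_one 1
    have hxr := F.cfg.row_zero (by rw [← el_pow, show r1 ^ 4 = 1 by decide +kernel, el_one]) hx 0
    have hyr := F.cfg.row_zero (by rw [← el_pow, show r2 ^ 4 = 1 by decide +kernel, el_one]) hy 1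
    simp only [rowPts, Matrix.cons_val_zero, Matrix.cons_val_one, Matrix.cons_val] at hx2D hD6 hxr hyr
    refine ⟨x, y, T, b, x 3, hx, hy, ?_, rfl, rfl, hD32.symm, ?_, ?_, hx1, hy1, ?_, ?_, ?_, hXY, ?_⟩
    · rcases hcase with ⟨hT', hb'⟩ | ⟨hT', hb'⟩ | ⟨hT', hb'⟩ <;> rw [hT', hb'] at hlin'
      · exact Or.inl ⟨hT', hb', by omega⟩
      · exact Or.inr (Or.inl ⟨hT', hb', by omega⟩)
      · exact Or.inr (Or.inr ⟨hT', hb', by omega⟩)
    · omega
    · omega
    · omega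
    · omega
    · omega
    · have : (((Nat.card G : ℤ) * (1 + T) : ℤ) : ℚ) =
          ((3 * T * ((clOf (el e r1)).card : ℤ) ^ 2 : ℤ) : ℚ) := by
        push_cast
        exact hord
      exact_mod_cast this

end Cfsg.Agent.OddChar.Wreath72
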