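import Cfsg.Agent.OddChar.Wreath72
import Cfsg.Agent.OddChar.S3CubedTI

/-!
Four generalised characters of the group of order seventy-two, and a fifth one recording congruences
modulo nine.
-/

set_option autoImplicit false

open Cfsg
open scoped ComplexConjugate

namespace Cfsg.Agent.OddChar.Wreath72

open S3Cubed (S3 phi phi_virt virt_comp virt_mul_char virt_indFun)

/-- The elements not exchanging the axes. -/
def base : Subgroup W where
  carrier := {g | g.s.w = false}
  one_mem' := rfl
  mul_mem' := fun {a b} ha hb => by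
    show xor a.s.w b.s.w = false
    rw [show a.s.w = false from ha, show b.s.w = false from hb]; rfl
  inv_mem' := fun {a} ha => ha

instance : DecidablePred (· ∈ base) := fun g => decidable_of_iff (g.s.w = false) Iff.rfl

/-- The action on the first axis. -/
def prFun (g : W) (c : Fin 3) : Fin 3 := g.t.1 + sg g.s.u c

theorem prFun_inv : ∀ g : base, ∀ c, prFun (g⁻¹ : base) (prFun g c) = c ∧
    prFun g (prFun (g⁻¹ : base) c) = c := by decide +kernel

/-- The action on the first axis, as a permutation. -/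
def prPerm (g : base) : S3 :=
  ⟨prFun g, prFun (g⁻¹ : base), fun c => (prFun_inv g c).1, fun c => (prFun_inv g c).2⟩

theorem prPerm_mul : ∀ g h : base, ∀ c, prFun (g * h : base) c = prFun g (prFun h c) := by
  decide +kernel

/-- The homomorphism onto the symmetric group of the first axis. -/
def pr : base →* S3 := MonoidHom.mk' prPerm fun g h => Equiv.ext (prPerm_mul g h)

/-- The linear character, as a sign. -/
def sgnAB (g : W) : ℤ := if xor (xor g.s.u g.s.v) g.s.w then -1 else 1

theorem sgnAB_mul : ∀ g h : W, sgnAB (g * h) = sgnAB g * sgnAB h := by decide +kernel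

/-- The linear character as a homomorphism. -/
noncomputable def linAB : W →* ℂˣ :=
  MonoidHom.toHomUnits
    { toFun := fun g => (sgnAB g : ℂ)
      map_one' := by simp [show sgnAB 1 = 1 by decide]
      map_mul' := fun g h => by rw [sgnAB_mul]; push_cast; rfl }

theorem linAB_apply (g : W) : (linAB g : ℂ) = (sgnAB g : ℂ) := rfl

/-- The first function. -/
def f1 (g : W) : ℤ :=
  if g.s.w then 0 else
    (if g.s.u = false ∧ g.t.1 ≠ 0 then 3 else 0) + (if g.s.v = false ∧ g.t.2 ≠ 0 then 3 else 0)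

/-- The four functions. -/
def fun4 : Fin 4 → W → ℤ :=
  ![f1, fun g => f1 (outer g), fun g => f1 g * sgnAB g, fun g => f1 (outer g) * sgnAB (outer g)]

/-- Nine times this function is the combination recording congruences. -/
def fLam (g : W) : ℤ := if g.s = ⟨false, false, false⟩ then 8 else 0

theorem f1_ind : ∀ g : W, (∑ x : W,
    if h : x⁻¹ * g * x ∈ base then
      (if pr ⟨_, h⟩ * pr ⟨_, h⟩ * pr ⟨_, h⟩ = 1 ∧ pr ⟨_, h⟩ ≠ 1 then (3 : ℤ) else 0)
    else 0) = 36 * f1 g := by decide +kernel

theorem fLam_ind : ∀ g : W, (∑ x : W,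
    if h : x⁻¹ * g * x ∈ base then
      1 + 2 * ((Equiv.Perm.sign (pr ⟨_, h⟩) : ℤˣ) : ℤ) + sgnAB (x⁻¹ * g * x)
    else 0) = 36 * fLam g := by decide +kernel

theorem card_base : Nat.card base = 36 := by
  rw [Nat.card_eq_fintype_card]; decide +kernel

/-- An induced character with integral values. -/
theorem indFun_eq_of_sum {θ : base → ℂ} {h : base → ℤ} {T : W → ℤ}
    (hθ : ∀ b, θ b = h b)
    (hsum : ∀ g : W, (∑ x : W, if hm : x⁻¹ * g * x ∈ base then h ⟨_, hm⟩ else 0) = 36 * T g) :
    indFun base θ = fun g => (T g : ℂ) := by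
  funext g
  have key : ∀ x : W, Cfsg.extendByZero base θ (x⁻¹ * g * x) =
      ((if hm : x⁻¹ * g * x ∈ base then h ⟨_, hm⟩ else 0 : ℤ) : ℂ) := by
    intro x
    by_cases hm : x⁻¹ * g * x ∈ base
    · rw [Chars.extendByZero_of_mem base θ hm, hθ, dif_pos hm]
    · rw [Chars.extendByZero_of_not_mem base θ hm, dif_neg hm, Int.cast_zero]
  rw [Chars.indFun_apply, Finset.sum_congr rfl fun x _ => key x, ← Int.cast_sum, hsum, card_base]
  push_cast
  ring

theorem f1_virt : IsGeneralizedCharacter W (fun g => (f1 g : ℂ)) := by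
  rw [← indFun_eq_of_sum (θ := fun b => phi (pr b)) (h := fun b =>
    if pr b * pr b * pr b = 1 ∧ pr b ≠ 1 then (3 : ℤ) else 0)
    (fun b => by simp only [phi]; split_ifs <;> simp) f1_ind]
  exact virt_indFun base (virt_comp phi_virt pr)

theorem fun4_virt : ∀ i, IsGeneralizedCharacter W (fun g => (fun4 i g : ℂ)) := by
  have h3 : IsGeneralizedCharacter W (fun g => ((f1 g * sgnAB g : ℤ) : ℂ)) := by
    simp only [Int.cast_mul]
    exact virt_mul_char f1_virt (Chars.isCharacter_hom linAB)
  intro i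
  fin_cases i
  · exact f1_virt
  · exact virt_comp f1_virt outer
  · exact h3
  · exact virt_comp h3 outer

theorem fLam_virt : IsGeneralizedCharacter W (fun g => (fLam g : ℂ)) := by
  let s : base →* ℂˣ := (Units.map (Int.castRingHom ℂ).toMonoidHom).comp (Equiv.Perm.sign.comp pr)
  rw [← indFun_eq_of_sum (θ := fun b => 1 + 2 * (s b : ℂ) + ((linAB.comp base.subtype) b : ℂ))
    (h := fun b => 1 + 2 * ((Equiv.Perm.sign (pr b) : ℤˣ) : ℤ) + sgnAB b)
    (fun b => by simp [s, linAB_apply]) fLam_ind]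
  refine virt_indFun base (virt_of_char ?_)
  have hs := Chars.isCharacter_hom s
  have h := Chars.isCharacter_add (Chars.isCharacter_add Chars.isCharacter_one (Chars.isCharacter_nsmul hs 2))
    (Chars.isCharacter_hom (linAB.comp base.subtype))
  convert h using 1
  funext b
  simp [nsmul_eq_mul]

/-- An axis reflection. -/
def r1 : W := ⟨(0, 0), ⟨false, true, false⟩⟩
/-- The exchange of the axes. -/
def r2 : W := ⟨(0, 0), ⟨true, false, false⟩⟩
/-- The central inversion. -/
def z0 : W := ⟨(0, 0), ⟨false, true, true⟩⟩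
/-- An element of order six with cube `r1`. -/
def q1 : W := ⟨(0, 1), ⟨false, true, false⟩⟩
/-- An element of order six with cube conjugate to `r2`. -/
def q2 : W := outer q1

/-- The class of an axis reflection. -/
def isR1 (g : W) : Bool := !g.s.w && (g.s.u != g.s.v) && decide (g * g = 1)
/-- The class of the exchange. -/
def isR2 (g : W) : Bool := g.s.w && decide (g * g = 1)
/-- The class of the central inversion. -/
def isZ (g : W) : Bool := g.s.u && g.s.v && !g.s.w

theorem involution_cases : ∀ g : W, g * g = 1 → g ≠ 1 →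
    (∃ c, c * r1 * c⁻¹ = g) ∨ (∃ c, c * r2 * c⁻¹ = g) ∨ ∃ c, c * z0 * c⁻¹ = g := by decide +kernel

theorem isR1_iff : ∀ g : W, isR1 g = true ↔ ∃ c, c * r1 * c⁻¹ = g := by decide +kernel
theorem isR2_iff : ∀ g : W, isR2 g = true ↔ ∃ c, c * r2 * c⁻¹ = g := by decide +kernel
theorem isZ_iff : ∀ g : W, isZ g = true ↔ ∃ c, c * z0 * c⁻¹ = g := by decide +kernel

theorem outer_classes : (∃ c, c * outer r1 * c⁻¹ = r2) ∧ (∃ c, c * outer r2 * c⁻¹ = r1) ∧
    ∃ c, c * outer z0 * c⁻¹ = z0 := by decide +kernel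

/-- The Gram matrix of the four functions. -/
def gram : Fin 4 → Fin 4 → ℤ := ![![4, 2, 1, 2], ![2, 4, 2, 1], ![1, 2, 4, 2], ![2, 1, 2, 4]]

theorem gram_eq : ∀ i j, ∑ g : W, fun4 i g * fun4 j g = 72 * gram i j := by decide +kernel

theorem fun4_one : ∀ i, ∑ g : W, fun4 i g = if i.val < 2 then 72 else 0 := by decide +kernel

theorem fun4_supp : ∀ i, ∀ g : W, fun4 i g ≠ 0 → g ^ 4 ≠ 1 := by decide +kernel

theorem fLam_eq : ∀ g : W,
    9 * fLam g = (if g = 1 then 72 else 0) + 4 * ∑ i, fun4 i g := by decide +kernel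

/-- The difference distinguishing the two reflection classes. -/
def etaDiff (g : W) : ℤ := fun4 0 g - fun4 2 g - (fun4 1 g - fun4 3 g)

theorem etaDiff_eq : ∀ g : W, (etaDiff g = 0) ∨ (etaDiff g = 6 ∧ ∃ c, c * q1 * c⁻¹ = g) ∨
    (etaDiff g = -6 ∧ ∃ c, c * q2 * c⁻¹ = g) := by decide +kernel

theorem etaDiff_count : (Finset.univ.filter fun g : W => etaDiff g = 6).card = 12 ∧
    (Finset.univ.filter fun g : W => etaDiff g = -6).card = 12 := by decide +kernel

theorem etaDiff_norm : ∑ g : W, etaDiff g * etaDiff g = 72 * 12 := by decide +kernel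

theorem q_cube : q1 ^ 6 = 1 ∧ q2 ^ 6 = 1 ∧ (∃ c, c * r1 * c⁻¹ = q1 ^ 3) ∧
    ∃ c, c * r2 * c⁻¹ = q2 ^ 3 := by decide +kernel

end Cfsg.Agent.OddChar.Wreath72
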