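import Mathlib.Data.List.Basic
import Mathlib.Data.List.Nodup
import Mathlib.Data.List.GetD
import Mathlib.Data.List.OfFn
import Mathlib.Data.Fintype.Basic
import Mathlib.Data.Finset.Dedup
import Mathlib.Algebra.BigOperators.Fin
import Mathlib.Tactic.Linarith
import Mathlib.Tactic.IntervalCases

/-!
The configurations of four integral vectors of norm four with Gram matrix
`[[4,2,1,2],[2,4,2,1],[1,2,4,2],[2,1,2,4]]` and signed normalised columns, filtered by a congruence.
-/

set_option autoImplicit false

namespace Cfsg.Agent.OddChar.Wreath72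

/-- The vectors with entries in `{-1, 0, 1}` and at most `k` nonzero entries. -/
def bvecs : ℕ → ℕ → List (List Int)
  | 0, _ => [[]]
  | n + 1, 0 => (bvecs n 0).map (0 :: ·)
  | n + 1, k + 1 =>
    (bvecs n (k + 1)).map (0 :: ·) ++ ((bvecs n k).map (1 :: ·) ++ (bvecs n k).map ((-1) :: ·))

/-- The weight of a vector. -/
def wgt (v : List Int) : ℕ := (v.map Int.natAbs).sum

/-- The product of row `j` with a new row. -/
def rowDot (cols : List (List Int)) (v : List Int) (j : ℕ) : Int :=
  (List.zipWith (fun col x => col.getD j 0 * x) cols v).sum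

/-- The extensions of the columns by a row. -/
def extend (i : ℕ) (tg : List Int) (o : Int) (cols : List (List Int)) : List (List (List Int)) :=
  ((bvecs cols.length 4).filter fun v =>
      decide (v.headD 0 = o) && (List.range i).all fun j => rowDot cols v j == tg.getD j 0).map
    fun v => List.zipWith (fun col x => col ++ [x]) cols v ++
      List.replicate (4 - wgt v) (List.replicate i 0 ++ [1])

/-- The single first row. -/
def stage1 : List (List (List Int)) := [[[1], [1], [1], [1]]]
/-- Two rows. -/
def stage2 : List (List (List Int)) := stage1.flatMap (extend 1 [2] 1)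
/-- Three rows. -/
def stage3 : List (List (List Int)) := stage2.flatMap (extend 2 [1, 2] 0)
/-- Four rows. -/
def stage4 : List (List (List Int)) := stage3.flatMap (extend 3 [2, 1, 2] 0)

/-- The residue attached to row `i`. -/
def rowResidue (cols : List (List Int)) (i : ℕ) : Int :=
  ((-2) * ((cols.filter fun c => c.getD i 0 != 0).map fun c => 5 * c.sum * c.getD i 0).prod) % 9

/-- A residue of a square. -/
def sqRes (r : Int) : Bool := r == 0 || r == 1 || r == 4 || r == 7

/-- The surviving configuration. -/
def target : List (List Int) :=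
  [[1, 1, 0, 0], [1, 1, 1, 1], [1, 0, 0, 1], [0, 1, 1, 0], [0, 0, 1, 1],
    [1, 0, 0, 0], [0, 1, 0, 0], [0, 0, 1, 0], [0, 0, 0, 1]]

/-- The check. -/
def searchCheck : Bool :=
  stage4.all fun cols =>
    !((List.range 4).all fun i => sqRes (rowResidue cols i)) || target.isPerm cols

theorem searchCheck_true : searchCheck = true := by decide +kernel

theorem perm_target {cols : List (List Int)} (h : cols ∈ stage4)
    (hres : ∀ i < 4, sqRes (rowResidue cols i) = true) : target.Perm cols := by
  have h1 := List.all_eq_true.mp searchCheck_true cols h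
  have h2 : ((List.range 4).all fun i => sqRes (rowResidue cols i)) = true :=
    List.all_eq_true.mpr fun i hi => hres i (List.mem_range.mp hi)
  simp only [h2, Bool.not_true, Bool.false_or] at h1
  exact List.isPerm_iff.mp h1

theorem mem_bvecs : ∀ (l : List Int) (k : ℕ), (∀ x ∈ l, x = -1 ∨ x = 0 ∨ x = 1) → wgt l ≤ k →
    l ∈ bvecs l.length k := by
  intro l
  induction l with
  | nil => intro k _ _; cases k <;> simp [bvecs]
  | cons a l ih =>
    intro k h hw
    have hw' : a.natAbs + wgt l ≤ k := by simpa [wgt] using hw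
    have hl : ∀ x ∈ l, x = -1 ∨ x = 0 ∨ x = 1 := fun x hx => h x (by simp [hx])
    cases k with
    | zero =>
      obtain rfl : a = 0 := by omega
      simp only [List.length_cons, bvecs, List.mem_map]
      exact ⟨l, ih 0 hl (by omega), rfl⟩
    | succ k =>
      simp only [List.length_cons, bvecs, List.mem_append, List.mem_map]
      rcases h a (by simp) with rfl | rfl | rfl
      · exact Or.inr (Or.inr ⟨l, ih k hl (by simp at hw'; omega), rfl⟩)
      · exact Or.inl ⟨l, ih (k + 1) hl (by simp at hw'; omega), rfl⟩
      · exact Or.inr (Or.inl ⟨l, ih k hl (by simp at hw'; omega), rfl⟩)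

section Sound

variable {P : Type*} [Fintype P] [DecidableEq P] (c : P → ℕ → Int)

/-- The column of a point up to row `i`. -/
def colUpTo (i : ℕ) (p : P) : List Int := (List.range i).map (c p)

/-- A list of points carrying the first `i` rows. -/
structure Carries (i : ℕ) (e : P) (ps : List P) : Prop where
  nodup : ps.Nodup
  head : ps.head? = some e
  supp : ∀ p, p ∈ ps ↔ p = e ∨ ∃ j < i, c p j ≠ 0

variable {c} {e : P}

theorem sum_eq_list {α : Type*} [AddCommMonoid α] {ps : List P} (hnd : ps.Nodup) (f : P → α)
    (hf : ∀ p, p ∉ ps → f p = 0) : ∑ p, f p = (ps.map f).sum := by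
  rw [← List.sum_toFinset f hnd]
  exact (Finset.sum_subset (Finset.subset_univ _) fun p _ hp => hf p (by simpa using hp)).symm

theorem carries_step (hval : ∀ p j, j < 4 → c p j = -1 ∨ c p j = 0 ∨ c p j = 1)
    (hnorm : ∀ p j, j < 4 → c p j ≠ 0 → (∀ l < j, c p l = 0) → c p j = 1)
    (hfour : ∀ j < 4, ∑ p, c p j * c p j = 4) {i : ℕ} (hi : i < 4) {tg : List Int} {o : Int}
    (ho : c e i = o) (htg : ∀ j < i, ∑ p, c p j * c p i = tg.getD j 0) {ps : List P}
    (h : Carries c i e ps) :
    ∃ ps', Carries c (i + 1) e ps' ∧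
      ps'.map (colUpTo c (i + 1)) ∈ extend i tg o (ps.map (colUpTo c i)) := by
  set new := ((Finset.univ.filter fun p => c p i ≠ 0) \ ps.toFinset).toList with hnew
  have hmem : ∀ p, p ∈ new ↔ c p i ≠ 0 ∧ p ∉ ps := fun p => by simp [hnew]
  obtain ⟨r, hr⟩ : ∃ r, ps = e :: r := by
    have hh := h.head
    rcases hps : ps with _ | ⟨a, r⟩
    · simp [hps] at hh
    · simp [hps] at hh; exact ⟨r, by rw [hh]⟩
  have hnot : ∀ p, p ∉ ps → ∀ j < i, c p j = 0 := fun p hp j hj => by
    by_contra hne
    exact hp ((h.supp p).mpr (Or.inr ⟨j, hj, hne⟩))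
  have hnd' : (ps ++ new).Nodup :=
    List.Nodup.append h.nodup (Finset.nodup_toList _) fun p hp hp' => ((hmem p).mp hp').2 hp
  refine ⟨ps ++ new, ⟨hnd', ?_, fun p => ?_⟩, ?_⟩
  · rw [hr]; rfl
  · constructor
    · intro hp
      rcases List.mem_append.mp hp with hp | hp
      · rcases (h.supp p).mp hp with he | ⟨j, hj, hne⟩
        · exact Or.inl he
        · exact Or.inr ⟨j, by omega, hne⟩
      · exact Or.inr ⟨i, by omega, ((hmem p).mp hp).1⟩
    · intro hp
      by_cases hps : p ∈ ps
      · exact List.mem_append.mpr (Or.inl hps)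
      refine List.mem_append.mpr (Or.inr ((hmem p).mpr ⟨?_, hps⟩))
      rcases hp with rfl | ⟨j, hj, hne⟩
      · exact absurd ((h.supp p).mpr (Or.inl rfl)) hps
      · rcases Nat.lt_succ_iff_lt_or_eq.mp hj with hj' | rfl
        · exact absurd (hnot p hps j hj') hne
        · exact hne
  have hcount : (wgt (ps.map (c · i)) : Int) + new.length = 4 := by
    rw [← hfour i hi, sum_eq_list hnd' (fun p => c p i * c p i) fun p hp => ?_, List.map_append,
      List.sum_append, wgt, List.map_map, Nat.cast_list_sum, List.map_map]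
    · congr 1
      · refine congrArg List.sum (List.map_congr_left fun p _ => ?_)
        rcases hval p i hi with e | e | e <;> simp [e]
      · rw [List.map_congr_left (g := fun _ => (1 : Int)) fun p hp => ?_]
        · simp
        · have := ((hmem p).mp hp).1
          rcases hval p i hi with e | e | e <;> simp_all
    · simp only [List.mem_append, hmem, not_or, not_and_or, not_not] at hp
      rcases hp.2 with h0 | h0
      · simp [h0]
      · exact absurd h0 hp.1
  have hzip : ∀ (l : List P) (f : List Int → Int → List Int),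
      List.zipWith f (l.map (colUpTo c i)) (l.map (c · i)) =
        l.map fun p => f (colUpTo c i p) (c p i) := fun l f => by
    rw [List.zipWith_map, List.zipWith_self]
  simp only [extend, List.mem_map, List.mem_filter]
  refine ⟨ps.map (c · i), ⟨?_, ?_⟩, ?_⟩
  · have hb := mem_bvecs (ps.map (c · i)) 4 (fun x hx => ?_) (by omega)
    · simpa using hb
    · obtain ⟨p, -, rfl⟩ := List.mem_map.mp hx
      exact hval p i hi
  · simp only [Bool.and_eq_true, decide_eq_true_eq, List.all_eq_true, beq_iff_eq, List.mem_range]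
    refine ⟨by rw [hr]; simpa using ho, fun j hj => ?_⟩
    rw [← htg j hj, sum_eq_list h.nodup (fun p => c p j * c p i) fun p hp => by simp [hnot p hp j hj],
      rowDot, List.zipWith_map, List.zipWith_self]
    refine congrArg List.sum (List.map_congr_left fun p _ => ?_)
    simp [colUpTo, List.getD_eq_getElem?_getD, hj]
  · rw [hzip, List.map_append]
    congr 1
    · exact List.map_congr_left fun p _ => by simp [colUpTo, List.range_succ]
    · have hlen : 4 - wgt (ps.map (c · i)) = new.length := by omega
      rw [hlen]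
      symm
      refine List.eq_replicate_iff.mpr ⟨by simp, fun x hx => ?_⟩
      obtain ⟨p, hp, rfl⟩ := List.mem_map.mp hx
      obtain ⟨hne, hps⟩ := (hmem p).mp hp
      rw [colUpTo, List.range_succ, List.map_append]
      congr 1
      · exact List.eq_replicate_iff.mpr ⟨by simp, fun x hx => by
          obtain ⟨j, hj, rfl⟩ := List.mem_map.mp hx
          exact hnot p hps j (List.mem_range.mp hj)⟩
      · simp [hnorm p i hi hne (hnot p hps)]

/-- The Gram matrix, as a function on natural numbers. -/
def gramN (i j : ℕ) : Int :=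
  ([[4, 2, 1, 2], [2, 4, 2, 1], [1, 2, 4, 2], [2, 1, 2, 4]].getD i []).getD j 0

theorem target_nodup : target.Nodup := by decide

/-- The search is sound: nine points carry the surviving configuration. -/
theorem search_sound (hval : ∀ p j, j < 4 → c p j = -1 ∨ c p j = 0 ∨ c p j = 1)
    (hnorm : ∀ p j, j < 4 → c p j ≠ 0 → (∀ l < j, c p l = 0) → c p j = 1)
    (he : c e 0 = 1 ∧ c e 1 = 1 ∧ c e 2 = 0 ∧ c e 3 = 0)
    (hgram : ∀ i < 4, ∀ j ≤ i, ∑ p, c p j * c p i = gramN i j)
    (hres : ∀ i < 4, sqRes (((-2) * ∏ p ∈ Finset.univ.filter (fun p => c p i ≠ 0),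
      5 * (c p 0 + c p 1 + c p 2 + c p 3) * c p i) % 9) = true) :
    ∃ pts : Fin 9 → P, Function.Injective pts ∧ pts 0 = e ∧
      (∀ (k : Fin 9) (i : ℕ), i < 4 → c (pts k) i = (target.getD k.val []).getD i 0) ∧
      ∀ p, (∀ k, p ≠ pts k) → ∀ i < 4, c p i = 0 := by
  obtain ⟨he0, he1, he2, he3⟩ := he
  have hfour : ∀ j < 4, ∑ p, c p j * c p j = 4 := by
    intro j hj
    rw [hgram j hj j le_rfl]
    interval_cases j <;> rfl
  have h0 : Carries c 0 e [e] := ⟨List.nodup_singleton e, rfl, fun p => by simp⟩
  obtain ⟨ps1, h1, m1⟩ := carries_step hval hnorm hfour (i := 0) (by norm_num) (tg := []) he0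
    (fun j hj => absurd hj (Nat.not_lt_zero j)) h0
  have m1' : ps1.map (colUpTo c 1) ∈ stage1 := by
    have hex : extend 0 [] 1 [[]] = stage1 := by decide +kernel
    rw [← hex]
    simpa [colUpTo] using m1
  obtain ⟨ps2, h2, m2⟩ := carries_step hval hnorm hfour (i := 1) (by norm_num) (tg := [2]) he1
    (fun j hj => by rw [hgram 1 (by norm_num) j (by omega)]; interval_cases j; rfl) h1
  obtain ⟨ps3, h3, m3⟩ := carries_step hval hnorm hfour (i := 2) (by norm_num) (tg := [1, 2]) he2
    (fun j hj => by rw [hgram 2 (by norm_num) j (by omega)]; interval_cases j <;> rfl) h2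
  obtain ⟨ps, h4, m4⟩ := carries_step hval hnorm hfour (i := 3) (by norm_num) (tg := [2, 1, 2]) he3
    (fun j hj => by rw [hgram 3 (by norm_num) j (by omega)]; interval_cases j <;> rfl) h3
  have hmem : ps.map (colUpTo c 4) ∈ stage4 := List.mem_flatMap.mpr ⟨_, List.mem_flatMap.mpr
    ⟨_, List.mem_flatMap.mpr ⟨_, m1', m2⟩, m3⟩, m4⟩
  have hget : ∀ p i, i < 4 → (colUpTo c 4 p).getD i 0 = c p i := fun p i hi => by
    simp [colUpTo, List.getD_eq_getElem?_getD, hi]
  have hout : ∀ p, p ∉ ps → ∀ i < 4, c p i = 0 := fun p hp i hi => by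
    by_contra hne
    exact hp ((h4.supp p).mpr (Or.inr ⟨i, hi, hne⟩))
  have hperm := perm_target hmem fun i hi => by
    have hfe : (Finset.univ.filter fun p => c p i ≠ 0) =
        (ps.filter fun p => decide (c p i ≠ 0)).toFinset := by
      ext p
      simp only [Finset.mem_filter, Finset.mem_univ, true_and, List.mem_toFinset, List.mem_filter,
        decide_eq_true_eq]
      exact ⟨fun hne => ⟨Classical.byContradiction fun hp => hne (hout p hp i hi), hne⟩, And.right⟩
    have := hres i hi
    rw [hfe, List.prod_toFinset _ (h4.nodup.filter _)] at this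
    rw [rowResidue, List.filter_map, List.map_map]
    convert this using 4
    refine congrArg List.prod ?_
    rw [List.filter_congr (q := fun p => decide (c p i ≠ 0)) fun p _ => ?_]
    · refine List.map_congr_left fun p _ => ?_
      show 5 * (colUpTo c 4 p).sum * (colUpTo c 4 p).getD i 0 = _
      rw [hget p i hi]
      simp [colUpTo, List.range_succ, add_assoc]
    · show ((colUpTo c 4 p).getD i 0 != 0) = _
      rw [hget p i hi]
      by_cases h : c p i = 0 <;> simp only [h, bne, beq_self_eq_true, Bool.not_true, ne_eq, not_true_eq_false, decide_false, decide_true, not_false_eq_true] <;> simp_all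
  have hinj : ∀ p ∈ ps, ∀ q ∈ ps, colUpTo c 4 p = colUpTo c 4 q → p = q :=
    List.inj_on_of_nodup_map (hperm.nodup_iff.mp target_nodup)
  have hsel : ∀ k : Fin 9, ∃ p ∈ ps, colUpTo c 4 p = target.getD k.val [] := fun k => by
    have hk : target.getD k.val [] ∈ target := by revert k; decide
    exact List.mem_map.mp (hperm.mem_iff.mp hk)
  choose pts hps hpc using hsel
  refine ⟨pts, fun k l hkl => ?_, ?_, fun k i hi => by rw [← hget _ i hi, hpc], fun p hp i hi => ?_⟩
  · have := (hpc k).symm.trans (by rw [hkl, hpc])
    have hd : ∀ k l : Fin 9, target.getD k.val [] = target.getD l.val [] → k = l := by decide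
    exact hd k l this
  · refine hinj _ (hps 0) e ((h4.supp e).mpr (Or.inl rfl)) ?_
    rw [hpc]
    simp [colUpTo, List.range_succ, target, he0, he1, he2, he3]
  · by_contra hne
    have hp' : p ∈ ps := Classical.byContradiction fun h => hne (hout p h i hi)
    have hc : colUpTo c 4 p ∈ target := hperm.mem_iff.mpr (List.mem_map_of_mem hp')
    obtain ⟨k, hk⟩ : ∃ k : Fin 9, target.getD k.val [] = colUpTo c 4 p := by
      generalize colUpTo c 4 p = l at hc ⊢
      simp only [target, List.mem_cons, List.not_mem_nil, or_false] at hc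
      rcases hc with rfl | rfl | rfl | rfl | rfl | rfl | rfl | rfl | rfl <;> decide
    exact hp k (hinj p hp' _ (hps k) (by rw [hpc, hk]))

end Sound

end Cfsg.Agent.OddChar.Wreath72
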