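import Cfsg.Agent.OddChar.Wreath72Char

/-!
The sums of the four functions over products of two classes of involutions.
-/

set_option autoImplicit false

namespace Cfsg.Agent.OddChar.Wreath72

/-- The involutions in the first class, with the central inversions if fused. -/
def cX (fz : Bool) (g : W) : Bool := isR1 g || (fz && isZ g)

/-- The sum over a pair of classes. -/
def unitSum (p q : W → Bool) (i : Fin 4) : ℤ :=
  ∑ a : W, ∑ b : W, if p a && q b then fun4 i (a * b) else 0

/-- The three sums for the row `i`. -/
def units : Bool → Fin 4 → ℤ × ℤ × ℤ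
  | false => ![(36, 72, 0), (72, 36, 0), (36, 72, 0), (72, 36, 0)]
  | true => ![(576, 72, 0), (396, 36, 108), (144, 72, 0), (396, 36, -108)]

/-- Half the Gram determinant is the square of this number. -/
def detRoot : Bool → Fin 4 → ℤ
  | false => ![36, 36, 36, 36]
  | true => ![144, 36, 72, 36]

theorem units_eq : ∀ (fz : Bool) (i : Fin 4), unitSum (cX fz) (cX fz) i = (units fz i).1 ∧
    unitSum isR2 isR2 i = (units fz i).2.1 ∧ unitSum (cX fz) isR2 i = (units fz i).2.2 := by
  decide +kernel

theorem units_det : ∀ (fz : Bool) (i : Fin 4),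
    (units fz i).1 * (units fz i).2.1 - (units fz i).2.2 ^ 2 = 2 * detRoot fz i ^ 2 ∧
      detRoot fz i ≠ 0 := by
  decide +kernel

end Cfsg.Agent.OddChar.Wreath72
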