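import Cfsg.Agent.OddChar.Wreath72TI
import Cfsg.Agent.OddChar.Wreath72Units
import Cfsg.Agent.OddChar.Wreath72Alg
import Cfsg.Agent.OddChar.Wreath72Search

/-!
A subgroup isomorphic to the wreath product of order seventy-two controlling the centralisers of
its elements of order three gives a nontrivial linear character.
-/

set_option autoImplicit false

open Cfsg
open scoped Classical ComplexConjugate

namespace Cfsg.Agent.OddChar.Wreath72

open S3Cubed (virt_comp virt_indFun setA)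

variable {P : Type*} [Fintype P]

/-- Four constituents of a row, with degrees and two columns of values. -/
theorem row_data {c D x y : P → ℤ} {d : P → ℤ} (hD : ∀ p, D p ≠ 0)
    (hc1 : ∀ p, c p = -1 ∨ c p = 0 ∨ c p = 1) (sD : ∑ p, c p * D p = 0)
    (sx : ∑ p, c p * x p = 0) (sy : ∑ p, c p * y p = 0) {q : Fin 4 → P}
    (hq : Function.Injective q) (hne : ∀ j, c (q j) ≠ 0)
    (hcov : ∀ p, (∀ j, p ≠ q j) → c p = 0) (hd : d = fun p => c p * D p) :
    let D' : Fin 4 → ℤ := fun j => d (q j)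
    let x' : Fin 4 → ℤ := fun j => c (q j) * x (q j)
    let y' : Fin 4 → ℤ := fun j => c (q j) * y (q j)
    (∀ j, D' j ≠ 0) ∧ D' 0 + D' 1 + D' 2 + D' 3 = 0 ∧ x' 0 + x' 1 + x' 2 + x' 3 = 0 ∧
      y' 0 + y' 1 + y' 2 + y' 3 = 0 ∧
      form4 (fun j => (D' j : ℚ)) (fun j => (x' j : ℚ)) (fun j => (x' j : ℚ)) =
        ∑ p, (c p : ℚ) * (x p * x p / D p) ∧
      form4 (fun j => (D' j : ℚ)) (fun j => (y' j : ℚ)) (fun j => (y' j : ℚ)) =
        ∑ p, (c p : ℚ) * (y p * y p / D p) ∧
      form4 (fun j => (D' j : ℚ)) (fun j => (x' j : ℚ)) (fun j => (y' j : ℚ)) =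
        ∑ p, (c p : ℚ) * (x p * y p / D p) := by
  intro D' x' y'
  subst hd
  have hsum : ∀ {α : Type} [AddCommMonoid α] (f : P → α), (∀ p, c p = 0 → f p = 0) →
      ∑ p, f p = f (q 0) + f (q 1) + f (q 2) + f (q 3) := by
    intro α _ f hf
    rw [← Fin.sum_univ_four (fun j => f (q j)), ← Finset.sum_image (f := f) (g := q)
      fun a _ b _ h => hq h]
    refine (Finset.sum_subset (Finset.subset_univ _) fun p _ hp => hf p (hcov p ?_)).symm
    intro j hj
    exact hp (Finset.mem_image.mpr ⟨j, Finset.mem_univ _, hj.symm⟩)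
  have hform : ∀ u v : P → ℤ,
      form4 (fun j => (D' j : ℚ)) (fun j => ((c (q j) * u (q j) : ℤ) : ℚ))
          (fun j => ((c (q j) * v (q j) : ℤ) : ℚ)) = ∑ p, (c p : ℚ) * (u p * v p / D p) := by
    intro u v
    rw [hsum _ fun p hp => by simp [hp]]
    have hterm : ∀ j, ((c (q j) * u (q j) : ℤ) : ℚ) * ((c (q j) * v (q j) : ℤ) : ℚ) / (D' j : ℚ) =
        (c (q j) : ℚ) * (u (q j) * v (q j) / D (q j)) := by
      intro j
      have h1 : (c (q j) : ℚ) ≠ 0 := Int.cast_ne_zero.mpr (hne j)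
      have h2 : (D (q j) : ℚ) ≠ 0 := Int.cast_ne_zero.mpr (hD _)
      simp only [D']
      push_cast
      field_simp
    simp only [form4, hterm]
  rw [hsum _ fun p hp => by simp [hp]] at sD sx sy
  exact ⟨fun j => mul_ne_zero (hne j) (hD _), sD, sx, sy, hform x x, hform y y, hform x y⟩

variable {G : Type*} [Group G] [Fintype G] {H : Subgroup G} [Fintype H] (e : H ≃* W)

/-- The class sum of the row `i` in rational terms. -/
theorem class_equation (hA : IsTISection H (setA H)) {m : IrrCharacter G → ℤ} {i : Fin 4}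
    (hm : ∀ ψ : IrrCharacter G, classInner (ind e i) (ψ : G → ℂ) = m ψ) {a b : W} (ha : a * a = 1)
    (hb : b * b = 1) {V V' d : IrrCharacter G → ℤ}
    (hV : ∀ ψ : IrrCharacter G, (ψ : G → ℂ) (el e a) = V ψ)
    (hV' : ∀ ψ : IrrCharacter G, (ψ : G → ℂ) (el e b) = V' ψ)
    (hd : ∀ ψ : IrrCharacter G, (ψ : G → ℂ) 1 = d ψ) {p q : W → Bool}
    (hp : ∀ h : H, IsConj (el e a) (h : G) ↔ p (e h) = true)
    (hq : ∀ h : H, IsConj (el e b) (h : G) ↔ q (e h) = true) :
    (∑ ψ, (m ψ : ℚ) * (V ψ * V' ψ / d ψ)) * ((clOf (el e a)).card * (clOf (el e b)).card) =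
      (Nat.card G : ℚ) / 72 * (unitSum p q i : ℚ) := by
  have hF : ind e i = ∑ ψ : IrrCharacter G, (m ψ : ℂ) • (ψ : G → ℂ) := by
    conv_lhs => rw [Chars.eq_sum_classInner (virt_isClassFunction (ind_virt e i))]
    exact Finset.sum_congr rfl fun ψ _ => by rw [hm]
  have h1 := hA.pair_sum (θ := theta e i) (theta_supp e i) (x := el e a) (y := el e b)
    (by rw [← el_mul, ha, el_one]) (by rw [← el_mul, hb, el_one])
  change ∑ u ∈ clOf (el e a), ∑ v ∈ clOf (el e b), ind e i (u * v) = _ at h1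
  simp only [hF, Finset.sum_apply, Pi.smul_apply, smul_eq_mul] at h1
  rw [Finset.sum_congr rfl fun u _ => Finset.sum_comm, Finset.sum_comm] at h1
  simp only [← Finset.mul_sum, irr_pair_sum (Subtype.prop _), hV, hV', hd] at h1
  have hU : ∑ u : H, ∑ v : H,
      (if IsConj (el e a) (u : G) ∧ IsConj (el e b) (v : G) then theta e i (u * v) else 0) =
        (unitSum p q i : ℂ) := by
    simp only [hp, hq, unitSum, Int.cast_sum]
    rw [← sum_H e]
    refine Finset.sum_congr rfl fun u _ => ?_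
    rw [← sum_H e]
    refine Finset.sum_congr rfl fun v _ => ?_
    simp [theta, apply_ite (Int.cast : ℤ → ℂ)]
  rw [hU, card_H e] at h1
  refine Rat.cast_injective (α := ℂ) ?_
  push_cast
  rw [Finset.sum_mul]
  refine Eq.trans (Finset.sum_congr rfl fun ψ _ => ?_) (h1.trans ?_)
  · ring
  · push_cast; ring

/-- The four rows of constituents. -/
def rowPts : Fin 4 → Fin 4 → Fin 9 := ![![0, 1, 2, 5], ![0, 1, 3, 6], ![1, 3, 4, 7], ![1, 2, 4, 8]]

/-- The column of a constituent. -/
def colT (k : Fin 9) (i : Fin 4) : ℤ := (target.getD k.val []).getD i.val 0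

theorem colT_row : ∀ i j : Fin 4, colT (rowPts i j) i = 1 := by decide

theorem colT_out : ∀ (i : Fin 4) (k : Fin 9), (∀ j, k ≠ rowPts i j) → colT k i = 0 := by decide

theorem rowPts_inj : ∀ i : Fin 4, Function.Injective (rowPts i) := by decide

/-- The nine signed constituents. -/
structure Config where
  /-- The constituents. -/
  pts : Fin 9 → IrrCharacter G
  /-- Their signs. -/
  sgn : Fin 9 → ℤ
  /-- Their signed degrees. -/
  D : Fin 9 → ℤ
  inj : Function.Injective pts
  pts_zero : (pts 0 : G → ℂ) = fun _ => 1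
  sgn_zero : sgn 0 = 1
  sgn_sq : ∀ k, sgn k * sgn k = 1
  deg : ∀ k, (pts k : G → ℂ) 1 = ((sgn k * D k : ℤ) : ℂ)
  deg_pos : ∀ k, 0 < sgn k * D k
  D_mod : ∀ k : Fin 9, D k % 9 = 5 * (target.getD k.val []).sum % 9
  inner : ∀ k i, classInner (ind e i) (pts k : G → ℂ) = ((sgn k * colT k i : ℤ) : ℂ)
  out : ∀ ψ : IrrCharacter G, (∀ k, ψ ≠ pts k) → ∀ i, classInner (ind e i) (ψ : G → ℂ) = 0

/-- The labelled classes. -/
def Labelled (fz : Bool) : Prop :=
  if fz then IsConj (el e r1) (el e z0)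
    else ¬ IsConj (el e r1) (el e z0) ∧ ¬ IsConj (el e r2) (el e z0)

omit [Fintype H] in
theorem class_hinv {a : W} (ha : a * a = 1) (ha1 : a ≠ 1) {h : H} (hh : IsConj (el e a) (h : G)) :
    e h * e h = 1 ∧ e h ≠ 1 := by
  obtain ⟨g, hg⟩ := isConj_iff.mp hh
  have hz1 : el e a ≠ 1 := fun h0 => ha1 (by
    have : e.symm a = 1 := Subtype.ext h0
    simpa using congrArg e this)
  have hsq : el e a * el e a = 1 := by rw [← el_mul, ha, el_one]
  refine ⟨?_, fun h0 => ?_⟩
  · rw [← map_mul, show h * h = 1 from Subtype.ext ?_, map_one]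
    rw [Subgroup.coe_mul, ← hg]
    calc g * el e a * g⁻¹ * (g * el e a * g⁻¹) = g * (el e a * el e a) * g⁻¹ := by group
      _ = 1 := by rw [hsq, mul_one, mul_inv_cancel]
  · rw [coe_eq_el e h, h0, el_one] at hg
    exact hz1 (conj_eq_one_iff.mp hg)

omit [Fintype H] in
theorem class_trans {a b : W} {h : H} (h1 : IsConj (el e a) (h : G))
    (h2 : ∃ c, c * b * c⁻¹ = e h) : IsConj (el e a) (el e b) := by
  have := el_isConj e h2
  rw [← coe_eq_el e h] at this
  exact h1.trans this.symm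

theorem class_r1 (hA : IsTISection H (setA H)) {fz : Bool} (hz : Labelled e fz) :
    ∀ h : H, IsConj (el e r1) (h : G) ↔ cX fz (e h) = true := by
  have hr12 := not_isConj e hA
  unfold Labelled at hz
  intro h
  constructor
  · intro hh
    obtain ⟨h2, h1⟩ := class_hinv e (a := r1) (by decide) (by decide) hh
    rcases involution_cases (e h) h2 h1 with hc | hc | hc
    · simp [cX, (isR1_iff _).mpr hc]
    · exact absurd (class_trans e hh hc) hr12
    · have := class_trans e hh hc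
      cases fz
      · exact absurd this hz.1
      · simp [cX, (isZ_iff _).mpr hc]
  · intro hh
    rw [coe_eq_el e h]
    simp only [cX, Bool.or_eq_true, Bool.and_eq_true] at hh
    rcases hh with hh | ⟨hf, hh⟩
    · exact el_isConj e ((isR1_iff _).mp hh)
    · subst hf
      exact (show IsConj (el e r1) (el e z0) from hz).trans (el_isConj e ((isZ_iff _).mp hh))

theorem class_r2 (hA : IsTISection H (setA H)) {fz : Bool} (hz : Labelled e fz) :
    ∀ h : H, IsConj (el e r2) (h : G) ↔ isR2 (e h) = true := by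
  have hr12 := not_isConj e hA
  unfold Labelled at hz
  intro h
  constructor
  · intro hh
    obtain ⟨h2, h1⟩ := class_hinv e (a := r2) (by decide) (by decide) hh
    rcases involution_cases (e h) h2 h1 with hc | hc | hc
    · exact absurd (class_trans e hh hc).symm hr12
    · exact (isR2_iff _).mpr hc
    · have h3 := class_trans e hh hc
      cases fz
      · exact absurd h3 hz.2
      · exact absurd ((show IsConj (el e r1) (el e z0) from hz).trans h3.symm) hr12
  · intro hh
    rw [coe_eq_el e h]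
    exact el_isConj e ((isR2_iff _).mp hh)

/-- The configuration exists. -/
theorem exists_config (hA : IsTISection H (setA H)) {fz : Bool} (hz : Labelled e fz) :
    Nonempty (Config e) := by
  have hX := class_r1 e hA hz
  have hY := class_r2 e hA hz
  -- the multiplicities
  choose m hm hmF hmsq using fun i => exists_eq_sum_zsmul (ind_virt e i)
  choose dn hdn0 hdn using fun ψ : IrrCharacter G => Chars.exists_irr_apply_one_eq ψ.2
  choose V hV using fun ψ : IrrCharacter G => char_involution_int (Chars.irr_isCharacter ψ)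
    (t := el e r1) (by rw [sq, ← el_mul, show r1 * r1 = 1 by decide, el_one])
  choose V' hV' using fun ψ : IrrCharacter G => char_involution_int (Chars.irr_isCharacter ψ)
    (t := el e r2) (by rw [sq, ← el_mul, show r2 * r2 = 1 by decide, el_one])
  have hd : ∀ ψ : IrrCharacter G, (ψ : G → ℂ) 1 = ((dn ψ : ℤ) : ℂ) := fun ψ => by simp [hdn]
  have heval : ∀ (i : Fin 4) (g : G), g ^ 4 = 1 → ∀ (v : IrrCharacter G → ℤ),
      (∀ ψ : IrrCharacter G, (ψ : G → ℂ) g = v ψ) → ∑ ψ, m i ψ * v ψ = 0 := by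
    intro i g hg v hv
    have h := congrFun (hmF i) g
    rw [ind_eq_zero e i hg] at h
    simp only [Finset.sum_apply, Pi.smul_apply, zsmul_eq_mul, Pi.mul_apply, Pi.intCast_apply,
      hv] at h
    exact_mod_cast h.symm
  have hg4 : ∀ i : Fin 4, gram i i = 4 := by decide
  have hm1 : ∀ i ψ, m i ψ = -1 ∨ m i ψ = 0 ∨ m i ψ = 1 := by
    intro i ψ
    by_contra hc
    push Not at hc
    have h4 : ∑ φ, m i φ ^ 2 = 4 := by
      have := hmsq i
      rw [ind_gram e hA] at this
      rw [hg4] at this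
      exact_mod_cast this.symm
    have h2 : 4 ≤ m i ψ ^ 2 := by
      rcases (show m i ψ ≤ -2 ∨ 2 ≤ m i ψ by omega) with h | h <;> nlinarith
    have hrest : ∀ φ, φ ≠ ψ → m i φ = 0 := by
      intro φ hφ
      have h := Finset.add_sum_erase Finset.univ (fun φ => m i φ ^ 2) (Finset.mem_univ ψ)
      have hnn : m i φ ^ 2 ≤ ∑ x ∈ Finset.univ.erase ψ, m i x ^ 2 :=
        Finset.single_le_sum (f := fun x => m i x ^ 2) (fun x _ => sq_nonneg _)
          (Finset.mem_erase.mpr ⟨hφ, Finset.mem_univ _⟩)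
      have : m i φ ^ 2 = 0 := le_antisymm (by linarith) (sq_nonneg _)
      exact pow_eq_zero_iff (two_ne_zero) |>.mp this
    have h := heval i 1 (one_pow 4) (fun φ => dn φ) hd
    rw [Finset.sum_eq_single ψ (fun φ _ hφ => by rw [hrest φ hφ, zero_mul]) (by simp)] at h
    rcases mul_eq_zero.mp h with h0 | h0
    · rw [h0] at h2; norm_num at h2
    · have := hdn0 ψ; omega
  -- normalised signs
  let ε : IrrCharacter G → ℤ := fun ψ =>
    if m 0 ψ ≠ 0 then m 0 ψ else if m 1 ψ ≠ 0 then m 1 ψ else if m 2 ψ ≠ 0 then m 2 ψ else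
      if m 3 ψ ≠ 0 then m 3 ψ else 1
  have hε : ∀ ψ, ε ψ * ε ψ = 1 := by
    intro ψ
    simp only [ε]
    split_ifs with h0 h1 h2 h3
    · rcases hm1 0 ψ with h | h | h <;> simp_all
    · rcases hm1 1 ψ with h | h | h <;> simp_all
    · rcases hm1 2 ψ with h | h | h <;> simp_all
    · rcases hm1 3 ψ with h | h | h <;> simp_all
    · rfl
  let c : IrrCharacter G → ℕ → ℤ := fun ψ j => if h : j < 4 then ε ψ * m ⟨j, h⟩ ψ else 0
  have hc : ∀ ψ (i : Fin 4), c ψ i.val = ε ψ * m i ψ := fun ψ i => by simp [c, i.isLt]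
  let D : IrrCharacter G → ℤ := fun ψ => ε ψ * dn ψ
  let x : IrrCharacter G → ℤ := fun ψ => ε ψ * V ψ
  let y : IrrCharacter G → ℤ := fun ψ => ε ψ * V' ψ
  have hD0 : ∀ ψ, D ψ ≠ 0 := fun ψ => mul_ne_zero (fun h => by simpa [h] using hε ψ)
    (by exact_mod_cast (hdn0 ψ).ne')
  have hcv : ∀ (i : Fin 4) ψ, c ψ i.val = -1 ∨ c ψ i.val = 0 ∨ c ψ i.val = 1 := by
    intro i ψ
    rw [hc]
    rcases Int.eq_one_or_neg_one_of_mul_eq_one (hε ψ) with h | h <;>
      rcases hm1 i ψ with h' | h' | h' <;> rw [h, h'] <;> norm_num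
  have hsumc : ∀ (i : Fin 4) (v : IrrCharacter G → ℤ),
      ∑ ψ, c ψ i.val * (ε ψ * v ψ) = ∑ ψ, m i ψ * v ψ := fun i v =>
    Finset.sum_congr rfl fun ψ _ => by
      rw [hc, show ε ψ * m i ψ * (ε ψ * v ψ) = ε ψ * ε ψ * (m i ψ * v ψ) by ring, hε, one_mul]
  have hSD : ∀ i : Fin 4, ∑ ψ, c ψ i.val * D ψ = 0 := fun i =>
    (hsumc i _).trans (heval i 1 (one_pow 4) (fun ψ => dn ψ) hd)
  have hSx : ∀ i : Fin 4, ∑ ψ, c ψ i.val * x ψ = 0 := fun i =>
    (hsumc i _).trans (heval i _ (by rw [← el_pow, show r1 ^ 4 = 1 by decide +kernel, el_one]) V hV)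
  have hSy : ∀ i : Fin 4, ∑ ψ, c ψ i.val * y ψ = 0 := fun i =>
    (hsumc i _).trans (heval i _ (by rw [← el_pow, show r2 ^ 4 = 1 by decide +kernel, el_one]) V' hV')
  have hB : ∀ (i : Fin 4) (U U' : IrrCharacter G → ℤ),
      ∑ ψ, (c ψ i.val : ℚ) * (((ε ψ * U ψ : ℤ) : ℚ) * ((ε ψ * U' ψ : ℤ) : ℚ) / (D ψ : ℚ)) =
        ∑ ψ, (m i ψ : ℚ) * (U ψ * U' ψ / ((dn ψ : ℤ) : ℚ)) := by
    intro i U U'
    refine Finset.sum_congr rfl fun ψ _ => ?_
    have hdq : ((dn ψ : ℤ) : ℚ) ≠ 0 := by exact_mod_cast (hdn0 ψ).ne'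
    rw [hc]
    rcases Int.eq_one_or_neg_one_of_mul_eq_one (hε ψ) with h | h <;> simp [D, h] <;> field_simp
  set X : ℚ := ((clOf (el e r1)).card : ℚ) with hXdef
  set Y : ℚ := ((clOf (el e r2)).card : ℚ) with hYdef
  have hX0 : X ≠ 0 := by
    rw [hXdef]; exact_mod_cast (Finset.card_pos.mpr ⟨_, mem_clOf.mpr (IsConj.refl _)⟩).ne'
  have hY0 : Y ≠ 0 := by
    rw [hYdef]; exact_mod_cast (Finset.card_pos.mpr ⟨_, mem_clOf.mpr (IsConj.refl _)⟩).ne'
  have hg0 : (Nat.card G : ℚ) ≠ 0 := by exact_mod_cast Nat.card_pos.ne'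
  have hxx : ∀ i : Fin 4, (∑ ψ, (c ψ i.val : ℚ) * ((x ψ : ℚ) * (x ψ : ℚ) / D ψ)) * (X * X) =
      (Nat.card G : ℚ) / 72 * ((units fz i).1 : ℚ) := fun i => by
    rw [hB, ← (units_eq fz i).1]
    exact class_equation e hA (hm i) (by decide) (by decide) hV hV hd hX hX
  have hyy : ∀ i : Fin 4, (∑ ψ, (c ψ i.val : ℚ) * ((y ψ : ℚ) * (y ψ : ℚ) / D ψ)) * (Y * Y) =
      (Nat.card G : ℚ) / 72 * ((units fz i).2.1 : ℚ) := fun i => by
    rw [hB, ← (units_eq fz i).2.1]
    exact class_equation e hA (hm i) (by decide) (by decide) hV' hV' hd hY hY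
  have hxy : ∀ i : Fin 4, (∑ ψ, (c ψ i.val : ℚ) * ((x ψ : ℚ) * (y ψ : ℚ) / D ψ)) * (X * Y) =
      (Nat.card G : ℚ) / 72 * ((units fz i).2.2 : ℚ) := fun i => by
    rw [hB, ← (units_eq fz i).2.2]
    exact class_equation e hA (hm i) (by decide) (by decide) hV hV' hd hX hY
  have hgram : ∀ i j : Fin 4, ∑ ψ, c ψ j.val * c ψ i.val = gram j i := by
    intro i j
    have h : classInner (ind e j) (ind e i) = ((∑ ψ, m j ψ * m i ψ : ℤ) : ℂ) := by
      rw [Chars.classInner_eq_sum (virt_isClassFunction (ind_virt e j))]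
      push_cast
      refine Finset.sum_congr rfl fun ψ _ => ?_
      rw [← classInner_symm_of_virt (ind_virt e i) (virt_of_irr ψ.2), hm, hm]
    rw [ind_gram e hA] at h
    have h' : gram j i = ∑ ψ, m j ψ * m i ψ := by exact_mod_cast h
    rw [h']
    refine Finset.sum_congr rfl fun ψ _ => ?_
    rw [hc, hc, show ε ψ * m j ψ * (ε ψ * m i ψ) = ε ψ * ε ψ * (m j ψ * m i ψ) by ring, hε, one_mul]
  -- the degrees modulo nine
  have hmod : ∀ ψ, (D ψ : ZMod 9) = (5 * (c ψ 0 + c ψ 1 + c ψ 2 + c ψ 3) : ℤ) := by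
    intro ψ
    obtain ⟨k, hk⟩ := degree_congr e (Chars.irr_isCharacter ψ) (hd ψ) (fun i => hm i ψ)
    have e0 := hc ψ 0; have e1 := hc ψ 1; have e2 := hc ψ 2; have e3 := hc ψ 3
    simp only [Fin.val_zero, Fin.val_one, Fin.val_two] at e0 e1 e2
    rw [show ((3 : Fin 4) : ℕ) = 3 from rfl] at e3
    rw [Fin.sum_univ_four] at hk
    refine sub_eq_zero.mp ?_
    rw [← Int.cast_sub, ZMod.intCast_zmod_eq_zero_iff_dvd]
    refine ⟨ε ψ * (k - (m 0 ψ + m 1 ψ + m 2 ψ + m 3 ψ)), ?_⟩
    rw [e0, e1, e2, e3]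
    simp only [D]
    push_cast
    linear_combination (ε ψ) * hk
  let one' : IrrCharacter G := ⟨fun _ => 1, Chars.isIrrCharacter_one⟩
  have hone : ∀ i : Fin 4, m i one' = if i.val < 2 then 1 else 0 := by
    intro i
    have h := hm i one'
    rw [show (one' : G → ℂ) = fun _ => 1 from rfl, ind_one_inner] at h
    split_ifs at h ⊢ <;> exact_mod_cast h.symm
  have hεone : ε one' = 1 := by simp [ε, hone]
  have hres : ∀ i < 4, sqRes (((-2) * ∏ p ∈ Finset.univ.filter (fun p => c p i ≠ 0),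
      5 * (c p 0 + c p 1 + c p 2 + c p 3) * c p i) % 9) = true := by
    intro i hi
    lift i to Fin 4 using hi
    set S := Finset.univ.filter fun p => c p i.val ≠ 0 with hS
    have hcard : Fintype.card S = 4 := by
      rw [Fintype.card_coe]
      have h := hgram i i
      rw [hg4] at h
      have h2 : ∀ ψ, c ψ i.val * c ψ i.val = if c ψ i.val ≠ 0 then 1 else 0 := fun ψ => by
        rcases hcv i ψ with h | h | h <;> simp [h]
      rw [Finset.sum_congr rfl fun ψ _ => h2 ψ, Finset.sum_boole, ← hS] at h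
      exact_mod_cast h
    let q : Fin 4 → IrrCharacter G := fun j => ((Fintype.equivFinOfCardEq hcard).symm j).1
    have hq : Function.Injective q := Subtype.val_injective.comp (Equiv.injective _)
    have hne : ∀ j, c (q j) i.val ≠ 0 := fun j =>
      (Finset.mem_filter.mp ((Fintype.equivFinOfCardEq hcard).symm j).2).2
    have hcov : ∀ p, (∀ j, p ≠ q j) → c p i.val = 0 := fun p hp => by
      by_contra h
      exact hp (Fintype.equivFinOfCardEq hcard ⟨p, Finset.mem_filter.mpr ⟨Finset.mem_univ _, h⟩⟩)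
        (by simp [q])
    obtain ⟨h0, h1, h2, h3, h4, h5, h6⟩ := row_data hD0 (hcv i) (hSD i) (hSx i) (hSy i) hq hne hcov
      rfl
    obtain ⟨hdet, hs⟩ := units_det fz i
    have hsq : IsSquare ((-2 * (c (q 0) i.val * D (q 0) * (c (q 1) i.val * D (q 1)) *
        (c (q 2) i.val * D (q 2)) * (c (q 3) i.val * D (q 3)))) : ℤ) :=
      row_square (u₁₁ := ((units fz i).1 : ℚ)) (u₂₂ := ((units fz i).2.1 : ℚ))
        (u₁₂ := ((units fz i).2.2 : ℚ)) (s := (detRoot fz i : ℚ)) (X := X) (Y := Y)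
        h0 h1 h2 h3 hg0 (Int.cast_ne_zero.mpr hs)
        (by exact_mod_cast hdet) (by rw [h4]; exact hxx i) (by rw [h5]; exact hyy i)
        (by rw [h6]; exact hxy i)
    have hprod : ((-2 * ∏ p ∈ S, 5 * (c p 0 + c p 1 + c p 2 + c p 3) * c p i.val : ℤ) : ZMod 9) =
        ((-2 * (c (q 0) i.val * D (q 0) * (c (q 1) i.val * D (q 1)) * (c (q 2) i.val * D (q 2)) *
          (c (q 3) i.val * D (q 3))) : ℤ) : ZMod 9) := by
      rw [← Finset.prod_coe_sort S, ← Fintype.prod_equiv (Fintype.equivFinOfCardEq hcard).symm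
        (fun j => 5 * (c (q j) 0 + c (q j) 1 + c (q j) 2 + c (q j) 3) * c (q j) i.val) _ fun j => rfl,
        Fin.prod_univ_four]
      push_cast
      simp only [hmod]
      push_cast
      ring
    have hdiv := (ZMod.intCast_eq_intCast_iff' _ _ 9).mp hprod
    rw [Nat.cast_ofNat] at hdiv
    rw [hdiv]
    rcases square_mod_nine hsq with h | h | h | h <;> rw [h] <;> rfl
  obtain ⟨pts, hinj, hp0, hpc, hout⟩ := search_sound (c := c) (e := one')
    (fun p j hj => hcv ⟨j, hj⟩ p)
    (fun p j hj hne hlow => by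
      lift j to Fin 4 using hj
      have hlow' : ∀ l : Fin 4, l < j → m l p = 0 := fun l hl => by
        have h := hlow l.val hl
        rw [hc] at h
        exact (mul_eq_zero.mp h).resolve_left fun h0 => by simpa [h0] using hε p
      have hmj : m j p ≠ 0 := fun h => hne (by rw [hc, h, mul_zero])
      have he : ε p = m j p := by
        simp only [ε]
        fin_cases j
        · exact if_pos hmj
        · rw [if_neg (not_not.mpr (hlow' 0 (by decide)))]; exact if_pos hmj
        · rw [if_neg (not_not.mpr (hlow' 0 (by decide))), if_neg (not_not.mpr (hlow' 1 (by decide)))]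
          exact if_pos hmj
        · rw [if_neg (not_not.mpr (hlow' 0 (by decide))), if_neg (not_not.mpr (hlow' 1 (by decide))),
            if_neg (not_not.mpr (hlow' 2 (by decide)))]
          exact if_pos hmj
      rw [hc p j, ← he]
      exact hε p)
    (by simp [c, hεone, hone])
    (fun i hi j hj => by
      rw [hgram ⟨i, hi⟩ ⟨j, by omega⟩]
      have h4 : ∀ a b : Fin 4, gram a b = gramN b.val a.val := by decide
      exact h4 _ _)
    hres
  have hsgn0 : ε (pts 0) = 1 := by rw [hp0, hεone]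
  exact ⟨{
    pts := pts
    sgn := fun k => ε (pts k)
    D := fun k => D (pts k)
    inj := hinj
    pts_zero := by rw [hp0]
    sgn_zero := hsgn0
    sgn_sq := fun k => hε _
    deg := fun k => by
      rw [hd]
      congr 1
      show _ = ε (pts k) * (ε (pts k) * (dn (pts k) : ℤ))
      rw [← mul_assoc, hε, one_mul]
    deg_pos := fun k => by
      show 0 < ε (pts k) * (ε (pts k) * (dn (pts k) : ℤ))
      rw [← mul_assoc, hε, one_mul]
      exact_mod_cast hdn0 _
    D_mod := fun k => by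
      have h := (ZMod.intCast_eq_intCast_iff' _ _ 9).mp (hmod (pts k))
      rw [Nat.cast_ofNat, hpc k 0 (by norm_num), hpc k 1 (by norm_num), hpc k 2 (by norm_num),
        hpc k 3 (by norm_num)] at h
      rw [h]
      have h4 : ∀ k : Fin 9, (target.getD k.val []).getD 0 0 + (target.getD k.val []).getD 1 0 +
        (target.getD k.val []).getD 2 0 + (target.getD k.val []).getD 3 0 =
          (target.getD k.val []).sum := by decide
      rw [h4 k]
    inner := fun k i => by
      rw [hm]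
      congr 1
      rw [show colT k i = c (pts k) i.val from (hpc k _ i.isLt).symm, hc, ← mul_assoc, hε, one_mul]
    out := fun ψ hψ i => by
      have h := hout ψ hψ _ i.isLt
      rw [hc] at h
      rw [hm, (mul_eq_zero.mp h).resolve_left fun h0 => by simpa [h0] using hε ψ, Int.cast_zero] }⟩

end Cfsg.Agent.OddChar.Wreath72
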