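import Cfsg.Agent.OddChar.Wreath72Rows

/-!
A subgroup isomorphic to the wreath product of order seventy-two controlling the centralisers of
its elements of order three gives a nontrivial linear character.
-/

set_option autoImplicit false

open Cfsg
open scoped Classical ComplexConjugate

namespace Cfsg.Agent.OddChar.Wreath72

open S3Cubed (virt_comp virt_indFun setA)

variable {G : Type*} [Group G] [Fintype G] {H : Subgroup G} [Fintype H] (e : H ≃* W)

/-- The outer automorphism as an equivalence. -/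
noncomputable def outerEquiv : W ≃* W := MulEquiv.ofBijective outer outer_bij

variable {e}

/-- The constituent number four is linear. -/
theorem Config.D_four (cfg : Config e) (hA : IsTISection H (setA H)) {fz : Bool}
    (hz : Labelled e fz) : cfg.D 4 = 1 := by
  obtain ⟨x, hx⟩ := cfg.exists_val (x := el e r1) (by rw [sq, ← el_mul, show r1 * r1 = 1 by decide, el_one])
  obtain ⟨y, hy⟩ := cfg.exists_val (x := el e r2) (by rw [sq, ← el_mul, show r2 * r2 = 1 by decide, el_one])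
  have hD0 := cfg.D_zero
  set T := cfg.D 1 with hTdef
  set b := cfg.D 3 with hbdef
  set cc := cfg.D 4 with hcdef
  have hT : T % 9 = 2 := by rw [hTdef, cfg.D_mod]; rfl
  have hb : b % 9 = 1 := by rw [hbdef, cfg.D_mod]; rfl
  have hcc : cc % 9 = 1 := by rw [hcdef, cfg.D_mod]; rfl
  let xq : Fin 9 → ℚ := fun k => (x k : ℚ)
  let yq : Fin 9 → ℚ := fun k => (y k : ℚ)
  let fl : Fin 4 → ℚ := ![-(T : ℚ), 1, 0, 0]
  let fb : Fin 4 → ℚ := ![0, -(b : ℚ), (T : ℚ), 0]
  let fb' : Fin 4 → ℚ := ![-(b : ℚ), (T : ℚ), 0, 0]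
  let fc : Fin 4 → ℚ := ![(cc : ℚ), 0, -(T : ℚ), 0]
  have hd0 : dot4 fl (rowQ cfg.D 0) = 0 := by
    simp [dot4, fl, rowQ, rowPts, hD0, ← hTdef]
  have hd1 : dot4 fl (rowQ cfg.D 1) = 0 := by
    simp [dot4, fl, rowQ, rowPts, hD0, ← hTdef]
  have hd1' : dot4 fb (rowQ cfg.D 1) = 0 := by
    simp [dot4, fb, rowQ, rowPts, ← hTdef, ← hbdef]; ring
  have hd2 : dot4 fb' (rowQ cfg.D 2) = 0 := by
    simp [dot4, fb', rowQ, rowPts, ← hTdef, ← hbdef]; ring
  have hd2' : dot4 fc (rowQ cfg.D 2) = 0 := by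
    simp [dot4, fc, rowQ, rowPts, ← hTdef, ← hcdef]; ring
  have hd3 : dot4 fc (rowQ cfg.D 3) = 0 := by
    simp [dot4, fc, rowQ, rowPts, ← hTdef, ← hcdef]; ring
  have A1 := cfg.quad hA hz hx hy 0 hd0 hd0
  have A2 := cfg.quad hA hz hx hy 1 hd1 hd1
  have B2 := cfg.quad hA hz hx hy 1 hd1' hd1'
  have C2 := cfg.quad hA hz hx hy 1 hd1 hd1'
  have B3 := cfg.quad hA hz hx hy 2 hd2 hd2
  have C3 := cfg.quad hA hz hx hy 2 hd2 hd2'
  have D3 := cfg.quad hA hz hx hy 2 hd2' hd2'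
  have D4 := cfg.quad hA hz hx hy 3 hd3 hd3
  simp only [dot4, rowQ, fl, fb, fb', fc, rowPts, Matrix.cons_val_zero, Matrix.cons_val_one,
    Matrix.cons_val, hD0, Int.cast_one, zero_mul, mul_zero, add_zero, zero_add, mul_one, one_mul,
    ← hTdef, ← hbdef, ← hcdef] at A1 A2 B2 C2 B3 C3 D3 D4
  simp only [show ((x 0 : ℚ)) = xq 0 from rfl, show ((x 1 : ℚ)) = xq 1 from rfl,
    show ((x 3 : ℚ)) = xq 3 from rfl, show ((x 4 : ℚ)) = xq 4 from rfl,
    show ((y 0 : ℚ)) = yq 0 from rfl, show ((y 1 : ℚ)) = yq 1 from rfl,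
    show ((y 3 : ℚ)) = yq 3 from rfl, show ((y 4 : ℚ)) = yq 4 from rfl]
    at A1 A2 B2 C2 B3 C3 D3 D4
  have hg0 : (Nat.card G : ℚ) ≠ 0 := by exact_mod_cast Nat.card_pos.ne'
  generalize ((clOf (el e r1)).card : ℚ) = X at A1 A2 B2 C2 B3 C3 D3 D4
  generalize ((clOf (el e r2)).card : ℚ) = Y at A1 A2 B2 C2 B3 C3 D3 D4
  generalize (Nat.card G : ℚ) = gq at A1 A2 B2 C2 B3 C3 D3 D4 hg0
  have hGi : (1 / gq) ≠ 0 := by simp [hg0]
  cases fz
  · simp only [units, Matrix.cons_val_zero, Matrix.cons_val_one, Matrix.cons_val]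
      at A1 A2 B2 C2 B3 C3 D3 D4
    norm_num at A1 A2 B2 C2 B3 C3 D3 D4
    refine arith_none (G := 1 / gq) (t := (-(T : ℚ) * xq 0 + xq 1) * X)
      (s := (-(T : ℚ) * yq 0 + yq 1) * Y) (u := (-(b : ℚ) * xq 1 + T * xq 3) * X)
      (v := (-(b : ℚ) * yq 1 + T * yq 3) * Y) (m := (cc * xq 1 + -(T : ℚ) * xq 4) * X)
      (k := (cc * yq 1 + -(T : ℚ) * yq 4) * Y) hGi hT hb hcc ?_ ?_ ?_ ?_ ?_ ?_ ?_ ?_ <;>
      rw [one_div, inv_mul_eq_iff_eq_mul₀ hg0] <;> push_cast
    · linear_combination (1 / 36 : ℚ) * A1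
    · linear_combination (1 / 36 : ℚ) * A2
    · linear_combination (1 / 36 : ℚ) * B2
    · linear_combination (1 / 36 : ℚ) * B3
    · linear_combination (1 / 36 : ℚ) * C2
    · linear_combination (1 / 36 : ℚ) * C3
    · linear_combination (1 / 36 : ℚ) * D3
    · linear_combination (1 / 36 : ℚ) * D4
  · simp only [units, Matrix.cons_val_zero, Matrix.cons_val_one, Matrix.cons_val]
      at A1 A2 B2 C2 B3 C3 D3 D4
    norm_num at A1 A2 B2 C2 B3 C3 D3 D4
    refine arith_fused (G := 1 / gq) (t := (-(T : ℚ) * xq 0 + xq 1) * X)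
      (s := (-(T : ℚ) * yq 0 + yq 1) * Y) (u := (-(b : ℚ) * xq 1 + T * xq 3) * X)
      (v := (-(b : ℚ) * yq 1 + T * yq 3) * Y) (m := (cc * xq 1 + -(T : ℚ) * xq 4) * X)
      (k := (cc * yq 1 + -(T : ℚ) * yq 4) * Y) hGi hT hb hcc ?_ ?_ ?_ ?_ ?_ ?_ ?_ ?_ <;>
      rw [one_div, inv_mul_eq_iff_eq_mul₀ hg0] <;> push_cast
    · linear_combination (1 / 576 : ℚ) * A1
    · linear_combination (1 / 36 : ℚ) * A2
    · linear_combination (1 / 36 : ℚ) * B2
    · linear_combination (1 / 144 : ℚ) * B3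
    · linear_combination (1 / 36 : ℚ) * C2
    · linear_combination (1 / 144 : ℚ) * C3
    · linear_combination (1 / 144 : ℚ) * D3
    · linear_combination (1 / 36 : ℚ) * D4

variable (e)

include e in
/-- A nontrivial linear character exists. -/
theorem exists_linear (hA : IsTISection H (setA H)) : ∃ φ : G →* ℂˣ, φ ≠ 1 := by
  obtain ⟨o1, o2, o3⟩ := outer_classes
  have main : ∀ (e' : H ≃* W) (fz : Bool), Labelled e' fz → ∃ φ : G →* ℂˣ, φ ≠ 1 := by
    intro e' fz hz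
    obtain ⟨cfg⟩ := exists_config e' hA hz
    have h4 := cfg.D_four hA hz
    have hs : cfg.sgn 4 = 1 := by
      have h := cfg.deg_pos 4
      rw [h4, mul_one] at h
      rcases Int.eq_one_or_neg_one_of_mul_eq_one (cfg.sgn_sq 4) with h' | h'
      · exact h'
      · omega
    obtain ⟨φ, hφ⟩ := Chars.exists_hom_of_degree_one (Chars.irr_isCharacter (cfg.pts 4))
      (by rw [cfg.deg, h4, hs]; norm_num)
    refine ⟨φ, fun h => absurd (cfg.inj (Subtype.ext ?_ : cfg.pts 4 = cfg.pts 0)) (by decide)⟩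
    rw [hφ, h, cfg.pts_zero]
    funext g
    simp
  by_cases h1 : IsConj (el e r1) (el e z0)
  · exact main e true h1
  by_cases h2 : IsConj (el e r2) (el e z0)
  · refine main (e.trans outerEquiv.symm) true ?_
    have hel' : ∀ w, el (e.trans outerEquiv.symm) w = el e (outer w) := by
      intro w
      simp only [el, MulEquiv.symm_trans_apply, MulEquiv.symm_symm]
      rfl
    show IsConj _ _
    rw [hel', hel']
    exact (el_isConj e o1).trans (h2.trans (el_isConj e o3).symm)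
  · exact main e false ⟨h1, h2⟩

end Cfsg.Agent.OddChar.Wreath72
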