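import Cfsg.Agent.OddChar.Wreath72
import Cfsg.Agent.OddChar.TICongr
import Mathlib.GroupTheory.SpecificGroups.Dihedral
import Mathlib.GroupTheory.Complement
import Mathlib.GroupTheory.PGroup
import Mathlib.Logic.Equiv.Fin.Basic
import Mathlib.Logic.Equiv.Sum
import Mathlib.Tactic.IntervalCases

/-!
A self-centralising normal elementary subgroup of order nine with a dihedral complement of order
eight: the group is the wreath product of order seventy-two.
-/

set_option autoImplicit false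

open scoped Classical

namespace Cfsg.Agent.OddChar.Wreath72

theorem four_eq {G : Type*} [Group G] {m : G} (h : m ^ 3 = 1) : m ^ 2 * m ^ 2 = m := by
  rw [← pow_add, pow_succ m 3, h, one_mul]

theorem eq_one_of_sq {G : Type*} [Group G] {m : G} (h : m ^ 3 = 1) (h2 : m = m⁻¹) : m = 1 := by
  have h4 : m * m = 1 := by nth_rw 2 [h2]; exact mul_inv_cancel m
  rw [pow_succ, sq, h4, one_mul] at h
  exact h

theorem cases_of_three {G : Type*} [Group G] {L : Subgroup G} (hL : Nat.card L = 3) {m x : G}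
    (hm : m ∈ L) (hm1 : m ≠ 1) (hx : x ∈ L) : x = 1 ∨ x = m ∨ x = m⁻¹ := by
  haveI : Fact (Nat.Prime 3) := ⟨by norm_num⟩
  have h : Subgroup.zpowers (⟨m, hm⟩ : L) = ⊤ :=
    zpowers_eq_top_of_prime_card hL fun h => hm1 (congrArg Subtype.val h)
  obtain ⟨k, hk⟩ := Subgroup.mem_zpowers_iff.mp (h ▸ Subgroup.mem_top (⟨x, hx⟩ : L))
  have hk' : m ^ k = x := congrArg Subtype.val hk
  have h3 : m ^ (3 : ℤ) = 1 := by
    have h := pow_card_eq_one' (x := (⟨m, hm⟩ : L))
    rw [hL] at h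
    rw [show (3 : ℤ) = ((3 : ℕ) : ℤ) from rfl, zpow_natCast]
    exact congrArg Subtype.val h
  have hr : m ^ k = m ^ (k % 3) := by
    conv_lhs => rw [← Int.emod_add_mul_ediv k 3, zpow_add, zpow_mul, h3, one_zpow, mul_one]
  rw [hr] at hk'
  rcases (show k % 3 = 0 ∨ k % 3 = 1 ∨ k % 3 = 2 by omega) with e | e | e <;> rw [e] at hk'
  · exact Or.inl (by simpa using hk'.symm)
  · exact Or.inr (Or.inl (by simpa using hk'.symm))
  · refine Or.inr (Or.inr ?_)
    rw [← hk']
    refine eq_inv_of_mul_eq_one_left ?_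
    rw [← zpow_add_one]
    exact h3

variable {N : Type*} [Group N] [Fintype N]

/-- The elements of `M` fixed by `x`. -/
def fixIn (M : Subgroup N) (x : N) : Subgroup N := M ⊓ Subgroup.centralizer {x}

theorem mem_fixIn {M : Subgroup N} {x m : N} : m ∈ fixIn M x ↔ m ∈ M ∧ x * m * x⁻¹ = m := by
  rw [fixIn, Subgroup.mem_inf, Subgroup.mem_centralizer_singleton_iff, mul_inv_eq_iff_eq_mul]
  exact ⟨fun h => ⟨h.1, h.2.symm⟩, fun h => ⟨h.1, h.2.symm⟩⟩

/-- The isomorphism with the wreath product. -/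
theorem exists_iso (M S : Subgroup N) [M.Normal] (hM9 : Nat.card M = 9)
    (hM3 : ∀ m ∈ M, m ^ 3 = 1) (hself : Subgroup.centralizer (M : Set N) = M)
    (e8 : S ≃* DihedralGroup 4) (hN : Nat.card N = 72) : Nonempty (N ≃* W) := by
  haveI : Fact (Nat.Prime 3) := ⟨by norm_num⟩
  have hS8 : Nat.card S = 8 := by rw [Nat.card_congr e8.toEquiv, DihedralGroup.nat_card]
  have hcomp : Subgroup.IsComplement' M S :=
    Subgroup.isComplement'_of_coprime (by rw [hM9, hS8, hN]) (by rw [hM9, hS8]; norm_num)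
  have hdec : ∀ n : N, ∃ m ∈ M, ∃ s ∈ S, m * s = n := fun n => by
    obtain ⟨⟨a, b⟩, h⟩ := hcomp.2 n
    exact ⟨a, a.2, b, b.2, h⟩
  have hMS : ∀ x, x ∈ M → x ∈ S → x = 1 := fun x hx hx' => by
    have := hcomp.disjoint.le_bot ⟨hx, hx'⟩
    simpa using this
  have hab : ∀ a ∈ M, ∀ b ∈ M, a * b = b * a := by
    intro a ha b hb
    rw [← SetLike.mem_coe] at ha
    have hb' : b ∈ Subgroup.centralizer (M : Set N) := by rw [hself]; exact hb
    exact Subgroup.mem_centralizer_iff.mp hb' a ha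
  have hfaith : ∀ s ∈ S, (∀ m ∈ M, s * m * s⁻¹ = m) → s = 1 := fun s hs h => by
    refine hMS s ?_ hs
    rw [← hself, Subgroup.mem_centralizer_iff]
    exact fun m hm => (mul_inv_eq_iff_eq_mul.mp (h m hm)).symm
  have hMc : ∀ g : N, ∀ m ∈ M, g * m * g⁻¹ ∈ M := fun g m hm => ‹M.Normal›.conj_mem m hm g
  let el : DihedralGroup 4 → N := fun d => (e8.symm d : N)
  have elS : ∀ d, el d ∈ S := fun d => (e8.symm d).2
  have el_mul : ∀ a b, el (a * b) = el a * el b := fun a b => by simp [el]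
  have el_one : el 1 = 1 := by simp [el]
  have el_inj : ∀ a b, el a = el b → a = b := fun a b h =>
    e8.symm.injective (Subtype.ext h)
  have el_inv : ∀ a, el a⁻¹ = (el a)⁻¹ := fun a => by simp [el]
  have el_surj : ∀ s ∈ S, ∃ d, el d = s := fun s hs => ⟨e8 ⟨s, hs⟩, by simp [el]⟩
  -- every element of `M` splits along an involution
  have hsplit : ∀ x : N, x * x = 1 → ∀ m ∈ M, ∃ a b, a ∈ fixIn M x ∧
      (b ∈ M ∧ x * b * x⁻¹ = b⁻¹) ∧ a * b = m := by
    intro x hx m hm
    have hxi : x⁻¹ = x := inv_eq_of_mul_eq_one_left hx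
    set m' := x * m * x⁻¹ with hm'
    have hm'M : m' ∈ M := hMc x m hm
    have hback : x * m' * x⁻¹ = m := by
      rw [hm', hxi]
      calc x * (x * m * x) * x = x * x * m * (x * x) := by group
        _ = m := by rw [hx, one_mul, mul_one]
    have hc : m * m' = m' * m := hab m hm m' hm'M
    refine ⟨(m * m') ^ 2, (m * m'⁻¹) ^ 2, mem_fixIn.mpr ⟨pow_mem (mul_mem hm hm'M) 2, ?_⟩,
      ⟨pow_mem (mul_mem hm (inv_mem hm'M)) 2, ?_⟩, ?_⟩
    · rw [← conj_pow, show x * (m * m') * x⁻¹ = (x * m * x⁻¹) * (x * m' * x⁻¹) by group, hback,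
        ← hm', ← hc]
    · rw [← conj_pow, show x * (m * m'⁻¹) * x⁻¹ = (x * m * x⁻¹) * (x * m' * x⁻¹)⁻¹ by group, hback,
        ← hm', ← inv_pow, mul_inv_rev, inv_inv]
    · rw [← (show Commute (m * m') (m * m'⁻¹) from hab _ (mul_mem hm hm'M) _
        (mul_mem hm (inv_mem hm'M))).mul_pow, show m * m' * (m * m'⁻¹) = m * (m' * m) * m'⁻¹ by group,
        ← hc, show m * (m * m') * m'⁻¹ = m ^ 2 by rw [sq]; group, ← pow_mul, pow_mul, sq (m ^ 2)]
      exact four_eq (hM3 m hm)
  have hfix_card : ∀ x : N, Nat.card (fixIn M x) = 1 ∨ Nat.card (fixIn M x) = 3 ∨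
      Nat.card (fixIn M x) = 9 := by
    intro x
    have h : Nat.card (fixIn M x) ∣ 3 ^ 2 := by
      rw [show (3 : ℕ) ^ 2 = Nat.card M by rw [hM9]; norm_num]
      exact Subgroup.card_dvd_of_le inf_le_left
    obtain ⟨k, hk, hk'⟩ := (Nat.dvd_prime_pow (by norm_num)).mp h
    interval_cases k <;> simp_all
  have hfix_top : ∀ x ∈ S, Nat.card (fixIn M x) = 9 → x = 1 := fun x hx h => by
    refine hfaith x hx fun m hm => ((mem_fixIn (M := M) (x := x) (m := m)).mp ?_).2
    have he : fixIn M x = M := Subgroup.eq_of_le_of_card_ge inf_le_left (by rw [h, hM9])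
    rw [he]; exact hm
  -- the central involution inverts `M`
  set z := el (DihedralGroup.r 2) with hz
  set a := el (DihedralGroup.r 1) with ha
  have hzz : z * z = 1 := by rw [hz, ← el_mul, ← el_one]; congr 1
  have hz1 : z ≠ 1 := fun h => by
    rw [← el_one] at h
    exact absurd (el_inj _ _ h) (by decide)
  have haa : a * a = z := by rw [ha, hz, ← el_mul]; congr 1
  have hzneg : ∀ m ∈ M, z * m * z⁻¹ = m⁻¹ := by
    have hfix1 : fixIn M z = ⊥ := by
      rcases hfix_card z with h | h | h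
      · exact Subgroup.card_eq_one.mp h
      swap
      · exact absurd (hfix_top z (elS _) h) hz1
      exfalso
      -- the inverted subgroup
      let I : Subgroup N :=
        { carrier := {m | m ∈ M ∧ z * m * z⁻¹ = m⁻¹}
          one_mem' := ⟨M.one_mem, by group⟩
          mul_mem' := fun {p q} hp hq => ⟨M.mul_mem hp.1 hq.1, by
            rw [mul_inv_rev, ← hab _ (inv_mem hp.1) _ (inv_mem hq.1), ← hp.2, ← hq.2]; group⟩
          inv_mem' := fun {p} hp => ⟨M.inv_mem hp.1, by rw [← conj_inv, hp.2]⟩ }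
      have hI : Nat.card I = 3 := by
        have hbij : Function.Bijective
            (fun p : fixIn M z × I => (⟨p.1.1 * p.2.1, M.mul_mem p.1.2.1 p.2.2.1⟩ : M)) := by
          refine ⟨fun p q hpq => ?_, fun m => ?_⟩
          · have h0 : q.1.1⁻¹ * p.1.1 = q.2.1 * p.2.1⁻¹ := by
              have h' : p.1.1 * p.2.1 = q.1.1 * q.2.1 := congrArg Subtype.val hpq
              calc q.1.1⁻¹ * p.1.1 = q.1.1⁻¹ * (p.1.1 * p.2.1) * p.2.1⁻¹ := by group
                _ = _ := by rw [h']; group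
            have h1 := mem_fixIn.mp ((fixIn M z).mul_mem ((fixIn M z).inv_mem q.1.2) p.1.2)
            have h2 : q.1.1⁻¹ * p.1.1 ∈ I := h0 ▸ I.mul_mem q.2.2 (I.inv_mem p.2.2)
            have h3 : q.1.1⁻¹ * p.1.1 = 1 :=
              eq_one_of_sq (hM3 _ h1.1) (h1.2.symm.trans h2.2)
            have hp1 : p.1 = q.1 := Subtype.ext (inv_mul_eq_one.mp h3).symm
            refine Prod.ext hp1 (Subtype.ext ?_)
            rw [h0, mul_inv_eq_one] at h3
            exact h3.symm
          · obtain ⟨p, q, hp, hq, hpq⟩ := hsplit z hzz m m.2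
            exact ⟨(⟨p, hp⟩, ⟨q, hq⟩), Subtype.ext hpq⟩
        have := Nat.card_congr (Equiv.ofBijective _ hbij)
        rw [Nat.card_prod, h, hM9] at this
        omega
      -- an element of order four acts on a subgroup of order three through its square
      have hsq : ∀ L : Subgroup N, Nat.card L = 3 → (∀ m ∈ L, a * m * a⁻¹ ∈ L) →
          ∀ m ∈ L, z * m * z⁻¹ = m := by
        intro L hL hinv m hm
        by_cases hm1 : m = 1
        · subst hm1; group
        have h2 : z * m * z⁻¹ = a * (a * m * a⁻¹) * a⁻¹ := by rw [← haa]; group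
        rcases cases_of_three hL hm hm1 (hinv m hm) with e | e | e
        · exact absurd (conj_eq_one_iff.mp e) hm1
        · rw [h2, e, e]
        · rw [h2, e, ← conj_inv, e, inv_inv]
      have haz : a * z = z * a := by rw [← haa, mul_assoc]
      have hcj : ∀ m, z * (a * m * a⁻¹) * z⁻¹ = a * (z * m * z⁻¹) * a⁻¹ := fun m => by
        calc z * (a * m * a⁻¹) * z⁻¹ = (z * a) * m * (z * a)⁻¹ := by group
          _ = (a * z) * m * (a * z)⁻¹ := by rw [haz]
          _ = _ := by group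
      have e1 := hsq (fixIn M z) h fun m hm => by
        obtain ⟨h1, h2⟩ := mem_fixIn.mp hm
        exact mem_fixIn.mpr ⟨hMc a m h1, by rw [hcj, h2]⟩
      have e2 := hsq I hI fun m hm => ⟨hMc a m hm.1, by rw [hcj, hm.2, conj_inv]⟩
      refine hz1 (hfaith z (elS _) fun m hm => ?_)
      obtain ⟨p, q, hp, hq, rfl⟩ := hsplit z hzz m hm
      calc z * (p * q) * z⁻¹ = (z * p * z⁻¹) * (z * q * z⁻¹) := by group
        _ = p * q := by rw [e1 p hp, e2 q hq]
    intro m hm
    obtain ⟨p, q, hp, hq, rfl⟩ := hsplit z hzz m hm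
    rw [hfix1, Subgroup.mem_bot] at hp
    subst hp
    rw [one_mul]
    exact hq.2
  -- the reflections
  set r := el (DihedralGroup.sr 0) with hr
  set r' := el (DihedralGroup.sr 2) with hr'
  set t := el (DihedralGroup.sr 1) with ht
  have hrr : r * r = 1 := by rw [hr, ← el_mul, ← el_one]; congr 1
  have hr'z : r' = r * z := by rw [hr, hz, hr', ← el_mul]; congr 1
  have htr : t * r * t⁻¹ = r' := by rw [ht, hr, hr', ← el_inv, ← el_mul, ← el_mul]; congr 1
  have hinvr : ∀ b ∈ M, (r * b * r⁻¹ = b⁻¹ ↔ b ∈ fixIn M r') := by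
    intro b hb
    have h : r' * b * r'⁻¹ = (r * b * r⁻¹)⁻¹ := by
      rw [hr'z, show r * z * b * (r * z)⁻¹ = r * (z * b * z⁻¹) * r⁻¹ by group, hzneg b hb, conj_inv]
    rw [mem_fixIn, h, inv_eq_iff_eq_inv]
    exact ⟨fun h' => ⟨hb, h'⟩, fun h' => h'.2⟩
  have hLr : Nat.card (fixIn M r) = 3 := by
    have hsame : Nat.card (fixIn M r) = Nat.card (fixIn M r') := by
      refine Nat.card_congr ?_
      refine
        { toFun := fun m => ⟨t * m.1 * t⁻¹, ?_⟩
          invFun := fun m => ⟨t⁻¹ * m.1 * t, ?_⟩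
          left_inv := fun m => Subtype.ext (by group)
          right_inv := fun m => Subtype.ext (by group) }
      · obtain ⟨v, hv⟩ := m
        obtain ⟨h1, h2⟩ := mem_fixIn.mp hv
        refine mem_fixIn.mpr ⟨hMc t _ h1, ?_⟩
        show r' * (t * v * t⁻¹) * r'⁻¹ = _
        rw [← htr]
        calc t * r * t⁻¹ * (t * v * t⁻¹) * (t * r * t⁻¹)⁻¹ = t * (r * v * r⁻¹) * t⁻¹ := by group
          _ = _ := by rw [h2]
      · obtain ⟨v, hv⟩ := m
        obtain ⟨h1, h2⟩ := mem_fixIn.mp hv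
        refine mem_fixIn.mpr ⟨by simpa using hMc t⁻¹ _ h1, ?_⟩
        rw [← htr] at h2
        calc r * (t⁻¹ * v * t) * r⁻¹ = t⁻¹ * (t * r * t⁻¹ * v * (t * r * t⁻¹)⁻¹) * t := by group
          _ = _ := by rw [h2]
    have hbij : Function.Bijective
        (fun p : fixIn M r × fixIn M r' => (⟨p.1.1 * p.2.1, M.mul_mem p.1.2.1 p.2.2.1⟩ : M)) := by
      refine ⟨fun p q hpq => ?_, fun m => ?_⟩
      · have h0 : q.1.1⁻¹ * p.1.1 = q.2.1 * p.2.1⁻¹ := by
          have h' : p.1.1 * p.2.1 = q.1.1 * q.2.1 := congrArg Subtype.val hpq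
          calc q.1.1⁻¹ * p.1.1 = q.1.1⁻¹ * (p.1.1 * p.2.1) * p.2.1⁻¹ := by group
            _ = _ := by rw [h']; group
        have h1 := mem_fixIn.mp ((fixIn M r).mul_mem ((fixIn M r).inv_mem q.1.2) p.1.2)
        have h2 : q.1.1⁻¹ * p.1.1 ∈ fixIn M r' :=
          h0 ▸ (fixIn M r').mul_mem q.2.2 ((fixIn M r').inv_mem p.2.2)
        have h3 : q.1.1⁻¹ * p.1.1 = 1 :=
          eq_one_of_sq (hM3 _ h1.1) (h1.2.symm.trans ((hinvr _ h1.1).mpr h2))
        refine Prod.ext (Subtype.ext (inv_mul_eq_one.mp h3).symm) (Subtype.ext ?_)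
        rw [h0, mul_inv_eq_one] at h3
        exact h3.symm
      · obtain ⟨p, q, hp, ⟨hqM, hq⟩, hpq⟩ := hsplit r hrr m m.2
        exact ⟨(⟨p, hp⟩, ⟨q, (hinvr q hqM).mp hq⟩), Subtype.ext hpq⟩
    have := Nat.card_congr (Equiv.ofBijective _ hbij)
    rw [Nat.card_prod, hM9, ← hsame] at this
    rcases hfix_card r with h | h | h <;> rw [h] at this <;> omega
  -- the centraliser of a reflection
  have hconjmod : ∀ n x : N, ∀ s ∈ S, x = n * r * n⁻¹ → n * s⁻¹ ∈ M → (s * r * s⁻¹)⁻¹ * x ∈ M := by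
    intro n x s _ hx hm
    set m := n * s⁻¹
    have hn : n = m * s := by simp [m]
    rw [hx, hn, show (s * r * s⁻¹)⁻¹ * (m * s * r * (m * s)⁻¹) =
      (s * r * s⁻¹)⁻¹ * m * (s * r * s⁻¹)⁻¹⁻¹ * m⁻¹ by group]
    exact M.mul_mem (hMc _ m hm) (M.inv_mem hm)
  have hC12 : Nat.card (Subgroup.centralizer ({r} : Set N)) = 12 := by
    have hpiece : ∀ n : N, n * r * n⁻¹ = r →
        ∃ p ∈ fixIn M r, ∃ d : DihedralGroup 4, d * DihedralGroup.sr 0 = DihedralGroup.sr 0 * d ∧
          p * el d = n := by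
      intro n hn
      obtain ⟨m, hm, s, hs, rfl⟩ := hdec n
      obtain ⟨d, rfl⟩ := el_surj s hs
      have h1 := hconjmod (m * el d) r (el d) hs hn.symm (by simpa using hm)
      have h2 : (el d * r * (el d)⁻¹)⁻¹ * r = 1 :=
        hMS _ h1 (S.mul_mem (S.inv_mem (S.mul_mem (S.mul_mem hs (elS _)) (S.inv_mem hs))) (elS _))
      have h3 : el d * r * (el d)⁻¹ = r := inv_mul_eq_one.mp h2
      refine ⟨m, mem_fixIn.mpr ⟨hm, ?_⟩, d, el_inj _ _ ?_, rfl⟩
      · have h5 : m * r * m⁻¹ = r := by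
          calc m * r * m⁻¹ = m * (el d * r * (el d)⁻¹) * m⁻¹ := by rw [h3]
            _ = m * el d * r * (m * el d)⁻¹ := by group
            _ = r := hn
        rw [mul_inv_eq_iff_eq_mul] at h5 ⊢
        exact h5.symm
      · rw [el_mul, el_mul, ← hr]
        exact mul_inv_eq_iff_eq_mul.mp h3
    let D := {d : DihedralGroup 4 // d * DihedralGroup.sr 0 = DihedralGroup.sr 0 * d}
    let f : fixIn M r × D → Subgroup.centralizer ({r} : Set N) := fun p =>
      ⟨p.1.1 * el p.2.1, Subgroup.mem_centralizer_singleton_iff.mpr (by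
        have h1 : p.1.1 * r = r * p.1.1 := Subgroup.mem_centralizer_singleton_iff.mp p.1.2.2
        have h2 : el p.2.1 * r = r * el p.2.1 := by
          obtain ⟨_, d, hd⟩ := p
          show el d * el _ = el _ * el d
          rw [← el_mul, ← el_mul, hd]
        rw [mul_assoc, h2, ← mul_assoc, h1, mul_assoc])⟩
    have hf : Function.Bijective f := by
      refine ⟨fun p q hpq => ?_, fun n => ?_⟩
      · have h' : p.1.1 * el p.2.1 = q.1.1 * el q.2.1 := congrArg Subtype.val hpq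
        have h0 : q.1.1⁻¹ * p.1.1 = el q.2.1 * (el p.2.1)⁻¹ := by
          calc q.1.1⁻¹ * p.1.1 = q.1.1⁻¹ * (p.1.1 * el p.2.1) * (el p.2.1)⁻¹ := by group
            _ = _ := by rw [h']; group
        have h1 : q.1.1⁻¹ * p.1.1 = 1 := hMS _ (M.mul_mem (M.inv_mem q.1.2.1) p.1.2.1)
          (h0 ▸ S.mul_mem (elS _) (S.inv_mem (elS _)))
        refine Prod.ext (Subtype.ext (inv_mul_eq_one.mp h1).symm) (Subtype.ext (el_inj _ _ ?_))
        rw [h0, mul_inv_eq_one] at h1
        exact h1.symm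
      · have hn : n.1 * r * n.1⁻¹ = r := by
          rw [mul_inv_eq_iff_eq_mul, Subgroup.mem_centralizer_singleton_iff.mp n.2]
        obtain ⟨p, hp, d, hd, hpd⟩ := hpiece _ hn
        exact ⟨(⟨p, hp⟩, ⟨d, hd⟩), Subtype.ext hpd⟩
    rw [← Nat.card_congr (Equiv.ofBijective f hf), Nat.card_prod, hLr]
    have : Fintype.card D = 4 := by decide
    rw [Nat.card_eq_fintype_card, this]
  -- the six conjugates
  let Ω := {x : N // IsConj r x}
  have hΩ : Nat.card Ω = 6 := by
    have h := card_clOf r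
    have h' := Subgroup.card_mul_index (Subgroup.centralizer ({r} : Set N))
    rw [hC12, hN, ← h] at h'
    have : Nat.card Ω = (clOf r).card := by
      rw [← Nat.card_eq_finsetCard]
      exact Nat.card_congr (Equiv.subtypeEquivRight fun x => mem_clOf.symm)
    omega
  let P : Ω → Prop := fun x => r⁻¹ * x.1 ∈ M
  have hrr' : r⁻¹ * r' ∉ M := fun h => by
    have h1 := hMS _ h (S.mul_mem (S.inv_mem (elS _)) (elS _))
    exact absurd (el_inj _ _ (inv_mul_eq_one.mp h1)) (by decide)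
  have htwo : ∀ x : Ω, P x ∨ r'⁻¹ * x.1 ∈ M := by
    rintro ⟨x, hx⟩
    obtain ⟨n, rfl⟩ := isConj_iff.mp hx
    obtain ⟨m, hm, s, hs, rfl⟩ := hdec n
    obtain ⟨d, rfl⟩ := el_surj s hs
    have h1 := hconjmod (m * el d) _ (el d) hs rfl (by simpa using hm)
    have h2 : ∀ d : DihedralGroup 4, d * DihedralGroup.sr 0 * d⁻¹ = DihedralGroup.sr 0 ∨
        d * DihedralGroup.sr 0 * d⁻¹ = DihedralGroup.sr 2 := by decide
    rcases h2 d with h | h
    · left
      show r⁻¹ * _ ∈ M
      rwa [show el d * r * (el d)⁻¹ = r by rw [hr, ← el_inv, ← el_mul, ← el_mul, h]] at h1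
    · right
      rwa [show el d * r * (el d)⁻¹ = r' by rw [hr, hr', ← el_inv, ← el_mul, ← el_mul, h]] at h1
  have hnP : ∀ x : Ω, ¬ P x ↔ r'⁻¹ * x.1 ∈ M := by
    refine fun x => ⟨(htwo x).resolve_left, fun h h' => hrr' ?_⟩
    have := M.mul_mem h' (M.inv_mem h)
    simpa [mul_assoc] using this
  have htt : t * r' * t⁻¹ = r := by rw [ht, hr, hr', ← el_inv, ← el_mul, ← el_mul]; congr 1
  let τ : Ω ≃ Ω :=
    { toFun := fun x => ⟨t * x.1 * t⁻¹, x.2.trans (isConj_iff.mpr ⟨t, rfl⟩)⟩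
      invFun := fun x => ⟨t⁻¹ * x.1 * t, x.2.trans (isConj_iff.mpr ⟨t⁻¹, by rw [inv_inv]⟩)⟩
      left_inv := fun x => Subtype.ext (by group)
      right_inv := fun x => Subtype.ext (by group) }
  have hτ : ∀ x : Ω, P x ↔ ¬ P (τ x) := by
    intro x
    rw [hnP]
    constructor
    · intro h
      show r'⁻¹ * (t * x.1 * t⁻¹) ∈ M
      rw [← htr, show (t * r * t⁻¹)⁻¹ * (t * x.1 * t⁻¹) = t * (r⁻¹ * x.1) * t⁻¹ by group]
      exact hMc t _ h
    · intro h
      have h2 := hMc t⁻¹ _ h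
      show r⁻¹ * x.1 ∈ M
      convert h2 using 1
      show r⁻¹ * x.1 = t⁻¹ * (r'⁻¹ * (t * x.1 * t⁻¹)) * t⁻¹⁻¹
      rw [← htr]
      group
  have hcardP : Fintype.card {x : Ω // P x} = 3 ∧ Fintype.card {x : Ω // ¬ P x} = 3 := by
    have h1 : Fintype.card {x : Ω // P x} = Fintype.card {x : Ω // ¬ P x} :=
      Fintype.card_congr (τ.subtypeEquiv hτ)
    have h2 := Fintype.card_congr (Equiv.sumCompl P)
    rw [Fintype.card_sum, ← Nat.card_eq_fintype_card (α := Ω), hΩ] at h2
    omega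
  let ω : Fin 6 ≃ Ω := finSumFinEquiv.symm.trans
    ((Equiv.sumCongr (Fintype.equivFinOfCardEq hcardP.1).symm
      (Fintype.equivFinOfCardEq hcardP.2).symm).trans (Equiv.sumCompl P))
  have hblk : ∀ i, blk i = true ↔ P (ω i) := by
    intro i
    obtain ⟨s | s, rfl⟩ := (finSumFinEquiv (m := 3) (n := 3)).surjective i
    · simp only [ω, Equiv.trans_apply, Equiv.symm_apply_apply, Equiv.sumCongr_apply, Sum.map_inl,
        Equiv.sumCompl_apply_inl]
      refine iff_of_true ?_ ((Fintype.equivFinOfCardEq hcardP.1).symm s).2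
      simp [blk, finSumFinEquiv]
    · simp only [ω, Equiv.trans_apply, Equiv.symm_apply_apply, Equiv.sumCongr_apply, Sum.map_inr,
        Equiv.sumCompl_apply_inr]
      refine iff_of_false ?_ ((Fintype.equivFinOfCardEq hcardP.2).symm s).2
      simp [blk, finSumFinEquiv]
  let act : N →* Equiv.Perm Ω :=
    { toFun := fun n =>
        { toFun := fun x => ⟨n * x.1 * n⁻¹, x.2.trans (isConj_iff.mpr ⟨n, rfl⟩)⟩
          invFun := fun x => ⟨n⁻¹ * x.1 * n, x.2.trans (isConj_iff.mpr ⟨n⁻¹, by rw [inv_inv]⟩)⟩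
          left_inv := fun x => Subtype.ext (by group)
          right_inv := fun x => Subtype.ext (by group) }
      map_one' := Equiv.ext fun x => Subtype.ext (by simp)
      map_mul' := fun p q => Equiv.ext fun x => Subtype.ext (by
        show p * q * x.1 * (p * q)⁻¹ = p * (q * x.1 * q⁻¹) * p⁻¹
        group) }
  let φ : N →* Equiv.Perm (Fin 6) := (ω.symm.permCongrHom.toMonoidHom).comp act
  have hsame : ∀ x y : Ω, (P x ↔ P y) ↔ x.1⁻¹ * y.1 ∈ M := by
    intro x y
    constructor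
    · intro h
      by_cases hx : P x
      · have := M.mul_mem (M.inv_mem hx) (h.mp hx)
        simpa [mul_assoc] using this
      · have := M.mul_mem (M.inv_mem ((hnP x).mp hx)) ((hnP y).mp fun hy => hx (h.mpr hy))
        simpa [mul_assoc] using this
    · intro h
      constructor <;> intro hp
      · have := M.mul_mem hp h
        show r⁻¹ * y.1 ∈ M
        simpa [mul_assoc] using this
      · have := M.mul_mem hp (M.inv_mem h)
        show r⁻¹ * x.1 ∈ M
        simpa [mul_assoc] using this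
  have hφK : ∀ n, φ n ∈ K := by
    intro n i j
    have he : ∀ i, (φ n i) = ω.symm (act n (ω i)) := fun i => by simp [φ]
    have hb : ∀ i j, blk i = blk j ↔ (P (ω i) ↔ P (ω j)) := fun i j => by
      rw [← hblk i, ← hblk j, Bool.eq_iff_iff]
    rw [hb, hb, he, he, Equiv.apply_symm_apply,
      Equiv.apply_symm_apply, hsame, hsame]
    show _ ↔ (n * (ω i).1 * n⁻¹)⁻¹ * (n * (ω j).1 * n⁻¹) ∈ M
    rw [show (n * (ω i).1 * n⁻¹)⁻¹ * (n * (ω j).1 * n⁻¹) = n * ((ω i).1⁻¹ * (ω j).1) * n⁻¹ by group]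
    exact ⟨fun h => hMc n _ h, fun h => by
      have h2 := hMc n⁻¹ _ h
      simpa [mul_assoc] using h2⟩
  have hinj : Function.Injective (φ.codRestrict K hφK) := by
    rw [injective_iff_map_eq_one]
    intro n hn
    have hact : act n = 1 := by
      have h1 : φ n = 1 := congrArg Subtype.val hn
      refine ω.symm.permCongr.injective (h1.trans ?_)
      ext x
      simp
    have hn' : ∀ x : Ω, n * x.1 * n⁻¹ = x.1 := fun x =>
      congrArg Subtype.val (Equiv.ext_iff.mp hact x)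
    have hnM : n ∈ M := by
      rw [← hself, Subgroup.mem_centralizer_iff]
      intro m hm
      -- the commutator fixes both reflections
      have hu : n * m * n⁻¹ * m⁻¹ ∈ M := M.mul_mem (hMc n m hm) (M.inv_mem hm)
      have hfix : ∀ x : Ω, n * m * n⁻¹ * m⁻¹ ∈ fixIn M x.1 := by
        intro x
        refine ⟨hu, Subgroup.mem_centralizer_singleton_iff.mpr ?_⟩
        have h1 : Commute n x.1 := mul_inv_eq_iff_eq_mul.mp (hn' x)
        have h2 : Commute n (m⁻¹ * x.1 * m) := mul_inv_eq_iff_eq_mul.mp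
          (hn' ⟨m⁻¹ * x.1 * m, x.2.trans (isConj_iff.mpr ⟨m⁻¹, by rw [inv_inv]⟩)⟩)
        have h3 : Commute (m * n * m⁻¹) x.1 := by
          have := h2.map (MulAut.conj m).toMonoidHom
          simpa [mul_assoc] using this
        have : Commute (n * (m * n * m⁻¹)⁻¹) x.1 := h1.mul_left h3.inv_left
        rw [show n * m * n⁻¹ * m⁻¹ = n * (m * n * m⁻¹)⁻¹ by group]
        exact this
      have hA := mem_fixIn.mp (hfix ⟨r, IsConj.refl r⟩)
      have hB := (hinvr _ hu).mpr (hfix ⟨r', isConj_iff.mpr ⟨t, htr⟩⟩)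
      have h1 := eq_one_of_sq (hM3 _ hu) (hA.2.symm.trans hB)
      have h2 : n * m * n⁻¹ = m := mul_inv_eq_one.mp h1
      exact (mul_inv_eq_iff_eq_mul.mp h2).symm
    have hA : n ∈ fixIn M r := mem_fixIn.mpr ⟨hnM, by
      have h := mul_inv_eq_iff_eq_mul.mp (hn' ⟨r, IsConj.refl r⟩)
      rw [mul_inv_eq_iff_eq_mul]; exact h.symm⟩
    have hB : n ∈ fixIn M r' := mem_fixIn.mpr ⟨hnM, by
      have h := mul_inv_eq_iff_eq_mul.mp (hn' ⟨r', isConj_iff.mpr ⟨t, htr⟩⟩)
      rw [mul_inv_eq_iff_eq_mul]; exact h.symm⟩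
    exact eq_one_of_sq (hM3 _ hnM) ((mem_fixIn.mp hA).2.symm.trans ((hinvr _ hnM).mpr hB))
  exact ⟨(MulEquiv.ofBijective (φ.codRestrict K hφK)
    ((Fintype.bijective_iff_injective_and_card _).mpr ⟨hinj, by
      rw [card_K, ← Nat.card_eq_fintype_card, hN]⟩)).trans equivK.symm⟩

end Cfsg.Agent.OddChar.Wreath72
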