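import Cfsg.Agent.OddChar.Wreath72Core
import Cfsg.Agent.OddChar.Wreath72Iso
import Mathlib.GroupTheory.Sylow
import Mathlib.Algebra.Group.Subgroup.Actions

/-!
From the hypotheses on a Sylow subgroup of order nine to the model of its normaliser.
-/

set_option autoImplicit false

open scoped Classical

namespace Cfsg.Agent.OddChar.Wreath72

variable {G : Type*} [Group G] [Fintype G]

/-- An element of prime order at least five normalising a group of order nine centralises it. -/
theorem conj_eq_of_prime {N : Type*} [Group N] [Finite N] (M : Subgroup N) [M.Normal]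
    (hM9 : Nat.card M = 9) {q : ℕ} (hq : q.Prime) (h5 : 5 ≤ q) {g : N} (hg : orderOf g = q)
    {m : N} (hm : m ∈ M) : g * m * g⁻¹ = m := by
  haveI : Fact q.Prime := ⟨hq⟩
  haveI := Fintype.ofFinite N
  letI : MulAction (Subgroup.zpowers g) M :=
    MulAction.compHom M ((MulAut.conjNormal (H := M)).comp (Subgroup.zpowers g).subtype)
  have hp : IsPGroup q (Subgroup.zpowers g) :=
    IsPGroup.of_card (n := 1) (by rw [Nat.card_zpowers, hg, pow_one])
  have hsmul : ∀ (u : Subgroup.zpowers g) (x : M), ((u • x : M) : N) = u * x * (u : N)⁻¹ :=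
    fun u x => MulAut.conjNormal_apply _ _
  have hmod := hp.card_modEq_card_fixedPoints M
  have hfix : Nat.card (MulAction.fixedPoints (Subgroup.zpowers g) M) = Nat.card (fixIn M g) := by
    refine Nat.card_congr
      { toFun := fun x => ⟨x.1.1, mem_fixIn.mpr ⟨x.1.2, ?_⟩⟩
        invFun := fun x => ⟨⟨x.1, x.2.1⟩, fun u => Subtype.ext ?_⟩
        left_inv := fun x => rfl
        right_inv := fun x => rfl }
    · have h := congrArg Subtype.val (x.2 ⟨g, Subgroup.mem_zpowers g⟩)
      rwa [hsmul] at h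
    · rw [hsmul]
      obtain ⟨k, hk⟩ := Subgroup.mem_zpowers_iff.mp u.2
      have hc : Commute g x.1 := mul_inv_eq_iff_eq_mul.mp (mem_fixIn.mp x.2).2
      rw [← hk, mul_inv_eq_iff_eq_mul]
      exact hc.zpow_left k
  have hdvd : Nat.card (fixIn M g) ∣ 3 ^ 2 := by
    rw [show (3 : ℕ) ^ 2 = Nat.card M by rw [hM9]; norm_num]
    exact Subgroup.card_dvd_of_le inf_le_left
  obtain ⟨k, hk, hk'⟩ := (Nat.dvd_prime_pow (by norm_num)).mp hdvd
  rw [hfix, hM9, hk'] at hmod
  have hdq : (q : ℤ) ∣ ((3 ^ k : ℕ) : ℤ) - 9 := Nat.modEq_iff_dvd.mp hmod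
  interval_cases k
  · exfalso
    have h8 : q ∣ 8 := by exact_mod_cast (show (q : ℤ) ∣ 8 by simpa using hdq.neg_right)
    have := (Nat.prime_dvd_prime_iff_eq hq Nat.prime_two).mp (hq.dvd_of_dvd_pow (n := 3) h8)
    omega
  · exfalso
    have h6 : q ∣ 2 * 3 := by exact_mod_cast (show (q : ℤ) ∣ 6 by simpa using hdq.neg_right)
    rcases hq.dvd_mul.mp h6 with h | h
    · have := (Nat.prime_dvd_prime_iff_eq hq Nat.prime_two).mp h; omega
    · have := (Nat.prime_dvd_prime_iff_eq hq Nat.prime_three).mp h; omega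
  · have he : fixIn M g = M := Subgroup.eq_of_le_of_card_ge inf_le_left (by rw [hk', hM9]; norm_num)
    exact (mem_fixIn.mp (by rw [he]; exact hm)).2

/-- The normaliser of a self-centralising Sylow subgroup of order nine has order seventy-two when
its Sylow `2`-subgroups have order eight. -/
theorem card_normalizer (M : Sylow 3 G) (hM9 : Nat.card (M : Subgroup G) = 9)
    (hCM : Subgroup.centralizer ((M : Subgroup G) : Set G) = (M : Subgroup G))
    {N : Subgroup G} (hN : N = Subgroup.normalizer ((M : Subgroup G) : Set G))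
    (S : Sylow 2 N) (hS8 : Nat.card (S : Subgroup N) = 8) : Nat.card N = 72 := by
  haveI : Fact (Nat.Prime 2) := ⟨Nat.prime_two⟩
  haveI : Fact (Nat.Prime 3) := ⟨Nat.prime_three⟩
  haveI hn : ((M : Subgroup G).subgroupOf N).Normal := by
    subst hN; exact Subgroup.normal_in_normalizer
  have hle : (M : Subgroup G) ≤ N := hN ▸ Subgroup.le_normalizer
  have h9 : Nat.card ((M : Subgroup G).subgroupOf N) = 9 := by
    rw [Nat.card_congr (Subgroup.subgroupOfEquivOfLe hle).toEquiv, hM9]
  have hd9 : 9 ∣ Nat.card N := h9 ▸ Subgroup.card_subgroup_dvd_card _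
  have hd8 : 8 ∣ Nat.card N := hS8 ▸ Subgroup.card_subgroup_dvd_card _
  obtain ⟨k, hk⟩ := Nat.Coprime.mul_dvd_of_dvd_of_dvd (by norm_num : Nat.Coprime 8 9) hd8 hd9
  by_contra hne
  have hk1 : k ≠ 1 := fun h => hne (by rw [hk, h])
  obtain ⟨q, hq, hqk⟩ := Nat.exists_prime_and_dvd hk1
  rcases Nat.lt_or_ge q 5 with hlt | hge
  · obtain ⟨j, rfl⟩ := hqk
    rcases (show q = 2 ∨ q = 3 by
      have h2 := hq.two_le
      interval_cases q <;> simp_all (config := { decide := true })) with rfl | rfl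
    · have h16 : (2 : ℕ) ^ 4 ∣ Nat.card N := ⟨9 * j, by rw [hk]; ring⟩
      have hmul := S.card_eq_multiplicity
      rw [hS8] at hmul
      have hle := (Nat.Prime.pow_dvd_iff_le_factorization Nat.prime_two Nat.card_pos.ne').mp h16
      have : (2 : ℕ) ^ 4 ≤ 2 ^ (Nat.card N).factorization 2 := Nat.pow_le_pow_right (by norm_num) hle
      omega
    · have h27 : (3 : ℕ) ^ 3 ∣ Nat.card N := ⟨8 * j, by rw [hk]; ring⟩
      have h27' : (3 : ℕ) ^ 3 ∣ Nat.card G := h27.trans (Subgroup.card_subgroup_dvd_card _)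
      have hmul := M.card_eq_multiplicity
      rw [hM9] at hmul
      have hle := (Nat.Prime.pow_dvd_iff_le_factorization Nat.prime_three Nat.card_pos.ne').mp h27'
      have : (3 : ℕ) ^ 3 ≤ 3 ^ (Nat.card G).factorization 3 := Nat.pow_le_pow_right (by norm_num) hle
      omega
  · haveI : Fact q.Prime := ⟨hq⟩
    obtain ⟨g, hg⟩ := exists_prime_orderOf_dvd_card' q (hqk.trans (Dvd.intro_left _ hk.symm))
    have hgM : (g : G) ∈ (M : Subgroup G) := by
      rw [← hCM, Subgroup.mem_centralizer_iff]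
      intro m hm
      have h := conj_eq_of_prime ((M : Subgroup G).subgroupOf N) h9 hq hge hg
        (m := ⟨m, hle hm⟩) hm
      exact (mul_inv_eq_iff_eq_mul.mp (congrArg Subtype.val h)).symm
    have hdvd : orderOf (⟨(g : G), hgM⟩ : (M : Subgroup G)) ∣ 9 := hM9 ▸ orderOf_dvd_natCard _
    rw [Subgroup.orderOf_mk, Subgroup.orderOf_coe, hg] at hdvd
    have := (Nat.prime_dvd_prime_iff_eq hq Nat.prime_three).mp (hq.dvd_of_dvd_pow (n := 2) hdvd)
    omega

theorem pow_twelve : ∀ w : W, w ^ 12 = 1 := by decide +kernel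

theorem card_cube : (Finset.univ.filter fun w : W => w ^ 3 = 1).card = 9 := by decide +kernel

/-- The support set is a trivial intersection section of the normaliser. -/
theorem isTISection_normalizer (M : Sylow 3 G) (hM9 : Nat.card (M : Subgroup G) = 9)
    (hM3 : ∀ m ∈ (M : Subgroup G), m ^ 3 = 1)
    (hCM : Subgroup.centralizer ((M : Subgroup G) : Set G) = (M : Subgroup G))
    {N : Subgroup G} (hN : N = Subgroup.normalizer ((M : Subgroup G) : Set G))
    (hCg : ∀ g ∈ (M : Subgroup G), g ≠ 1 → Subgroup.centralizer ({g} : Set G) ≤ N)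
    (e : N ≃* W) : IsTISection N (S3Cubed.setA N) := by
  have hle : (M : Subgroup G) ≤ N := hN ▸ Subgroup.le_normalizer
  -- the elements of cube one
  have hcube : ∀ x ∈ N, x ^ 3 = 1 → x ∈ (M : Subgroup G) := by
    have hsub : ((Finset.univ.filter fun h : N => (h : G) ∈ (M : Subgroup G)).image e) ⊆
        Finset.univ.filter fun w : W => w ^ 3 = 1 := by
      intro w hw
      obtain ⟨h, hh, rfl⟩ := Finset.mem_image.mp hw
      refine Finset.mem_filter.mpr ⟨Finset.mem_univ _, ?_⟩
      rw [← map_pow, show h ^ 3 = 1 from Subtype.ext (by simpa using hM3 _ (Finset.mem_filter.mp hh).2),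
        map_one]
    have heq := Finset.eq_of_subset_of_card_le hsub (by
      rw [card_cube, Finset.card_image_of_injective _ e.injective, ← hM9,
        ← Nat.card_congr (Subgroup.subgroupOfEquivOfLe hle).toEquiv, Nat.card_eq_fintype_card,
        Fintype.card_subtype]
      exact le_of_eq (Finset.card_bij (fun a _ => a) (by simp [Subgroup.mem_subgroupOf])
        (fun _ _ _ _ h => h) fun b hb => ⟨b, by simpa [Subgroup.mem_subgroupOf] using hb, rfl⟩))
    intro x hx hx3
    have hmem : e ⟨x, hx⟩ ∈ (Finset.univ.filter fun h : N => (h : G) ∈ (M : Subgroup G)).image e := by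
      rw [heq]
      refine Finset.mem_filter.mpr ⟨Finset.mem_univ _, ?_⟩
      rw [← map_pow, show (⟨x, hx⟩ : N) ^ 3 = 1 from Subtype.ext hx3, map_one]
    obtain ⟨h, hh, hhe⟩ := Finset.mem_image.mp hmem
    obtain rfl := e.injective hhe
    exact (Finset.mem_filter.mp hh).2
  have hfour : ∀ a ∈ S3Cubed.setA N, a ^ 4 ∈ (M : Subgroup G) ∧ a ^ 4 ≠ 1 := by
    rintro a ⟨ha, ha4⟩
    refine ⟨hcube _ (N.pow_mem ha 4) ?_, ha4⟩
    rw [← pow_mul]
    have h : (⟨a, ha⟩ : N) ^ 12 = 1 := e.injective (by rw [map_pow, map_one, pow_twelve])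
    exact congrArg Subtype.val h
  have hfuse : ∀ g : G, ∀ a ∈ S3Cubed.setA N, g * a * g⁻¹ ∈ S3Cubed.setA N → g ∈ N := by
    intro g a ha hga
    obtain ⟨hm, hm1⟩ := hfour a ha
    obtain ⟨hm', hm1'⟩ := hfour _ hga
    rw [conj_pow] at hm' hm1'
    have hconj : ∀ x ∈ (M : Subgroup G), g * x * g⁻¹ ∈ (M : Subgroup G) := by
      intro x hx
      refine hcube _ (hCg _ hm' hm1' (Subgroup.mem_centralizer_singleton_iff.mpr ?_)) ?_
      · have hc : x * a ^ 4 = a ^ 4 * x := by
          have hm'' : a ^ 4 ∈ Subgroup.centralizer ((M : Subgroup G) : Set G) := by rw [hCM]; exact hm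
          exact Subgroup.mem_centralizer_iff.mp hm'' x hx
        calc g * x * g⁻¹ * (g * a ^ 4 * g⁻¹) = g * (x * a ^ 4) * g⁻¹ := by group
          _ = g * (a ^ 4 * x) * g⁻¹ := by rw [hc]
          _ = g * a ^ 4 * g⁻¹ * (g * x * g⁻¹) := by group
      · rw [conj_pow, hM3 x hx, mul_one, mul_inv_cancel]
    rw [hN, Subgroup.mem_normalizer_iff]
    intro x
    refine ⟨hconj x, fun hx => ?_⟩
    have hmap : ((M : Subgroup G).map (MulAut.conj g).toMonoidHom) = (M : Subgroup G) := by
      refine Subgroup.eq_of_le_of_card_ge ?_ ?_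
      · rintro _ ⟨y, hy, rfl⟩
        exact hconj y hy
      · exact le_of_eq (Nat.card_congr
          (Subgroup.equivMapOfInjective _ _ (MulAut.conj g).injective).toEquiv)
    rw [← hmap] at hx
    obtain ⟨y, hy, hyx⟩ := hx
    have : y = x := (MulAut.conj g).injective hyx
    exact this ▸ hy
  refine ⟨fun a ha => ha.1, hfuse, fun g a ha hga => hfuse g a ha ?_⟩
  rw [hga]
  exact ⟨N.inv_mem ha.1, by rw [inv_pow]; exact fun h => ha.2 (inv_eq_one.mp h)⟩

end Cfsg.Agent.OddChar.Wreath72
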