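import Cfsg.Agent.OddChar.Wreath72Z
import Cfsg.Agent.OddChar.Wreath72Setup
import Cfsg.Agent.Coprime.Generation

/-!
Counting and parity facts for the group containing the wreath product of order seventy-two.
-/

set_option autoImplicit false

open Cfsg
open scoped Classical ComplexConjugate

namespace Cfsg.Agent.OddChar.Wreath72

open S3Cubed (virt_comp virt_indFun setA)

/-- The hypotheses on the ambient group. -/
structure Ambient {G : Type*} [Group G] (M : Sylow 3 G) (N : Subgroup G) : Prop where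
  card : Nat.card (M : Subgroup G) = 9
  exp : ∀ m ∈ (M : Subgroup G), m ^ 3 = 1
  self : Subgroup.centralizer ((M : Subgroup G) : Set G) = (M : Subgroup G)
  norm : N = Subgroup.normalizer ((M : Subgroup G) : Set G)
  loc : ∀ g ∈ (M : Subgroup G), g ≠ 1 → Subgroup.centralizer ({g} : Set G) ≤ N

theorem transl_gen : ∀ t : W, t ^ 3 = 1 → t ≠ 1 → ∃ c : W, ∃ a b : Fin 3,
    t ^ (a : ℕ) * (c * t * c⁻¹) ^ (b : ℕ) = j1 := by decide +kernel

theorem cube_iff : ∀ t : W, t ^ 3 = 1 ↔ t.s = ⟨false, false, false⟩ := by decide +kernel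

theorem fix_class : ∀ g m : W, g * g = 1 → g ≠ 1 → m ^ 3 = 1 → m ≠ 1 → g * m = m * g →
    isR1 g = true ∨ isR2 g = true := by decide +kernel

/-- The sum of the orders of the centralisers of the involutions. -/
theorem sum_centralizer_le {K : Type*} [Group K] [Fintype K] :
    ∑ a ∈ Finset.univ.filter (fun a : K => a * a = 1), Nat.card (Subgroup.centralizer ({a} : Set K)) ≤
      2 ^ (Nat.card K).factorization 2 * Nat.card K := by
  haveI : Fact (Nat.Prime 2) := ⟨Nat.prime_two⟩
  obtain ⟨S⟩ : Nonempty (Sylow 2 K) := inferInstance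
  rw [← S.card_eq_multiplicity, Nat.card_eq_fintype_card (α := (S : Subgroup K))]
  set I := Finset.univ.filter (fun a : K => a * a = 1)
  have hmeet : ∀ a ∈ I, ∃ s : (S : Subgroup K), IsConj (s : K) a := by
    intro a ha
    have ha2 : a * a = 1 := (Finset.mem_filter.mp ha).2
    have hp : IsPGroup 2 (Subgroup.zpowers a) := by
      rintro ⟨x, hx⟩
      obtain ⟨k, rfl⟩ := Subgroup.mem_zpowers_iff.mp hx
      refine ⟨1, Subtype.ext ?_⟩
      show (a ^ k) ^ 2 ^ 1 = 1
      rw [pow_one, ← zpow_natCast, ← zpow_mul, mul_comm, zpow_mul, zpow_natCast, sq, ha2, one_zpow]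
    obtain ⟨Q, hQ⟩ := hp.exists_le_sylow
    obtain ⟨c, hc⟩ := MulAction.exists_smul_eq K Q S
    have hm : c * a * c⁻¹ ∈ (S : Subgroup K) := by
      rw [← hc, Sylow.coe_subgroup_smul, Subgroup.mem_pointwise_smul_iff_inv_smul_mem]
      simpa [MulAut.smul_def, mul_assoc] using hQ (Subgroup.mem_zpowers a)
    exact ⟨⟨_, hm⟩, isConj_iff.mpr ⟨c⁻¹, by simp [mul_assoc]⟩⟩
  calc ∑ a ∈ I, Nat.card (Subgroup.centralizer ({a} : Set K))
      ≤ ∑ a ∈ I, ∑ s : (S : Subgroup K),
          if IsConj (s : K) a then Nat.card (Subgroup.centralizer ({a} : Set K)) else 0 := by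
        refine Finset.sum_le_sum fun a ha => ?_
        obtain ⟨s, hs⟩ := hmeet a ha
        refine le_trans (le_of_eq ?_) (Finset.single_le_sum (f := fun s : (S : Subgroup K) =>
          if IsConj (s : K) a then Nat.card (Subgroup.centralizer ({a} : Set K)) else 0)
          (fun _ _ => Nat.zero_le _) (Finset.mem_univ s))
        simp only [hs, if_true]
    _ = ∑ s : (S : Subgroup K), ∑ a ∈ I,
          if IsConj (s : K) a then Nat.card (Subgroup.centralizer ({a} : Set K)) else 0 := Finset.sum_comm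
    _ ≤ ∑ _s : (S : Subgroup K), Nat.card K := by
        refine Finset.sum_le_sum fun s _ => ?_
        rw [← Finset.sum_filter]
        have hsame : ∀ a ∈ I.filter (fun a => IsConj (s : K) a),
            Nat.card (Subgroup.centralizer ({a} : Set K)) =
              Nat.card (Subgroup.centralizer ({(s : K)} : Set K)) := by
          intro a ha
          obtain ⟨c, rfl⟩ := isConj_iff.mp (Finset.mem_filter.mp ha).2
          refine Nat.card_congr
            { toFun := fun u => ⟨c⁻¹ * u.1 * c, Subgroup.mem_centralizer_singleton_iff.mpr ?_⟩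
              invFun := fun u => ⟨c * u.1 * c⁻¹, Subgroup.mem_centralizer_singleton_iff.mpr ?_⟩
              left_inv := fun u => Subtype.ext (by group)
              right_inv := fun u => Subtype.ext (by group) }
          · have h := Subgroup.mem_centralizer_singleton_iff.mp u.2
            calc c⁻¹ * u.1 * c * s = c⁻¹ * (u.1 * (c * s * c⁻¹)) * c := by group
              _ = c⁻¹ * ((c * s * c⁻¹) * u.1) * c := by rw [h]
              _ = _ := by group
          · have h := Subgroup.mem_centralizer_singleton_iff.mp u.2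
            calc c * u.1 * c⁻¹ * (c * s * c⁻¹) = c * (u.1 * s) * c⁻¹ := by group
              _ = c * (s * u.1) * c⁻¹ := by rw [h]
              _ = _ := by group
        rw [Finset.sum_congr rfl hsame, Finset.sum_const, smul_eq_mul]
        refine le_trans (Nat.mul_le_mul_right _ (Finset.card_le_card (t := clOf (s : K)) ?_)) ?_
        · intro a ha
          exact mem_clOf.mpr (Finset.mem_filter.mp ha).2
        · rw [card_clOf, Subgroup.index_mul_card]
    _ = _ := by rw [Finset.sum_const, Finset.card_univ, smul_eq_mul]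

variable {G : Type*} [Group G] [Fintype G] {H : Subgroup G} [Fintype H] {e : H ≃* W}
  {M : Sylow 3 G}

theorem Ambient.le (A : Ambient M H) : (M : Subgroup G) ≤ H := A.norm ▸ Subgroup.le_normalizer

theorem Ambient.mem_cube (A : Ambient M H) (e : H ≃* W) {x : G} (hx : x ∈ H) (h3 : x ^ 3 = 1) :
    x ∈ (M : Subgroup G) := by
  haveI : Fact (Nat.Prime 3) := ⟨Nat.prime_three⟩
  have hnorm : ∀ g ∈ H, ∀ m ∈ (M : Subgroup G), g * m * g⁻¹ ∈ (M : Subgroup G) := by
    intro g hg m hm
    rw [A.norm, Subgroup.mem_normalizer_iff] at hg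
    exact (hg m).mp hm
  let K : Subgroup G := Subgroup.zpowers x
  have hK : IsPGroup 3 K := by
    rintro ⟨y, hy⟩
    obtain ⟨k, rfl⟩ := Subgroup.mem_zpowers_iff.mp hy
    refine ⟨1, Subtype.ext ?_⟩
    show (x ^ k) ^ 3 ^ 1 = 1
    rw [pow_one, ← zpow_natCast, ← zpow_mul, mul_comm, zpow_mul, zpow_natCast, h3, one_zpow]
  have hle : K ≤ Subgroup.normalizer ((M : Subgroup G) : Set G) := by
    rw [← A.norm]; exact Subgroup.zpowers_le.mpr hx
  have hsup : IsPGroup 3 ((M : Subgroup G) ⊔ K : Subgroup G) := M.isPGroup'.to_sup_of_normal_left' hK hle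
  rw [← M.is_maximal' hsup le_sup_left]
  exact Subgroup.mem_sup_right (Subgroup.mem_zpowers x)

/-- An element of order three is conjugate into the Sylow subgroup. -/
theorem Ambient.conj_mem (_A : Ambient M H) {x : G} (h3 : x ^ 3 = 1) :
    ∃ c : G, c * x * c⁻¹ ∈ (M : Subgroup G) := by
  haveI : Fact (Nat.Prime 3) := ⟨Nat.prime_three⟩
  have hK : IsPGroup 3 (Subgroup.zpowers x) := by
    rintro ⟨y, hy⟩
    obtain ⟨k, rfl⟩ := Subgroup.mem_zpowers_iff.mp hy
    refine ⟨1, Subtype.ext ?_⟩
    show (x ^ k) ^ 3 ^ 1 = 1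
    rw [pow_one, ← zpow_natCast, ← zpow_mul, mul_comm, zpow_mul, zpow_natCast, h3, one_zpow]
  obtain ⟨Q, hQ⟩ := hK.exists_le_sylow
  obtain ⟨c, hc⟩ := MulAction.exists_smul_eq G Q M
  refine ⟨c, ?_⟩
  rw [← hc, Sylow.coe_subgroup_smul, Subgroup.mem_pointwise_smul_iff_inv_smul_mem]
  simpa [MulAut.smul_def, mul_assoc] using hQ (Subgroup.mem_zpowers x)

/-- A subgroup normalised by the Sylow subgroup with trivial fixed points on it is trivial. -/
theorem Ambient.fpf_bot (A : Ambient M H) {L : Subgroup G}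
    (hn : (M : Subgroup G) ≤ Subgroup.normalizer (L : Set G)) (hcop : Nat.Coprime 9 (Nat.card L))
    (hfix : ∀ m ∈ (M : Subgroup G), m ≠ 1 → ∀ u ∈ L, u * m = m * u → u = 1) : L = ⊥ := by
  haveI : IsMulCommutative (M : Subgroup G) := ⟨⟨fun a b => Subtype.ext (by
    have hb : (b : G) ∈ Subgroup.centralizer ((M : Subgroup G) : Set G) := by rw [A.self]; exact b.2
    exact Subgroup.mem_centralizer_iff.mp hb a a.2)⟩⟩
  have hnc : ¬ IsCyclic (M : Subgroup G) := by
    intro hc
    obtain ⟨g, hg⟩ := hc.exists_generator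
    have h1 : orderOf g = 9 := by rw [orderOf_eq_card_of_forall_mem_zpowers hg, A.card]
    have h2 : orderOf g ∣ 3 := orderOf_dvd_of_pow_eq_one (Subtype.ext (by simpa using A.exp g g.2))
    rw [h1] at h2
    norm_num at h2
  rw [← Coprime.eq_centralizerJoin hnc hn (by rwa [A.card]), Coprime.centralizerJoin, eq_bot_iff]
  refine iSup_le fun m => ?_
  rintro u ⟨hu, hu'⟩
  exact Subgroup.mem_bot.mpr
    (hfix m.1 m.2.1 m.2.2 u hu (Subgroup.mem_centralizer_singleton_iff.mp hu'))

/-- A normal subgroup meeting the Sylow subgroup trivially is trivial. -/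
theorem Ambient.normal_bot (A : Ambient M H) {K : Subgroup G} [K.Normal]
    (hK : K ⊓ (M : Subgroup G) = ⊥) : K = ⊥ := by
  haveI : Fact (Nat.Prime 3) := ⟨Nat.prime_three⟩
  refine A.fpf_bot (L := K) ?_ ?_ ?_
  · rw [Subgroup.normalizer_eq_top (H := K)]; exact le_top
  · rw [show (9 : ℕ) = 3 ^ 2 by norm_num]
    refine Nat.Coprime.pow_left 2 ((Nat.Prime.coprime_iff_not_dvd Nat.prime_three).mpr fun h3 => ?_)
    obtain ⟨x, hx⟩ := exists_prime_orderOf_dvd_card' 3 h3
    have hx3 : (x : G) ^ 3 = 1 := by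
      rw [← hx, ← Subgroup.orderOf_coe]; exact pow_orderOf_eq_one _
    obtain ⟨c, hc⟩ := A.conj_mem hx3
    have hmem : c * (x : G) * c⁻¹ ∈ K ⊓ (M : Subgroup G) :=
      ⟨‹K.Normal›.conj_mem _ x.2 c, hc⟩
    rw [hK, Subgroup.mem_bot, conj_eq_one_iff] at hmem
    rw [← Subgroup.orderOf_coe, hmem, orderOf_one] at hx
    norm_num at hx
  · intro m hm hm1 u hu hum
    have huN : u ∈ H := A.loc m hm hm1 (Subgroup.mem_centralizer_singleton_iff.mpr hum)
    have hcent : u ∈ Subgroup.centralizer ((M : Subgroup G) : Set G) := by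
      rw [Subgroup.mem_centralizer_iff]
      intro n hn
      have h1 : u * n * u⁻¹ * n⁻¹ ∈ K ⊓ (M : Subgroup G) := by
        refine ⟨?_, ?_⟩
        · rw [show u * n * u⁻¹ * n⁻¹ = u * (n * u⁻¹ * n⁻¹) by group]
          exact K.mul_mem hu (‹K.Normal›.conj_mem _ (K.inv_mem hu) n)
        · rw [A.norm, Subgroup.mem_normalizer_iff] at huN
          exact Subgroup.mul_mem _ ((huN n).mp hn) (Subgroup.inv_mem _ hn)
      rw [hK, Subgroup.mem_bot, mul_inv_eq_one, mul_inv_eq_iff_eq_mul] at h1
      exact h1.symm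
    rw [A.self] at hcent
    exact Subgroup.mem_bot.mp (hK ▸ (⟨hu, hcent⟩ : u ∈ K ⊓ (M : Subgroup G)))

theorem Ambient.cube_of (A : Ambient M H) (e : H ≃* W) {m : G} (hm : m ∈ (M : Subgroup G)) :
    ∃ t : W, t ^ 3 = 1 ∧ el e t = m := by
  refine ⟨e ⟨m, A.le hm⟩, ?_, by simp [el]⟩
  rw [← map_pow, show (⟨m, A.le hm⟩ : H) ^ 3 = 1 from Subtype.ext (A.exp m hm), map_one]

/-- An involution conjugate into the subgroup and centralising an element of order three is a
reflection. -/
theorem Ambient.commute_class (A : Ambient M H) (e : H ≃* W) {t m : G} (ht : t * t = 1) (ht1 : t ≠ 1)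
    (hm : m ^ 3 = 1) (hm1 : m ≠ 1) (hc : t * m = m * t) :
    IsConj (el e r1) t ∨ IsConj (el e r2) t := by
  obtain ⟨c, hcm⟩ := A.conj_mem hm
  have hcm1 : c * m * c⁻¹ ≠ 1 := fun h => hm1 (conj_eq_one_iff.mp h)
  have htN : c * t * c⁻¹ ∈ H := A.loc _ hcm hcm1 (Subgroup.mem_centralizer_singleton_iff.mpr (by
    calc c * t * c⁻¹ * (c * m * c⁻¹) = c * (t * m) * c⁻¹ := by group
      _ = c * (m * t) * c⁻¹ := by rw [hc]
      _ = c * m * c⁻¹ * (c * t * c⁻¹) := by group))
  obtain ⟨s, hs3, hs⟩ := A.cube_of e hcm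
  set g := e ⟨_, htN⟩ with hg
  have hge : el e g = c * t * c⁻¹ := by simp [el, hg]
  have hinj : ∀ a b : W, el e a = el e b → a = b := fun a b h =>
    e.symm.injective (Subtype.ext h)
  have h := fix_class g s (hinj _ _ (by
    rw [el_mul, el_one, hge]
    calc c * t * c⁻¹ * (c * t * c⁻¹) = c * (t * t) * c⁻¹ := by group
      _ = 1 := by rw [ht, mul_one, mul_inv_cancel])) (fun h => ht1 (by
        rw [h, el_one] at hge; exact conj_eq_one_iff.mp hge.symm)) hs3
    (fun h => hcm1 (by rw [h, el_one] at hs; exact hs.symm)) (hinj _ _ (by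
      rw [el_mul, el_mul, hge, hs]
      calc c * t * c⁻¹ * (c * m * c⁻¹) = c * (t * m) * c⁻¹ := by group
        _ = c * (m * t) * c⁻¹ := by rw [hc]
        _ = c * m * c⁻¹ * (c * t * c⁻¹) := by group))
  have hback : IsConj (el e g) t := by
    rw [hge]; exact isConj_iff.mpr ⟨c⁻¹, by group⟩
  rcases h with h | h
  · exact Or.inl ((el_isConj e ((isR1_iff _).mp h)).trans hback)
  · exact Or.inr ((el_isConj e ((isR2_iff _).mp h)).trans hback)

/-- Every involution is conjugate to one of the three, and a class of odd length exists. -/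
theorem Full.exists_odd (F : Full e) (A : Ambient M H) :
    Odd (clOf (el e r1)).card ∨ Odd (clOf (el e r2)).card ∨ Odd (clOf (el e z0)).card := by
  have hclasses : ∀ t : G, t * t = 1 → t ≠ 1 →
      IsConj (el e r1) t ∨ IsConj (el e r2) t ∨ IsConj (el e z0) t := by
    intro t ht ht1
    by_contra hno
    push Not at hno
    obtain ⟨v, hv⟩ := F.cfg.exists_val (x := t) (by rw [sq, ht])
    obtain ⟨x, hx⟩ := F.cfg.exists_val (el_sq_one e (w := r1) (by decide))
    obtain ⟨y, hy⟩ := F.cfg.exists_val (el_sq_one e (w := r2) (by decide))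
    have hX := class_r1 e F.hA F.lab
    have hY := class_r2 e F.hA F.lab
    have hnone : ∀ h : H, ¬ IsConj t (h : G) := by
      intro h hh
      obtain ⟨g, hg⟩ := isConj_iff.mp hh
      have h2 : e h * e h = 1 := by
        rw [← map_mul, show h * h = 1 from Subtype.ext ?_, map_one]
        rw [Subgroup.coe_mul, ← hg]
        calc g * t * g⁻¹ * (g * t * g⁻¹) = g * (t * t) * g⁻¹ := by group
          _ = 1 := by rw [ht, mul_one, mul_inv_cancel]
      have h1 : e h ≠ 1 := by
        intro h0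
        rw [coe_eq_el e h, h0, el_one] at hg
        exact ht1 (conj_eq_one_iff.mp hg)
      rcases involution_cases (e h) h2 h1 with hc | hc | hc <;>
        have := el_isConj e hc <;> rw [← coe_eq_el e h] at this
      · exact hno.1 (this.trans hh.symm)
      · exact hno.2.1 (this.trans hh.symm)
      · exact hno.2.2 (this.trans hh.symm)
    -- the row of the first five
    let D := rowQ F.cfg.D 0
    have hs : ∀ {g : G} {v : Fin 9 → ℤ}, g ^ 4 = 1 → F.cfg.IsVal g v →
        rowQ v 0 0 + rowQ v 0 1 + rowQ v 0 2 + rowQ v 0 3 = 0 := fun hg hv => by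
      simp only [rowQ]; exact_mod_cast F.cfg.row_zero hg hv 0
    have h1 := F.hA.pair_sum (θ := theta e 0) (theta_supp e 0) (x := t) (y := el e r1) ht
      (by rw [← el_mul, show r1 * r1 = 1 by decide, el_one])
    have h2 := F.hA.pair_sum (θ := theta e 0) (theta_supp e 0) (x := t) (y := el e r2) ht
      (by rw [← el_mul, show r2 * r2 = 1 by decide, el_one])
    have hzero : ∀ (w : W) (u : Fin 9 → ℤ), F.cfg.IsVal (el e w) u →
        (∑ a ∈ clOf t, ∑ b ∈ clOf (el e w), ind e 0 (a * b) = 0) → form4 D (rowQ v 0) (rowQ u 0) = 0 := by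
      intro w u hu h
      simp only [F.cfg.ind_apply] at h
      rw [Finset.sum_congr rfl fun a _ => Finset.sum_comm, Finset.sum_comm] at h
      simp only [← Finset.mul_sum, irr_pair_sum (Subtype.prop _)] at h
      refine Rat.cast_injective (α := ℂ) ?_
      simp only [form4, rowQ, D]
      push_cast
      have hc1 : ((clOf t).card : ℂ) ≠ 0 := by
        exact_mod_cast (Finset.card_pos.mpr ⟨t, mem_clOf.mpr (IsConj.refl t)⟩).ne'
      have hc2 : ((clOf (el e w)).card : ℂ) ≠ 0 := by
        exact_mod_cast (Finset.card_pos.mpr ⟨_, mem_clOf.mpr (IsConj.refl (el e w))⟩).ne'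
      refine (mul_eq_zero.mp (?_ : ((clOf t).card : ℂ) * (clOf (el e w)).card * _ = 0)).resolve_left
        (mul_ne_zero hc1 hc2)
      refine Eq.trans ?_ h
      have hterm : ∀ j : Fin 4, (F.cfg.sgn (rowPts 0 j) : ℂ) *
          (((clOf t).card : ℂ) * (clOf (el e w)).card *
            ((F.cfg.pts (rowPts 0 j) : G → ℂ) t * (F.cfg.pts (rowPts 0 j) : G → ℂ) (el e w) /
              (F.cfg.pts (rowPts 0 j) : G → ℂ) 1)) =
          ((clOf t).card : ℂ) * (clOf (el e w)).card *
            ((v (rowPts 0 j) : ℂ) * (u (rowPts 0 j) : ℂ) / (F.cfg.D (rowPts 0 j) : ℂ)) := by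
        intro j
        rw [hv, hu, F.cfg.deg]
        rcases Int.eq_one_or_neg_one_of_mul_eq_one (F.cfg.sgn_sq (rowPts 0 j)) with h | h <;>
          rw [h] <;> push_cast <;> simp [neg_div_neg_eq, div_neg] <;> ring
      rw [Fin.sum_univ_four, hterm, hterm, hterm, hterm]
      ring
    have hb1 := hzero r1 x hx (by
      refine Eq.trans h1 (mul_eq_zero_of_right _ ?_)
      exact Finset.sum_eq_zero fun a _ => Finset.sum_eq_zero fun b _ => if_neg fun h => hnone a h.1)
    have hb2 := hzero r2 y hy (by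
      refine Eq.trans h2 (mul_eq_zero_of_right _ ?_)
      exact Finset.sum_eq_zero fun a _ => Finset.sum_eq_zero fun b _ => if_neg fun h => hnone a h.1)
    have fxx := F.cfg.row_form F.hA 0 (by decide) (by decide) hx hx hX hX
    have fyy := F.cfg.row_form F.hA 0 (by decide) (by decide) hy hy hY hY
    have fxy := F.cfg.row_form F.hA 0 (by decide) (by decide) hx hy hX hY
    rw [(units_eq false 0).1] at fxx
    rw [(units_eq false 0).2.1] at fyy
    rw [(units_eq false 0).2.2] at fxy
    simp only [units, Matrix.cons_val_zero] at fxx fyy fxy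
    push_cast at fxx fyy fxy
    rw [mul_zero] at fxy
    have hg0 : (Nat.card G : ℚ) ≠ 0 := by exact_mod_cast Nat.card_pos.ne'
    have hdet : form4 D (rowQ x 0) (rowQ x 0) * form4 D (rowQ y 0) (rowQ y 0) -
        form4 D (rowQ x 0) (rowQ y 0) ^ 2 ≠ 0 := by
      intro h0
      have hX0 : ((clOf (el e r1)).card : ℚ) ≠ 0 := by
        exact_mod_cast (Finset.card_pos.mpr ⟨_, mem_clOf.mpr (IsConj.refl _)⟩).ne'
      have hY0 : ((clOf (el e r2)).card : ℚ) ≠ 0 := by
        exact_mod_cast (Finset.card_pos.mpr ⟨_, mem_clOf.mpr (IsConj.refl _)⟩).ne'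
      have hxy : form4 D (rowQ x 0) (rowQ y 0) = 0 :=
        (mul_eq_zero.mp fxy).resolve_right (mul_ne_zero hX0 hY0)
      rw [hxy] at h0
      rcases mul_eq_zero.mp (show form4 D (rowQ x 0) (rowQ x 0) * form4 D (rowQ y 0) (rowQ y 0) = 0 by
        linear_combination h0) with h | h
      · rw [h, zero_mul] at fxx
        exact hg0 (by linarith)
      · rw [h, zero_mul] at fyy
        exact hg0 (by linarith)
    have hf : dot4 ![-(F.cfg.D 5 : ℚ), 0, 0, 1] D = 0 := by
      simp [dot4, D, rowQ, rowPts, F.cfg.D_zero]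
    have hnull := form4_null (f := ![-(F.cfg.D 5 : ℚ), 0, 0, 1])
      (fun j => Int.cast_ne_zero.mpr (F.cfg.D_ne_zero _)) (hs (one_pow 4) F.cfg.isVal_one)
      (hs (by rw [show (4 : ℕ) = 2 * 2 by norm_num, pow_mul, sq t, ht, one_pow]) hv)
      (hs (by rw [← el_pow, show r1 ^ 4 = 1 by decide +kernel, el_one]) hx)
      (hs (by rw [← el_pow, show r2 ^ 4 = 1 by decide +kernel, el_one]) hy) hf hb1 hb2 hdet
    simp only [dot4, rowQ, rowPts, Matrix.cons_val_zero, Matrix.cons_val_one, Matrix.cons_val,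
      F.cfg.val_zero hv, zero_mul, add_zero, one_mul, Int.cast_one, mul_one] at hnull
    have hv5 : v 5 = F.cfg.D 5 := by
      have : (v 5 : ℚ) = (F.cfg.D 5 : ℚ) := by linear_combination hnull
      exact_mod_cast this
    have hψ := Chars.irr_isCharacter (F.cfg.pts 5)
    have hmem : t ∈ Chars.charKer hψ := by
      show (F.cfg.pts 5 : G → ℂ) t = (F.cfg.pts 5 : G → ℂ) 1
      rw [hv, F.cfg.deg, hv5]
    haveI : (Chars.charKer hψ).Normal := Chars.charKer_normal _
    have hbot := A.normal_bot (K := Chars.charKer hψ) (by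
      rw [eq_bot_iff]
      intro m hm
      rw [Subgroup.mem_bot]
      by_contra hm1
      obtain ⟨s, hs3, rfl⟩ := A.cube_of e hm.2
      obtain ⟨c, a, b, hab⟩ := transl_gen s hs3 (fun h => hm1 (by rw [h, el_one]))
      have hj : el e j1 ∈ Chars.charKer hψ := by
        rw [← hab, el_mul, el_pow, el_pow, el_mul, el_mul, el_inv]
        exact Subgroup.mul_mem _ (Subgroup.pow_mem _ hm.1 _)
          (Subgroup.pow_mem _ ((‹(Chars.charKer hψ).Normal›).conj_mem _ hm.1 _) _)
      have hj' : (F.cfg.pts 5 : G → ℂ) (el e j1) = (F.cfg.pts 5 : G → ℂ) 1 := hj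
      rw [F.cfg.val_j, F.cfg.deg, jCol_eq] at hj'
      have h5 : F.cfg.sgn 5 * (-1) = F.cfg.sgn 5 * F.cfg.D 5 := by exact_mod_cast hj'
      have h5' := mul_left_cancel₀ (fun h => by simpa [h] using F.cfg.sgn_sq 5) h5
      have hmod := F.cfg.D_mod 5
      rw [← h5'] at hmod
      norm_num [target] at hmod)
    rw [hbot, Subgroup.mem_bot] at hmem
    exact ht1 hmem
  haveI : Fact (Nat.Prime 2) := ⟨Nat.prime_two⟩
  obtain ⟨S⟩ : Nonempty (Sylow 2 G) := inferInstance
  haveI : Nontrivial (S : Subgroup G) := by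
    rw [← Finite.one_lt_card_iff_nontrivial]
    refine lt_of_lt_of_le one_lt_two (Nat.le_of_dvd Nat.card_pos (S.dvd_card_of_dvd_card ?_))
    refine dvd_trans ?_ (Subgroup.card_subgroup_dvd_card H)
    rw [card_H e]
    norm_num
  obtain ⟨c, hc⟩ := exists_prime_orderOf_dvd_card' 2
    (show 2 ∣ Nat.card (Subgroup.center (S : Subgroup G)) from by
      haveI := S.isPGroup'.center_nontrivial
      obtain ⟨n, hn0, hn⟩ := (S.isPGroup'.to_subgroup
        (Subgroup.center (S : Subgroup G))).nontrivial_iff_card.mp inferInstance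
      rw [hn]
      exact dvd_pow_self 2 hn0.ne')
  set t : G := ((c : (S : Subgroup G)) : G) with ht
  have hto : orderOf t = 2 := by rw [ht, Subgroup.orderOf_coe, Subgroup.orderOf_coe, hc]
  have hodd : Odd (clOf t).card := by
    rw [card_clOf, Nat.odd_iff, ← Nat.not_even_iff, even_iff_two_dvd]
    intro h
    refine S.not_dvd_index (h.trans (Subgroup.index_dvd_of_le fun s hs => ?_))
    rw [Subgroup.mem_centralizer_singleton_iff]
    exact congrArg Subtype.val (Subgroup.mem_center_iff.mp c.2 ⟨s, hs⟩)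
  have ht2 : t * t = 1 := by rw [← sq, ← hto]; exact pow_orderOf_eq_one t
  have ht1 : t ≠ 1 := fun h => by rw [h, orderOf_one] at hto; norm_num at hto
  have hcl : ∀ a : G, IsConj a t → clOf a = clOf t := fun a h => by
    ext u
    simp only [mem_clOf]
    exact ⟨fun hu => h.symm.trans hu, fun hu => h.trans hu⟩
  rcases hclasses t ht2 ht1 with h | h | h
  · exact Or.inl (hcl _ h ▸ hodd)
  · exact Or.inr (Or.inl (hcl _ h ▸ hodd))
  · exact Or.inr (Or.inr (hcl _ h ▸ hodd))

/-- The number of Sylow subgroups is one modulo nine. -/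
theorem Ambient.index_mod (A : Ambient M H) : H.index % 9 = 1 := by
  haveI : Fact (Nat.Prime 3) := ⟨Nat.prime_three⟩
  haveI := Fintype.ofFinite (Sylow 3 G)
  have hidx : H.index = Nat.card (Sylow 3 G) := by rw [A.norm]; exact M.card_eq_index_normalizer.symm
  let Y := {Q : Sylow 3 G // Q ≠ M}
  have hfix : ∀ u : (M : Subgroup G), (u : G) • M = M := fun u =>
    Sylow.smul_eq_iff_mem_normalizer.mpr (Subgroup.le_normalizer u.2)
  letI act : MulAction (M : Subgroup G) Y :=
    { smul := fun u Q => ⟨(u : G) • Q.1, fun h => Q.2 (by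
        have := congrArg (fun R => (u⁻¹ : (M : Subgroup G)).1 • R) h
        simp only [Subgroup.coe_inv, inv_smul_smul] at this
        rw [this]
        exact hfix u⁻¹)⟩
      one_smul := fun Q => Subtype.ext (one_smul G Q.1)
      mul_smul := fun u v Q => Subtype.ext (mul_smul (u : G) v Q.1) }
  have h9 := free_sum_isIntegral (A := (M : Subgroup G)) (Y := Y) (fun _ => (1 : ℂ))
    (fun _ _ => rfl) (fun _ => isIntegral_one) (fun u Q hu => by
      by_contra hu1
      refine Q.2 ?_
      have hu1' : (u : G) ≠ 1 := fun h => hu1 (Subtype.ext h)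
      have hmem : (u : G) ∈ Subgroup.normalizer ((Q.1 : Subgroup G) : Set G) :=
        Sylow.smul_eq_iff_mem_normalizer.mp (congrArg Subtype.val hu)
      have hsup : IsPGroup 3 ((Q.1 : Subgroup G) ⊔ Subgroup.zpowers (u : G) : Subgroup G) :=
        Q.1.isPGroup'.to_sup_of_normal_left'
          (M.isPGroup'.to_le (Subgroup.zpowers_le.mpr u.2)) (Subgroup.zpowers_le.mpr hmem)
      have huQ : (u : G) ∈ (Q.1 : Subgroup G) := by
        rw [← Q.1.is_maximal' hsup le_sup_left]
        exact Subgroup.mem_sup_right (Subgroup.mem_zpowers _)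
      have hQab : ∀ a ∈ (Q.1 : Subgroup G), a * u = u * a := by
        obtain ⟨c, hc⟩ := MulAction.exists_smul_eq G M Q.1
        intro a ha
        have hconj : ∀ b ∈ (Q.1 : Subgroup G), c⁻¹ * b * c ∈ (M : Subgroup G) := by
          intro b hb
          rw [← hc, Sylow.coe_subgroup_smul, Subgroup.mem_pointwise_smul_iff_inv_smul_mem] at hb
          simpa [MulAut.smul_def, mul_assoc] using hb
        have h1 : c⁻¹ * u * c ∈ Subgroup.centralizer ((M : Subgroup G) : Set G) := by
          rw [A.self]; exact hconj _ huQ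
        have h2 := Subgroup.mem_centralizer_iff.mp h1 _ (hconj a ha)
        calc a * (u : G) = c * (c⁻¹ * a * c * (c⁻¹ * u * c)) * c⁻¹ := by group
          _ = c * (c⁻¹ * u * c * (c⁻¹ * a * c)) * c⁻¹ := by rw [h2]
          _ = u * a := by group
      refine (Sylow.ext (M.is_maximal' Q.1.isPGroup' ?_) : Q.1 = M)
      intro m hm
      have hQN : (Q.1 : Subgroup G) ≤ H := fun a ha =>
        A.loc u u.2 hu1' (Subgroup.mem_centralizer_singleton_iff.mpr (hQab a ha))
      have hsup' : IsPGroup 3 ((M : Subgroup G) ⊔ (Q.1 : Subgroup G) : Subgroup G) :=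
        M.isPGroup'.to_sup_of_normal_left' Q.1.isPGroup' (A.norm ▸ hQN)
      rw [← Q.1.is_maximal' hsup' le_sup_right]
      exact Subgroup.mem_sup_left hm)
  have h9' : ((9 : ℕ) : ℤ) ∣ (Fintype.card Y : ℤ) := by
    refine isIntegral_intCast_div (by norm_num) ?_
    have hc : Fintype.card (M : Subgroup G) = 9 := by rw [← Nat.card_eq_fintype_card, A.card]
    simpa [hc] using h9
  have hY : Fintype.card Y + 1 = Nat.card (Sylow 3 G) := by
    rw [Nat.card_eq_fintype_card, Fintype.card_subtype_compl, Fintype.card_subtype_eq]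
    have : 0 < Fintype.card (Sylow 3 G) := Fintype.card_pos
    omega
  omega

/-- The exact number of products equal to the central inversion. -/
theorem Full.count_formula (F : Full e) (A : Ambient M H) {z : Fin 9 → ℤ}
    (hz : F.cfg.IsVal (el e z0) z) :
    (324 : ℚ) * ((clOf (el e j1)).filter fun y => IsConj (el e j1) (el e z0 * y)).card =
      Nat.card G * ∑ k : Fin 9, (jCol k : ℚ) * jCol k * z k / F.cfg.D k := by
  have hj3 : el e j1 ^ 3 = 1 := by rw [← el_pow, show j1 ^ 3 = 1 by decide +kernel, el_one]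
  have hjM : el e j1 ∈ (M : Subgroup G) := A.mem_cube e (e.symm j1).2 hj3
  have hj1 : el e j1 ≠ 1 := fun h => by
    have : e.symm j1 = 1 := Subtype.ext h
    exact absurd (show j1 = 1 by simpa using congrArg e this) (by decide)
  have hcent : Nat.card (Subgroup.centralizer ({el e j1} : Set G)) = 18 := by
    rw [← card_comm_j, ← Nat.card_eq_finsetCard]
    refine Nat.card_congr
      { toFun := fun u => ⟨e ⟨u.1, A.loc _ hjM hj1 u.2⟩, Finset.mem_filter.mpr ⟨Finset.mem_univ _, ?_⟩⟩
        invFun := fun w => ⟨el e w.1, Subgroup.mem_centralizer_singleton_iff.mpr ?_⟩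
        left_inv := fun u => Subtype.ext (by simp [el])
        right_inv := fun w => Subtype.ext (by simp [el]) }
    · apply e.symm.injective
      rw [map_mul, map_mul, MulEquiv.symm_apply_apply]
      exact Subtype.ext (Subgroup.mem_centralizer_singleton_iff.mp u.2)
    · rw [← el_mul, ← el_mul, (Finset.mem_filter.mp w.2).2]
  have hJ : (18 : ℂ) * (clOf (el e j1)).card = Nat.card G := by
    rw [card_clOf]
    exact_mod_cast hcent ▸ (Subgroup.centralizer ({el e j1} : Set G)).card_mul_index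
  have hsum : ∑ y ∈ clOf (el e j1), ∑ k : Fin 9, ((F.cfg.sgn k * jCol k : ℤ) : ℂ) *
      (F.cfg.pts k : G → ℂ) (el e z0 * y) =
      18 * ((clOf (el e j1)).filter fun y => IsConj (el e j1) (el e z0 * y)).card := by
    simp only [F.cfg.indicator_j F.hA]
    rw [← Finset.sum_filter, Finset.sum_const, nsmul_eq_mul, mul_comm]
  have hk : ∀ k : Fin 9, (F.cfg.pts k : G → ℂ) 1 * ∑ y ∈ clOf (el e j1), (F.cfg.pts k : G → ℂ) (el e z0 * y) =
      (clOf (el e j1)).card * (F.cfg.pts k : G → ℂ) (el e j1) * (F.cfg.pts k : G → ℂ) (el e z0) :=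
    fun k => irr_class_sum_mul (F.cfg.pts k).2 _ _
  have hterm : ∀ k : Fin 9, ((F.cfg.sgn k * jCol k : ℤ) : ℂ) *
      ∑ y ∈ clOf (el e j1), (F.cfg.pts k : G → ℂ) (el e z0 * y) =
      (clOf (el e j1)).card * ((jCol k : ℂ) * jCol k * z k / F.cfg.D k) := by
    intro k
    have h := hk k
    rw [F.cfg.deg, F.cfg.val_j, hz] at h
    have hD : (F.cfg.D k : ℂ) ≠ 0 := Int.cast_ne_zero.mpr (F.cfg.D_ne_zero k)
    rw [← mul_div_assoc, eq_div_iff hD]
    push_cast at h ⊢
    have hs : (F.cfg.sgn k : ℂ) * F.cfg.sgn k = 1 := by exact_mod_cast F.cfg.sgn_sq k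
    linear_combination (jCol k : ℂ) * h + ((clOf (el e j1)).card : ℂ) * jCol k * jCol k * z k * hs
  rw [Finset.sum_comm] at hsum
  simp only [← Finset.mul_sum, hterm] at hsum
  refine Rat.cast_injective (α := ℂ) ?_
  push_cast
  linear_combination (-18 : ℂ) * hsum + (∑ k : Fin 9, (jCol k : ℂ) * jCol k * z k / F.cfg.D k) * hJ

/-- The bound on the number of these products. -/
theorem Full.count_le (F : Full e) : ∃ n : ℕ,
    2 * n = Nat.card (Subgroup.centralizer ({el e z0} : Set G)) ∧
      ((clOf (el e j1)).filter fun y => IsConj (el e j1) (el e z0 * y)).card ≤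
        2 ^ n.factorization 2 * n := by
  set z := el e z0 with hz
  set C := Subgroup.centralizer ({z} : Set G) with hCdef
  set C' := F.φ.ker.subgroupOf C with hC'
  refine ⟨Nat.card C', ?_, ?_⟩
  · have hsq : ∀ g : G, F.φ g * F.φ g = 1 := by
      intro g
      obtain ⟨h, -⟩ := F.twist_pts 4
      have h' := congrFun h g
      rw [show twist 4 = 0 from rfl, F.cfg.pts_zero] at h'
      simp only [F.pts_four] at h'
      exact Units.ext (by rw [Units.val_mul, Units.val_one]; exact h'.symm)
    have hr : el e r1 ∈ C := Subgroup.mem_centralizer_singleton_iff.mpr (by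
      rw [hz, ← el_mul, ← el_mul]; congr 1)
    have hidx : C'.index = 2 := by
      rw [Subgroup.index_eq_two_iff]
      refine ⟨⟨el e r1, hr⟩, fun u => ?_⟩
      simp only [hC', Subgroup.mem_subgroupOf, Subgroup.coe_mul, MonoidHom.mem_ker, map_mul]
      have hr1 : (F.φ (el e r1) : ℂ) = -1 := by rw [F.φ_el, show sgnAB r1 = -1 by decide]; norm_num
      have hu := congrArg Units.val (hsq (u : G))
      rw [Units.val_mul, Units.val_one] at hu
      simp only [Units.ext_iff, Units.val_mul, Units.val_one, hr1]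
      rcases mul_self_eq_one_iff.mp hu with h | h
      · rw [h]; norm_num [Xor']
      · rw [h]; norm_num [Xor']
    rw [← hidx, Subgroup.index_mul_card]
  set U := (clOf (el e j1)).filter fun y => IsConj (el e j1) (z * y)
  have hz2 : z * z = 1 := by rw [hz, ← el_mul, show z0 * z0 = 1 by decide, el_one]
  have hj : el e j1 ^ 3 = 1 := by rw [← el_pow, show j1 ^ 3 = 1 by decide +kernel, el_one]
  have hφj : F.φ (el e j1) = 1 := Units.ext (by rw [F.φ_el, sgn_j]; norm_num)
  have hφz : F.φ z = 1 := Units.ext (by rw [hz, F.φ_el, show sgnAB z0 = 1 by decide]; norm_num)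
  have hcube : ∀ u, IsConj (el e j1) u → u ^ 3 = 1 ∧ F.φ u = 1 := by
    intro u hu
    obtain ⟨c, rfl⟩ := isConj_iff.mp hu
    refine ⟨by rw [conj_pow, hj, mul_one, mul_inv_cancel], ?_⟩
    rw [map_mul, map_mul, map_inv, hφj, mul_one, mul_inv_cancel]
  -- the partner involution
  have hrel : ∀ w ∈ U, w⁻¹ * z * w = z * (w * z * w⁻¹) := by
    intro w hw
    obtain ⟨hw1, hw2⟩ := Finset.mem_filter.mp hw
    have h3 := (hcube w (mem_clOf.mp hw1)).1
    have h3' := (hcube _ hw2).1
    have hzi : z⁻¹ = z := inv_eq_of_mul_eq_one_left hz2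
    have hwi : w⁻¹ = w * w := inv_eq_of_mul_eq_one_right (by rw [← mul_assoc, ← pow_three']; exact h3)
    have h1 : z * w * z = w⁻¹ * z * w⁻¹ := by
      have h4 : z * w * (z * w) * (z * w) = 1 := by
        rw [← pow_three']; exact h3'
      calc z * w * z = (z * w * (z * w) * (z * w)) * (w⁻¹ * z⁻¹ * w⁻¹) := by group
        _ = w⁻¹ * z * w⁻¹ := by rw [h4, one_mul, hzi]
    calc w⁻¹ * z * w = (w⁻¹ * z * w⁻¹) * (w * w) := by group
      _ = (z * w * z) * (w * w) := by rw [h1]
      _ = z * (w * z * w⁻¹) := by rw [hwi]; group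
  have hmemC : ∀ w ∈ U, w * z * w⁻¹ ∈ C := by
    intro w hw
    have hr := hrel w hw
    have hsq : ∀ g : G, g * z * g⁻¹ * (g * z * g⁻¹) = 1 := fun g => by
      rw [show g * z * g⁻¹ * (g * z * g⁻¹) = g * (z * z) * g⁻¹ by group, hz2, mul_one, mul_inv_cancel]
    rw [Subgroup.mem_centralizer_singleton_iff]
    set a := w * z * w⁻¹ with ha
    have haa : a * a = 1 := hsq w
    have hza : z * a * (z * a) = 1 := by
      rw [← hr]
      have := hsq w⁻¹
      rwa [inv_inv] at this
    calc a * z = z * (z * a * (z * a)) * a := by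
          rw [show z * (z * a * (z * a)) * a = (z * z) * a * z * (a * a) by group, hz2, haa, one_mul, mul_one]
      _ = z * a := by rw [hza, mul_one]
  let toC' : ∀ w ∈ U, C' := fun w hw => ⟨⟨w * z * w⁻¹, hmemC w hw⟩, by
    show F.φ (w * z * w⁻¹) = 1
    rw [map_mul, map_mul, map_inv, hφz, mul_one, mul_inv_cancel]⟩
  refine le_trans ?_ (sum_centralizer_le (K := C'))
  have hmap : U.card = ∑ a ∈ Finset.univ.filter (fun a : C' => a * a = 1),
      (U.filter fun w => w * z * w⁻¹ = ((a : C) : G)).card := by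
    rw [← Finset.card_biUnion]
    · congr 1
      ext w
      simp only [Finset.mem_biUnion, Finset.mem_filter, Finset.mem_univ, true_and]
      constructor
      · intro hw
        refine ⟨toC' w hw, Subtype.ext (Subtype.ext ?_), hw, rfl⟩
        show w * z * w⁻¹ * (w * z * w⁻¹) = 1
        rw [show w * z * w⁻¹ * (w * z * w⁻¹) = w * (z * z) * w⁻¹ by group, hz2, mul_one, mul_inv_cancel]
      · rintro ⟨a, -, hw, -⟩
        exact hw
    · intro a _ b _ hab
      simp only [Function.onFun, Finset.disjoint_left, Finset.mem_filter, not_and, and_imp]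
      intro w _ h1 _ h2
      exact hab (Subtype.ext (Subtype.ext (h1.symm.trans h2)))
  rw [hmap]
  refine le_trans (Finset.sum_le_sum
    (g := fun a : C' => Nat.card (Subgroup.centralizer ({a} : Set C'))) fun a _ => ?_)
    (le_of_eq (by congr!))
  by_cases hne : (U.filter fun w => w * z * w⁻¹ = ((a : C) : G)).Nonempty
  swap
  · rw [Finset.not_nonempty_iff_eq_empty.mp hne]; simp
  obtain ⟨w₀, hw₀⟩ := hne
  obtain ⟨hw₀U, hw₀a⟩ := Finset.mem_filter.mp hw₀
  have hok : ∀ w ∈ U.filter (fun w => w * z * w⁻¹ = ((a : C) : G)), w * w₀⁻¹ ∈ C ∧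
      F.φ (w * w₀⁻¹) = 1 ∧ w * w₀⁻¹ * ((a : C) : G) = ((a : C) : G) * (w * w₀⁻¹) := by
    intro w hw
    obtain ⟨hwU, hwa⟩ := Finset.mem_filter.mp hw
    refine ⟨?_, ?_, ?_⟩
    · rw [Subgroup.mem_centralizer_singleton_iff]
      have h1 := hrel w hwU
      have h2 := hrel w₀ hw₀U
      rw [hwa] at h1
      rw [hw₀a, ← h1] at h2
      calc w * w₀⁻¹ * z = w * (w₀⁻¹ * z * w₀) * w₀⁻¹ := by group
        _ = w * (w⁻¹ * z * w) * w₀⁻¹ := by rw [h2]
        _ = z * (w * w₀⁻¹) := by group
    · rw [map_mul, map_inv, (hcube w (mem_clOf.mp (Finset.mem_filter.mp hwU).1)).2,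
        (hcube w₀ (mem_clOf.mp (Finset.mem_filter.mp hw₀U).1)).2, inv_one, mul_one]
    · calc w * w₀⁻¹ * ((a : C) : G) = w * w₀⁻¹ * (w₀ * z * w₀⁻¹) := by rw [hw₀a]
        _ = w * z * w⁻¹ * (w * w₀⁻¹) := by group
        _ = _ := by rw [hwa]
  rw [← Nat.card_eq_finsetCard]
  refine Nat.card_le_card_of_injective
    (fun w => ⟨⟨⟨w.1 * w₀⁻¹, (hok _ w.2).1⟩, (hok _ w.2).2.1⟩,
      Subgroup.mem_centralizer_singleton_iff.mpr (Subtype.ext (Subtype.ext (hok _ w.2).2.2))⟩) ?_
  intro w w' h
  have h' : w.1 * w₀⁻¹ = w'.1 * w₀⁻¹ := congrArg (fun u : Subgroup.centralizer ({a} : Set C') => (((u : C') : C) : G)) h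
  exact Subtype.ext (mul_right_cancel h')

omit [Fintype H] in
/-- The square of a value at an involution is bounded by the order of its centraliser. -/
theorem sq_val_le {ψ : IrrCharacter G} {t : G} (ht : t ^ 2 = 1) {v : ℤ}
    (hv : (ψ : G → ℂ) t = v) : v ^ 2 ≤ Nat.card (Subgroup.centralizer ({t} : Set G)) := by
  choose k hk using fun χ : IrrCharacter G => char_involution_int (Chars.irr_isCharacter χ) ht
  have h := Chars.column_orth t t
  rw [if_pos (IsConj.refl t)] at h
  simp only [hk, map_intCast] at h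
  have h' : ∑ χ : IrrCharacter G, k χ * k χ = Nat.card (Subgroup.centralizer ({t} : Set G)) := by
    exact_mod_cast h
  have hkv : k ψ = v := by exact_mod_cast (hk ψ).symm.trans hv
  rw [← h', sq, ← hkv]
  exact Finset.single_le_sum (f := fun χ => k χ * k χ) (fun χ _ => mul_self_nonneg _) (Finset.mem_univ ψ)

end Cfsg.Agent.OddChar.Wreath72
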