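import Cfsg.Agent.OddChar.Wreath72Config

/-!
Consequences of the configuration of nine signed constituents: values, class equations and the
quadratic relations between the rows.
-/

set_option autoImplicit false

open Cfsg
open scoped Classical ComplexConjugate

namespace Cfsg.Agent.OddChar.Wreath72

open S3Cubed (virt_comp virt_indFun setA)

variable {G : Type*} [Group G] [Fintype G] {H : Subgroup G} [Fintype H] {e : H ≃* W}

/-- The signed values of the constituents at an element. -/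
def Config.IsVal (cfg : Config e) (x : G) (v : Fin 9 → ℤ) : Prop :=
  ∀ k, (cfg.pts k : G → ℂ) x = ((cfg.sgn k * v k : ℤ) : ℂ)

theorem Config.isVal_one (cfg : Config e) : cfg.IsVal 1 cfg.D := cfg.deg

theorem Config.exists_val (cfg : Config e) {x : G} (hx : x ^ 2 = 1) : ∃ v, cfg.IsVal x v := by
  choose v hv using fun k => char_involution_int (Chars.irr_isCharacter (cfg.pts k)) hx
  refine ⟨fun k => cfg.sgn k * v k, fun k => ?_⟩
  rw [hv, ← mul_assoc, cfg.sgn_sq, one_mul]

theorem Config.val_zero (cfg : Config e) {x : G} {v : Fin 9 → ℤ} (hv : cfg.IsVal x v) : v 0 = 1 := by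
  have h := hv 0
  rw [cfg.pts_zero, cfg.sgn_zero, one_mul] at h
  simp only at h
  exact_mod_cast h.symm

theorem Config.D_zero (cfg : Config e) : cfg.D 0 = 1 := cfg.val_zero cfg.isVal_one

theorem Config.D_ne_zero (cfg : Config e) (k : Fin 9) : cfg.D k ≠ 0 := fun h => by
  simpa [h] using cfg.deg_pos k

theorem Config.ind_apply (cfg : Config e) (i : Fin 4) (g : G) :
    ind e i g = ∑ j : Fin 4, (cfg.sgn (rowPts i j) : ℂ) * (cfg.pts (rowPts i j) : G → ℂ) g := by
  conv_lhs => rw [Chars.eq_sum_classInner (virt_isClassFunction (ind_virt e i))]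
  rw [Finset.sum_apply,
    ← Finset.sum_subset (Finset.subset_univ (Finset.univ.image fun j => cfg.pts (rowPts i j))) ?_,
    Finset.sum_image fun a _ b _ h => rowPts_inj i (cfg.inj h)]
  · refine Finset.sum_congr rfl fun j _ => ?_
    rw [Pi.smul_apply, smul_eq_mul, cfg.inner, colT_row, mul_one]
  · intro ψ _ hψ
    rw [Pi.smul_apply, smul_eq_mul]
    refine mul_eq_zero_of_left ?_ _
    by_cases hk : ∃ k, ψ = cfg.pts k
    · obtain ⟨k, rfl⟩ := hk
      rw [cfg.inner, colT_out i k fun j hj => hψ (Finset.mem_image.mpr ⟨j, Finset.mem_univ _, by rw [hj]⟩),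
        mul_zero, Int.cast_zero]
    · exact cfg.out ψ (fun k hk' => hk ⟨k, hk'⟩) i

theorem Config.row_zero (cfg : Config e) {x : G} (hx : x ^ 4 = 1) {v : Fin 9 → ℤ}
    (hv : cfg.IsVal x v) (i : Fin 4) :
    v (rowPts i 0) + v (rowPts i 1) + v (rowPts i 2) + v (rowPts i 3) = 0 := by
  have h := cfg.ind_apply i x
  rw [ind_eq_zero e i hx, Fin.sum_univ_four, hv, hv, hv, hv] at h
  have h' : cfg.sgn (rowPts i 0) * (cfg.sgn (rowPts i 0) * v (rowPts i 0)) +
      cfg.sgn (rowPts i 1) * (cfg.sgn (rowPts i 1) * v (rowPts i 1)) +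
      cfg.sgn (rowPts i 2) * (cfg.sgn (rowPts i 2) * v (rowPts i 2)) +
      cfg.sgn (rowPts i 3) * (cfg.sgn (rowPts i 3) * v (rowPts i 3)) = 0 := by exact_mod_cast h.symm
  simpa only [← mul_assoc, cfg.sgn_sq, one_mul] using h'

/-- The row of signed values, over the rationals. -/
def rowQ (v : Fin 9 → ℤ) (i : Fin 4) : Fin 4 → ℚ := fun j => (v (rowPts i j) : ℚ)

theorem Config.row_form (cfg : Config e) (hA : IsTISection H (setA H)) (i : Fin 4) {a b : W}
    (ha : a * a = 1) (hb : b * b = 1) {va vb : Fin 9 → ℤ} (hva : cfg.IsVal (el e a) va)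
    (hvb : cfg.IsVal (el e b) vb) {p q : W → Bool}
    (hp : ∀ h : H, IsConj (el e a) (h : G) ↔ p (e h) = true)
    (hq : ∀ h : H, IsConj (el e b) (h : G) ↔ q (e h) = true) :
    form4 (rowQ cfg.D i) (rowQ va i) (rowQ vb i) *
        ((clOf (el e a)).card * (clOf (el e b)).card) =
      (Nat.card G : ℚ) / 72 * (unitSum p q i : ℚ) := by
  have h1 := hA.pair_sum (θ := theta e i) (theta_supp e i) (x := el e a) (y := el e b)
    (by rw [← el_mul, ha, el_one]) (by rw [← el_mul, hb, el_one])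
  change ∑ u ∈ clOf (el e a), ∑ v ∈ clOf (el e b), ind e i (u * v) = _ at h1
  simp only [cfg.ind_apply] at h1
  rw [Finset.sum_congr rfl fun u _ => Finset.sum_comm, Finset.sum_comm] at h1
  simp only [← Finset.mul_sum, irr_pair_sum (Subtype.prop _)] at h1
  have hU : ∑ u : H, ∑ v : H,
      (if IsConj (el e a) (u : G) ∧ IsConj (el e b) (v : G) then theta e i (u * v) else 0) =
        (unitSum p q i : ℂ) := by
    simp only [hp, hq, unitSum, Int.cast_sum]
    rw [← sum_H e]
    refine Finset.sum_congr rfl fun u _ => ?_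
    rw [← sum_H e]
    refine Finset.sum_congr rfl fun v _ => ?_
    simp [theta, apply_ite (Int.cast : ℤ → ℂ)]
  rw [hU, card_H e] at h1
  refine Rat.cast_injective (α := ℂ) ?_
  simp only [form4, rowQ]
  push_cast
  refine Eq.trans ?_ (h1.trans ?_)
  · have hterm : ∀ j : Fin 4, (cfg.sgn (rowPts i j) : ℂ) *
        (((clOf (el e a)).card : ℂ) * (clOf (el e b)).card *
          ((cfg.pts (rowPts i j) : G → ℂ) (el e a) * (cfg.pts (rowPts i j) : G → ℂ) (el e b) /
            (cfg.pts (rowPts i j) : G → ℂ) 1)) =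
        ((clOf (el e a)).card : ℂ) * (clOf (el e b)).card *
          ((va (rowPts i j) : ℂ) * (vb (rowPts i j) : ℂ) / (cfg.D (rowPts i j) : ℂ)) := by
      intro j
      rw [hva, hvb, cfg.deg]
      rcases Int.eq_one_or_neg_one_of_mul_eq_one (cfg.sgn_sq (rowPts i j)) with h | h <;>
        rw [h] <;> push_cast <;> simp [neg_div_neg_eq, div_neg] <;> ring
    rw [Fin.sum_univ_four, hterm, hterm, hterm, hterm]
    ring
  · push_cast; ring

theorem Config.quad (cfg : Config e) (hA : IsTISection H (setA H)) {fz : Bool} (hz : Labelled e fz)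
    {x y : Fin 9 → ℤ} (hx : cfg.IsVal (el e r1) x) (hy : cfg.IsVal (el e r2) y) (i : Fin 4)
    {f h : Fin 4 → ℚ} (hf : dot4 f (rowQ cfg.D i) = 0) (hh : dot4 h (rowQ cfg.D i) = 0) :
    ((units fz i).2.1 : ℚ) * (dot4 f (rowQ x i) * (clOf (el e r1)).card *
          (dot4 h (rowQ x i) * (clOf (el e r1)).card)) -
        ((units fz i).2.2 : ℚ) * (dot4 f (rowQ x i) * (clOf (el e r1)).card *
          (dot4 h (rowQ y i) * (clOf (el e r2)).card) + dot4 f (rowQ y i) * (clOf (el e r2)).card *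
          (dot4 h (rowQ x i) * (clOf (el e r1)).card)) +
        ((units fz i).1 : ℚ) * (dot4 f (rowQ y i) * (clOf (el e r2)).card *
          (dot4 h (rowQ y i) * (clOf (el e r2)).card)) =
      (Nat.card G : ℚ) * ((((units fz i).1 : ℚ) * (units fz i).2.1 - ((units fz i).2.2 : ℚ) ^ 2) / 72) *
        (f 0 * h 0 * rowQ cfg.D i 0 + f 1 * h 1 * rowQ cfg.D i 1 + f 2 * h 2 * rowQ cfg.D i 2 +
          f 3 * h 3 * rowQ cfg.D i 3) := by
  have hX := class_r1 e hA hz
  have hY := class_r2 e hA hz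
  have hs : ∀ {g : G} {v : Fin 9 → ℤ}, g ^ 4 = 1 → cfg.IsVal g v →
      rowQ v i 0 + rowQ v i 1 + rowQ v i 2 + rowQ v i 3 = 0 := fun hg hv => by
    simp only [rowQ]; exact_mod_cast cfg.row_zero hg hv i
  refine row_dual (fun j => Int.cast_ne_zero.mpr (cfg.D_ne_zero _)) (hs (one_pow 4) cfg.isVal_one)
    (hs (by rw [← el_pow, show r1 ^ 4 = 1 by decide +kernel, el_one]) hx)
    (hs (by rw [← el_pow, show r2 ^ 4 = 1 by decide +kernel, el_one]) hy) hf hh
    (by exact_mod_cast Nat.card_pos.ne') ?_ ?_ ?_ ?_ ?_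
  · exact_mod_cast (Finset.card_pos.mpr ⟨_, mem_clOf.mpr (IsConj.refl _)⟩).ne'
  · exact_mod_cast (Finset.card_pos.mpr ⟨_, mem_clOf.mpr (IsConj.refl _)⟩).ne'
  · rw [← (units_eq fz i).1]
    exact cfg.row_form hA i (by decide) (by decide) hx hx hX hX
  · rw [← (units_eq fz i).2.1]
    exact cfg.row_form hA i (by decide) (by decide) hy hy hY hY
  · rw [← (units_eq fz i).2.2]
    exact cfg.row_form hA i (by decide) (by decide) hx hy hX hY

end Cfsg.Agent.OddChar.Wreath72
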