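import Cfsg.Agent.OddChar.Wreath72Char
import Cfsg.Agent.OddChar.PairSum

/-!
A subgroup isomorphic to the wreath product of order seventy-two controlling the centralisers of
its elements of order three: the four induced generalised characters, and the two classes of
reflections do not fuse.
-/

set_option autoImplicit false

open Cfsg
open scoped Classical ComplexConjugate

namespace Cfsg.Agent.OddChar.Wreath72

open S3Cubed (virt_comp virt_indFun setA)

variable {G : Type*} [Group G] {H : Subgroup G} (e : H ≃* W)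

/-- An element of the model inside `G`. -/
def el (g : W) : G := (e.symm g : G)

theorem el_mul (a b : W) : el e (a * b) = el e a * el e b := by simp [el]

theorem el_one : el e 1 = 1 := by simp [el]

theorem el_inv (a : W) : el e a⁻¹ = (el e a)⁻¹ := by simp [el]

theorem el_pow (a : W) (n : ℕ) : el e (a ^ n) = el e a ^ n := by simp [el]

theorem coe_eq_el (h : H) : (h : G) = el e (e h) := by simp [el]

theorem el_isConj {a b : W} (h : ∃ c, c * a * c⁻¹ = b) : IsConj (el e a) (el e b) := by
  obtain ⟨c, rfl⟩ := h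
  exact isConj_iff.mpr ⟨el e c, by rw [el_mul, el_mul, el_inv]⟩

/-- The generalised characters on `H`. -/
noncomputable def theta (i : Fin 4) (h : H) : ℂ := (fun4 i (e h) : ℂ)

theorem theta_virt (i : Fin 4) : IsGeneralizedCharacter H (theta e i) :=
  virt_comp (fun4_virt i) e.toMonoidHom

theorem theta_supp (i : Fin 4) (h : H) (hne : theta e i h ≠ 0) : (h : G) ∈ setA H := by
  refine ⟨h.2, fun h4 => fun4_supp i (e h) (fun h0 => hne (by simp [theta, h0])) ?_⟩
  rw [← map_pow, show h ^ 4 = 1 from Subtype.ext (by simpa using h4), map_one]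

theorem sum_H [Fintype H] {α : Type*} [AddCommMonoid α] (F : W → α) :
    ∑ h : H, F (e h) = ∑ g : W, F g :=
  Fintype.sum_equiv e.toEquiv _ _ fun _ => rfl

include e in
theorem card_H : Nat.card H = 72 := by
  rw [Nat.card_congr e.toEquiv, Nat.card_eq_fintype_card, card_W]

variable [Fintype G] [Fintype H]

/-- The induced generalised characters. -/
noncomputable def ind (i : Fin 4) : G → ℂ := indFun H (theta e i)

omit [Fintype H] in
theorem ind_virt (i : Fin 4) : IsGeneralizedCharacter G (ind e i) :=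
  virt_indFun H (theta_virt e i)

theorem ind_gram (hA : IsTISection H (setA H)) (i j : Fin 4) :
    classInner (ind e i) (ind e j) = (gram i j : ℂ) := by
  rw [ind, ind, hA.classInner_indFun_indFun (virt_isClassFunction (theta_virt e i))
    (virt_isClassFunction (theta_virt e j)) (theta_supp e i) (theta_supp e j), Chars.classInner_def,
    card_H e]
  have h := congrArg (fun n : ℤ => (n : ℂ)) (gram_eq i j)
  simp only [Int.cast_mul, Int.cast_sum, Int.cast_ofNat] at h
  simp only [theta, map_intCast]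
  rw [sum_H e (fun g => (fun4 i g : ℂ) * (fun4 j g : ℂ)), h]
  push_cast
  ring

theorem ind_one_inner (i : Fin 4) :
    classInner (ind e i) (fun _ => 1) = if i.val < 2 then 1 else 0 := by
  rw [ind, Chars.classInner_indFun H _ (fun _ _ => rfl), Chars.classInner_def, card_H e]
  simp only [theta, map_one, mul_one]
  rw [sum_H e (fun g => (fun4 i g : ℂ)), ← Int.cast_sum, fun4_one i]
  split_ifs <;> norm_num

omit [Fintype H] in
theorem ind_eq_zero (i : Fin 4) {x : G} (hx : x ^ 4 = 1) : ind e i x = 0 :=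
  indFun_eq_zero_of_forall (theta_supp e i) fun c hc => hc.2 (by
    rw [conj_pow, hx, mul_one, mul_inv_cancel])

/-- Nine times an integer is the degree plus four times the sum of the multiplicities. -/
theorem degree_congr {ψ : G → ℂ} (hψ : IsCharacter G ψ) {d : ℤ} (hd : ψ 1 = d) {m : Fin 4 → ℤ}
    (hm : ∀ i, classInner (ind e i) ψ = m i) : (9 : ℤ) ∣ d + 4 * ∑ i, m i := by
  obtain ⟨L, hL⟩ := exists_classInner_eq_int (virt_comp fLam_virt e.toMonoidHom)
    (virt_of_char (Chars.isCharacter_restrict hψ H))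
  refine ⟨L, ?_⟩
  have hm' : ∀ i, (m i : ℂ) = (72 : ℂ)⁻¹ * ∑ h : H, (fun4 i (e h) : ℂ) * conj (ψ h) := by
    intro i
    rw [← hm i, ind, Chars.classInner_indFun H _ (Chars.isClassFunction_of_isCharacter hψ),
      Chars.classInner_def, card_H e]
    norm_num [theta]
  rw [Chars.classInner_def, card_H e] at hL
  have key : ∀ h : H, (9 : ℂ) * ((fLam (e h) : ℂ) * conj (ψ h)) =
      (if h = 1 then (72 : ℂ) * conj (ψ h) else 0) + 4 * ∑ i, (fun4 i (e h) : ℂ) * conj (ψ h) := by
    intro h
    have h9 := congrArg (fun n : ℤ => (n : ℂ)) (fLam_eq (e h))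
    simp only [Int.cast_mul, Int.cast_add, Int.cast_sum, Int.cast_ofNat, apply_ite, Int.cast_zero,
      EmbeddingLike.map_eq_one_iff] at h9
    rw [← mul_assoc, h9, add_mul, mul_assoc, Finset.sum_mul]
    by_cases h1 : h = 1 <;> simp [h1]
  have htot := Finset.sum_congr rfl (s₁ := (Finset.univ : Finset H)) fun h _ => key h
  rw [← Finset.mul_sum, Finset.sum_add_distrib, Finset.sum_ite_eq' Finset.univ (1 : H),
    if_pos (Finset.mem_univ _), ← Finset.mul_sum, Finset.sum_comm] at htot
  have hfin : ((d + 4 * ∑ i, m i : ℤ) : ℂ) = ((9 * L : ℤ) : ℂ) := by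
    push_cast
    simp only [hm', ← Finset.mul_sum]
    rw [← hL]
    simp only [MulEquiv.coe_toMonoidHom, MonoidHom.coe_coe] at *
    rw [OneMemClass.coe_one, hd, map_intCast] at htot
    norm_num at htot ⊢
    linear_combination (-1 / 72 : ℂ) * htot
  exact_mod_cast hfin

/-- The two classes of reflections do not fuse. -/
theorem not_isConj (hA : IsTISection H (setA H)) : ¬ IsConj (el e r1) (el e r2) := by
  intro hconj
  have hv : IsGeneralizedCharacter G (ind e 0 - ind e 2 - (ind e 1 - ind e 3)) :=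
    virt_sub (virt_sub (ind_virt e 0) (ind_virt e 2)) (virt_sub (ind_virt e 1) (ind_virt e 3))
  have hnorm : classInner (ind e 0 - ind e 2 - (ind e 1 - ind e 3))
      (ind e 0 - ind e 2 - (ind e 1 - ind e 3)) = 12 := by
    simp only [Chars.classInner_sub_left, Chars.classInner_sub_right, ind_gram e hA]
    have hg : gram 0 0 - gram 0 2 - (gram 2 0 - gram 2 2) - ((gram 1 0 - gram 1 2) -
        (gram 3 0 - gram 3 2)) - ((gram 0 1 - gram 0 3 - (gram 2 1 - gram 2 3)) -
        (gram 1 1 - gram 1 3 - (gram 3 1 - gram 3 3))) = 12 := by decide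
    have := congrArg (fun n : ℤ => (n : ℂ)) hg
    push_cast at this
    linear_combination this
  obtain ⟨m, hm, -, hsq⟩ := exists_eq_sum_zsmul hv
  obtain ⟨ε, hε⟩ : ∃ ε : ℂ, IsPrimitiveRoot ε 3 :=
    ⟨_, Complex.isPrimitiveRoot_exp 3 (by norm_num)⟩
  have hdvd : ∀ ψ : IrrCharacter G, (3 : ℤ) ∣ m ψ := by
    intro ψ
    have hψc := Chars.irr_isCharacter ψ
    have hψf := Chars.isClassFunction_of_isCharacter hψc
    have hval : ∀ h : H, (etaDiff (e h) : ℂ) * conj ((ψ : G → ℂ) h) =
        (fun g : W => (if etaDiff g = 6 then (6 : ℂ) * conj ((ψ : G → ℂ) (el e q1)) else 0) +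
          if etaDiff g = -6 then (-6 : ℂ) * conj ((ψ : G → ℂ) (el e q2)) else 0) (e h) := by
      intro h
      rw [coe_eq_el e h]
      rcases etaDiff_eq (e h) with h0 | ⟨h6, hc⟩ | ⟨h6, hc⟩
      · simp [h0]
      · obtain ⟨c, hc⟩ := hc
        rw [← hc] at h6 ⊢
        simp [h6, el_mul, el_inv, Chars.isCharacter_conj_apply hψc]
      · obtain ⟨c, hc⟩ := hc
        rw [← hc] at h6 ⊢
        simp [h6, el_mul, el_inv, Chars.isCharacter_conj_apply hψc]
    have hmψ : (m ψ : ℂ) = conj ((ψ : G → ℂ) (el e q1)) - conj ((ψ : G → ℂ) (el e q2)) := by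
      rw [← hm ψ]
      simp only [ind, ← Chars.indFun_sub]
      rw [Chars.classInner_indFun H _ hψf, Chars.classInner_def, card_H e,
        Finset.sum_congr rfl fun h _ => ?_, sum_H e (fun g : W =>
          (if etaDiff g = 6 then (6 : ℂ) * conj ((ψ : G → ℂ) (el e q1)) else 0) +
          if etaDiff g = -6 then (-6 : ℂ) * conj ((ψ : G → ℂ) (el e q2)) else 0),
        Finset.sum_add_distrib, ← Finset.sum_filter, ← Finset.sum_filter, Finset.sum_const,
        Finset.sum_const, etaDiff_count.1, etaDiff_count.2]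
      · simp only [nsmul_eq_mul]; push_cast; ring
      · refine Eq.trans ?_ (hval h)
        simp [etaDiff, theta]
    have h6 : el e q1 ^ 6 = 1 ∧ el e q2 ^ 6 = 1 := by
      rw [← el_pow, ← el_pow, q_cube.1, q_cube.2.1, el_one]; exact ⟨rfl, rfl⟩
    obtain ⟨w, hw, hwe⟩ := char_sub_cube hψc h6.1 hε
    obtain ⟨w', hw', hwe'⟩ := char_sub_cube hψc h6.2 hε
    have heq : (ψ : G → ℂ) (el e q1 ^ 3) = (ψ : G → ℂ) (el e q2 ^ 3) := by
      obtain ⟨c, hc⟩ := isConj_iff.mp ((el_isConj e q_cube.2.2.1).symm.trans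
        (hconj.trans (el_isConj e q_cube.2.2.2)))
      rw [← el_pow, ← el_pow, ← hc, Chars.isCharacter_conj_apply hψc]
    have hmψ' : (m ψ : ℂ) = (ψ : G → ℂ) (el e q1) - (ψ : G → ℂ) (el e q2) := by
      have := congrArg conj hmψ
      simpa using this
    refine prime_dvd_of_primitive_root Nat.prime_three hε (hw.sub hw') ?_
    linear_combination hwe - hwe' + hmψ' + heq
  have h9 : (9 : ℤ) ∣ ∑ ψ : IrrCharacter G, m ψ ^ 2 :=
    Finset.dvd_sum fun ψ _ => by
      obtain ⟨d, hd⟩ := hdvd ψ
      exact ⟨d ^ 2, by rw [hd]; ring⟩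
  rw [show ∑ ψ : IrrCharacter G, m ψ ^ 2 = 12 by rw [hnorm] at hsq; exact_mod_cast hsq.symm] at h9
  norm_num at h9

end Cfsg.Agent.OddChar.Wreath72
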