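import Cfsg.Agent.OddChar.Wreath72Core

/-!
The linear constituent restricts to the sign character, permutes the constituents, and the values
of the constituents at the involutions of the subgroup.
-/

set_option autoImplicit false

open Cfsg
open scoped Classical ComplexConjugate

namespace Cfsg.Agent.OddChar.Wreath72

open S3Cubed (virt_comp virt_indFun setA)

theorem transl_comm : ∀ t : V, ∃ u v : W, u * v * u⁻¹ * v⁻¹ = ⟨t, ⟨false, false, false⟩⟩ := by
  decide +kernel

theorem s_word : ∀ g : W, g = ⟨g.t, ⟨false, false, false⟩⟩ *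
    (r1 ^ g.s.u.toNat * (r2 * r1 * r2) ^ g.s.v.toNat * r2 ^ g.s.w.toNat) := by
  decide +kernel

/-- The value of a linear character with signs `a`, `b` on the two reflections. -/
def linFun (a b : Bool) (g : W) : ℤ :=
  (if a && (g.s.u != g.s.v) then -1 else 1) * (if b && g.s.w then -1 else 1)

theorem lin_eq (f : W →* ℂˣ) : ∃ a b : Bool, ∀ g, (f g : ℂ) = (linFun a b g : ℂ) := by
  have hsq : ∀ r : W, r * r = 1 → ∃ a : Bool, (f r : ℂ) = if a then -1 else 1 := by
    intro r hr
    have h : ((f r : ℂ)) * (f r : ℂ) = 1 := by rw [← Units.val_mul, ← map_mul, hr, map_one, Units.val_one]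
    rcases mul_self_eq_one_iff.mp h with h' | h'
    · exact ⟨false, by simp [h']⟩
    · exact ⟨true, by simp [h']⟩
  obtain ⟨a, ha⟩ := hsq r1 (by decide)
  obtain ⟨b, hb⟩ := hsq r2 (by decide)
  refine ⟨a, b, fun g => ?_⟩
  obtain ⟨u, v, huv⟩ := transl_comm g.t
  have ht : (f ⟨g.t, ⟨false, false, false⟩⟩ : ℂ) = 1 := by
    rw [← huv, map_mul, map_mul, map_mul, map_inv, map_inv, mul_comm (f u) (f v), mul_inv_cancel_right,
      mul_inv_cancel, Units.val_one]
  conv_lhs => rw [s_word g]
  simp only [map_mul, map_pow, Units.val_mul, Units.val_pow_eq_pow_val, ha, hb, ht, one_mul]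
  simp only [linFun]
  cases a <;> cases b <;> cases g.s.u <;> cases g.s.v <;> cases g.s.w <;> norm_num

theorem lin_sgn : ∀ a b : Bool, (∀ i : Fin 4, ∑ g : W, fun4 i g * linFun a b g = 72 * colT 4 i) →
    ∀ g, linFun a b g = sgnAB g := by decide +kernel

/-- The shift of the rows. -/
def shift (i : Fin 4) : Fin 4 := i + 2

theorem fun4_shift : ∀ (i : Fin 4) (g : W), fun4 i g * sgnAB g = fun4 (shift i) g := by
  decide +kernel

/-- The permutation of the constituents. -/
def twist : Fin 9 → Fin 9 := ![4, 1, 3, 2, 0, 7, 8, 5, 6]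

theorem colT_twist : ∀ k : Fin 9, (∀ i, colT (twist k) i = colT k (shift i)) ∧
    (∃ i, colT k (shift i) ≠ 0) ∧ ∀ l : Fin 9, ((∀ i, colT l i = colT k (shift i)) → l = twist k) ∧
      ¬ ∀ i, -colT l i = colT k (shift i) := by
  decide +kernel

variable {G : Type*} [Group G] [Fintype G] {H : Subgroup G} [Fintype H] {e : H ≃* W}

/-- Everything known about the linear constituent. -/
theorem Config.exists_phi (cfg : Config e) (hA : IsTISection H (setA H)) {fz : Bool}
    (hz : Labelled e fz) :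
    ∃ φ : G →* ℂˣ, (∀ g, (cfg.pts 4 : G → ℂ) g = (φ g : ℂ)) ∧ cfg.sgn 4 = 1 ∧
      ∀ w : W, (φ (el e w) : ℂ) = (sgnAB w : ℂ) := by
  have h4 := cfg.D_four hA hz
  have hs : cfg.sgn 4 = 1 := by
    have h := cfg.deg_pos 4
    rw [h4, mul_one] at h
    rcases Int.eq_one_or_neg_one_of_mul_eq_one (cfg.sgn_sq 4) with h' | h'
    · exact h'
    · omega
  obtain ⟨φ, hφ⟩ := Chars.exists_hom_of_degree_one (Chars.irr_isCharacter (cfg.pts 4))
    (by rw [cfg.deg, h4, hs]; norm_num)
  refine ⟨φ, congrFun hφ, hs, ?_⟩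
  let f : W →* ℂˣ := φ.comp (H.subtype.comp e.symm.toMonoidHom)
  obtain ⟨a, b, hab⟩ := lin_eq f
  have hab' : ∀ w, (φ (el e w) : ℂ) = (linFun a b w : ℂ) := hab
  have hsum : ∀ i : Fin 4, ∑ g : W, fun4 i g * linFun a b g = 72 * colT 4 i := by
    intro i
    have h := cfg.inner 4 i
    rw [ind, Chars.classInner_indFun H _
      (Chars.isClassFunction_of_isCharacter (Chars.irr_isCharacter _)), Chars.classInner_def,
      card_H e, hs, one_mul, inv_mul_eq_iff_eq_mul₀ (by norm_num)] at h
    rw [Finset.sum_congr rfl (g := fun h : H => ((fun4 i (e h) * linFun a b (e h) : ℤ) : ℂ))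
      fun h _ => ?_, sum_H e (fun g => ((fun4 i g * linFun a b g : ℤ) : ℂ)), ← Int.cast_sum] at h
    · exact_mod_cast h
    · rw [congrFun hφ, coe_eq_el e h, hab', map_intCast]
      simp [theta, el]
  intro w
  rw [hab', lin_sgn a b hsum w]

theorem not_fused (hA : IsTISection H (setA H)) (e : H ≃* W) :
    ¬ IsConj (el e r1) (el e z0) := by
  intro h
  obtain ⟨cfg⟩ := exists_config e hA (fz := true) h
  obtain ⟨φ, -, -, hφ⟩ := cfg.exists_phi hA (fz := true) h
  obtain ⟨c, hc⟩ := isConj_iff.mp h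
  have h' := congrArg (fun g => (φ g : ℂ)) hc
  simp only [map_mul, map_inv, mul_comm (φ c), mul_inv_cancel_right, hφ,
    show sgnAB r1 = -1 by decide, show sgnAB z0 = 1 by decide] at h'
  norm_num at h'

/-- No fusion occurs. -/
theorem labelled_false (e : H ≃* W) (hA : IsTISection H (setA H)) : Labelled e false := by
  refine ⟨not_fused hA e, fun h => not_fused hA (e.trans outerEquiv.symm) ?_⟩
  obtain ⟨o1, o2, o3⟩ := outer_classes
  have hel' : ∀ w, el (e.trans outerEquiv.symm) w = el e (outer w) := by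
    intro w
    simp only [el, MulEquiv.symm_trans_apply, MulEquiv.symm_symm]
    rfl
  rw [hel', hel']
  exact (el_isConj e o1).trans (h.trans (el_isConj e o3).symm)

/-- The configuration with its linear constituent, without fusion. -/
structure Full (e : H ≃* W) where
  cfg : Config e
  φ : G →* ℂˣ
  hA : IsTISection H (setA H)
  lab : Labelled e false
  pts_four : ∀ g, (cfg.pts 4 : G → ℂ) g = (φ g : ℂ)
  sgn_four : cfg.sgn 4 = 1
  φ_el : ∀ w : W, (φ (el e w) : ℂ) = (sgnAB w : ℂ)

theorem exists_full (e : H ≃* W) (hA : IsTISection H (setA H)) : Nonempty (Full e) := by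
  have hz := labelled_false e hA
  obtain ⟨cfg⟩ := exists_config e hA hz
  obtain ⟨φ, h1, h2, h3⟩ := cfg.exists_phi hA hz
  exact ⟨⟨cfg, φ, hA, hz, h1, h2, h3⟩⟩

theorem Full.twist_pts (F : Full e) (k : Fin 9) :
    (F.cfg.pts (twist k) : G → ℂ) = (fun g => (F.φ g : ℂ) * (F.cfg.pts k : G → ℂ) g) ∧
      F.cfg.sgn (twist k) = F.cfg.sgn k := by
  let ψ : IrrCharacter G := ⟨_, Chars.isIrrCharacter_mul_hom (F.cfg.pts k).2 F.φ⟩
  have hin : ∀ i, classInner (ind e i) (ψ : G → ℂ) =
      ((F.cfg.sgn k * colT k (shift i) : ℤ) : ℂ) := by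
    intro i
    rw [← F.cfg.inner k (shift i), ind, ind,
      Chars.classInner_indFun H _ (Chars.isClassFunction_of_isCharacter (Chars.irr_isCharacter ψ)),
      Chars.classInner_indFun H _
        (Chars.isClassFunction_of_isCharacter (Chars.irr_isCharacter (F.cfg.pts k))),
      Chars.classInner_def, Chars.classInner_def]
    congr 1
    refine Finset.sum_congr rfl fun h _ => ?_
    show theta e i h * conj ((F.φ h : ℂ) * (F.cfg.pts k : G → ℂ) h) = _
    rw [coe_eq_el e h, map_mul, F.φ_el, map_intCast]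
    simp only [theta]
    rw [← mul_assoc, ← Int.cast_mul, fun4_shift]
  obtain ⟨hcol, ⟨i0, hi0⟩, huniq⟩ := colT_twist k
  have hs0 : ∀ l, F.cfg.sgn l ≠ 0 := fun l h => by simpa [h] using F.cfg.sgn_sq l
  by_cases hex : ∃ l, ψ = F.cfg.pts l
  · obtain ⟨l, hl⟩ := hex
    have heq : ∀ i, F.cfg.sgn l * colT l i = F.cfg.sgn k * colT k (shift i) := fun i => by
      have h := hin i
      rw [hl, F.cfg.inner l i] at h
      exact_mod_cast h
    have hsl : F.cfg.sgn l = F.cfg.sgn k := by
      rcases Int.eq_one_or_neg_one_of_mul_eq_one (F.cfg.sgn_sq l) with h | h <;>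
        rcases Int.eq_one_or_neg_one_of_mul_eq_one (F.cfg.sgn_sq k) with h' | h' <;> rw [h, h']
      · exact absurd (fun i => by have := heq i; rw [h, h'] at this; linarith) (huniq l).2
      · exact absurd (fun i => by have := heq i; rw [h, h'] at this; linarith) (huniq l).2
    have hlk : l = twist k := (huniq l).1 fun i => by
      have h := heq i
      rw [hsl] at h
      exact mul_left_cancel₀ (hs0 k) h
    subst hlk
    exact ⟨(congrArg (fun χ : IrrCharacter G => (χ : G → ℂ)) hl).symm, hsl⟩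
  · have h := hin i0
    rw [F.cfg.out ψ (fun l hl => hex ⟨l, hl⟩) i0] at h
    have h' : F.cfg.sgn k * colT k (shift i0) = 0 := by exact_mod_cast h.symm
    exact absurd h' (mul_ne_zero (hs0 k) hi0)

theorem Full.val_twist (F : Full e) {x : G} {v : Fin 9 → ℤ} (hv : F.cfg.IsVal x v) (k : Fin 9) :
    v (twist k) = v 4 * v k := by
  obtain ⟨h, hs⟩ := F.twist_pts k
  have h1 := hv (twist k)
  rw [h, hs] at h1
  simp only [hv k] at h1
  have h4 := hv 4
  rw [F.pts_four, F.sgn_four, one_mul] at h4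
  rw [h4] at h1
  have h2 : v 4 * (F.cfg.sgn k * v k) = F.cfg.sgn k * v (twist k) := by exact_mod_cast h1
  refine mul_left_cancel₀ (a := F.cfg.sgn k) (fun h0 => by simpa [h0] using F.cfg.sgn_sq k) ?_
  linear_combination -h2

theorem Full.val_four (F : Full e) {w : W} {v : Fin 9 → ℤ} (hv : F.cfg.IsVal (el e w) v) :
    v 4 = sgnAB w := by
  have h4 := hv 4
  rw [F.pts_four, F.sgn_four, one_mul, F.φ_el] at h4
  exact_mod_cast h4.symm

end Cfsg.Agent.OddChar.Wreath72
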