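import Cfsg.Agent.OddChar.Wreath72Cases

/-!
The values at the central inversion, and the number of products of two conjugates of an element of
order three equal to it.
-/

set_option autoImplicit false

open Cfsg
open scoped Classical ComplexConjugate

namespace Cfsg.Agent.OddChar.Wreath72

open S3Cubed (virt_comp virt_indFun setA)

/-- A functional vanishing on the degrees kills a vector orthogonal to a nondegenerate pair. -/
theorem form4_null {D w x y f : Fin 4 → ℚ} (hD : ∀ j, D j ≠ 0)
    (sD : D 0 + D 1 + D 2 + D 3 = 0) (sw : w 0 + w 1 + w 2 + w 3 = 0)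
    (sx : x 0 + x 1 + x 2 + x 3 = 0) (sy : y 0 + y 1 + y 2 + y 3 = 0) (hf : dot4 f D = 0)
    (hwx : form4 D w x = 0) (hwy : form4 D w y = 0)
    (hdet : form4 D x x * form4 D y y - form4 D x y ^ 2 ≠ 0) : dot4 f w = 0 := by
  have h0 := hD 0; have h1 := hD 1; have h2 := hD 2; have h3 := hD 3
  have key : (form4 D x x * form4 D y y - form4 D x y ^ 2) * dot4 f w =
      form4 D y y * (form4 D w x * dot4 f x) -
        form4 D x y * (form4 D w x * dot4 f y + form4 D w y * dot4 f x) +
        form4 D x x * (form4 D w y * dot4 f y) := by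
    have ew : w 3 = -(w 0 + w 1 + w 2) := by linear_combination sw
    have ex : x 3 = -(x 0 + x 1 + x 2) := by linear_combination sx
    have ey : y 3 = -(y 0 + y 1 + y 2) := by linear_combination sy
    have eD : D 3 = -(D 0 + D 1 + D 2) := by linear_combination sD
    simp only [dot4] at hf
    have ef : f 3 = -(f 0 * D 0 + f 1 * D 1 + f 2 * D 2) / D 3 := by
      field_simp; linear_combination hf
    simp only [form4, dot4, ew, ex, ey, ef]
    field_simp
    rw [eD]
    ring
  rw [hwx, hwy] at key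
  exact (mul_eq_zero.mp (key.trans (by ring))).resolve_left hdet

theorem units_z : ∀ i : Fin 4, unitSum isZ (cX false) i = ![108, 0, -108, 0] i ∧
    unitSum isZ isR2 i = ![0, 108, 0, -108] i := by decide +kernel

/-- The translation along the first axis. -/
def j1 : W := ⟨(1, 0), ⟨false, false, false⟩⟩

/-- The class of that translation. -/
def isJ (g : W) : Bool :=
  !g.s.w && !g.s.u && !g.s.v && ((g.t.1 == 0) != (g.t.2 == 0))

theorem isJ_iff : ∀ g : W, isJ g = true ↔ ∃ c, c * j1 * c⁻¹ = g := by decide +kernel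

theorem fun4_j : ∀ g : W, 2 * fun4 1 g + 2 * fun4 3 g - fun4 0 g - fun4 2 g =
    if isJ g then 18 else 0 := by decide +kernel

theorem fun4_jC (g : W) :
    2 * (fun4 1 g : ℂ) + 2 * (fun4 3 g : ℂ) - fun4 0 g - fun4 2 g = if isJ g then 18 else 0 := by
  have h := congrArg (fun n : ℤ => (n : ℂ)) (fun4_j g)
  by_cases hj : isJ g = true <;> simp [hj] at h ⊢ <;> exact h

theorem card_comm_j : (Finset.univ.filter fun g : W => g * j1 = j1 * g).card = 18 := by
  decide +kernel

theorem card_isJ : (Finset.univ.filter fun g : W => isJ g = true).card = 4 := by decide +kernel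

/-- The signed values of the constituents at the translation. -/
def jCol (k : Fin 9) : ℤ := 2 * (colT k 1 + colT k 3) - (colT k 0 + colT k 2)

theorem jCol_eq : jCol = ![1, 2, 1, 1, 1, -1, 2, -1, 2] := by decide +kernel

theorem sgn_j : sgnAB j1 = 1 := by decide

variable {G : Type*} [Group G] [Fintype G] {H : Subgroup G} [Fintype H] {e : H ≃* W}

theorem Config.val_j (cfg : Config e) : cfg.IsVal (el e j1) jCol := by
  intro k
  have hψ := Chars.irr_isCharacter (cfg.pts k)
  have hcl := Chars.isClassFunction_of_isCharacter hψ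
  have hi := fun i => cfg.inner k i
  simp only [ind, Chars.classInner_indFun H _ hcl, Chars.classInner_def, card_H e,
    inv_mul_eq_iff_eq_mul₀ (show ((72 : ℕ) : ℂ) ≠ 0 by norm_num)] at hi
  have key : ∀ h : H, (2 * theta e 1 h + 2 * theta e 3 h - theta e 0 h - theta e 2 h) *
      conj ((cfg.pts k : G → ℂ) h) =
      (fun g : W => if isJ g then 18 * conj ((cfg.pts k : G → ℂ) (el e j1)) else 0) (e h) := by
    intro h
    have hf := fun4_jC (e h)
    show (2 * (fun4 1 (e h) : ℂ) + 2 * (fun4 3 (e h) : ℂ) - fun4 0 (e h) - fun4 2 (e h)) * _ = _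
    rw [hf, ite_mul, zero_mul]
    by_cases hj : isJ (e h) = true
    · simp only [hj, if_true]
      congr 2
      obtain ⟨c, hc⟩ := (isJ_iff _).mp hj
      rw [coe_eq_el e h, ← hc, el_mul, el_mul, el_inv]
      exact hcl _ _
    · simp [hj]
  have htot := Finset.sum_congr rfl (s₁ := (Finset.univ : Finset H)) fun h _ => key h
  rw [sum_H e (fun g : W => if isJ g then 18 * conj ((cfg.pts k : G → ℂ) (el e j1)) else 0),
    ← Finset.sum_filter, Finset.sum_const, card_isJ] at htot
  simp only [sub_mul, add_mul, Finset.sum_sub_distrib, Finset.sum_add_distrib, mul_assoc,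
    ← Finset.mul_sum, hi, nsmul_eq_mul] at htot
  have : conj ((cfg.pts k : G → ℂ) (el e j1)) = ((cfg.sgn k * jCol k : ℤ) : ℂ) := by
    simp only [jCol]
    push_cast at htot ⊢
    linear_combination (-1 / 72 : ℂ) * htot
  rw [← Complex.conj_conj ((cfg.pts k : G → ℂ) (el e j1)), this, map_intCast]

/-- Eighteen times the indicator of the class of the translation. -/
theorem Config.indicator_j (cfg : Config e) (hA : IsTISection H (setA H)) (g : G) :
    ∑ k : Fin 9, ((cfg.sgn k * jCol k : ℤ) : ℂ) * (cfg.pts k : G → ℂ) g =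
      if IsConj (el e j1) g then 18 else 0 := by
  have hexp : 2 * ind e 1 g + 2 * ind e 3 g - ind e 0 g - ind e 2 g =
      ∑ k : Fin 9, ((cfg.sgn k * jCol k : ℤ) : ℂ) * (cfg.pts k : G → ℂ) g := by
    simp only [cfg.ind_apply, Fin.sum_univ_four, Fin.sum_univ_succ, Fin.sum_univ_zero, rowPts, jCol_eq]
    simp [Fin.succ]
    ring
  rw [← hexp]
  let θ : H → ℂ := fun h => 2 * theta e 1 h + 2 * theta e 3 h - theta e 0 h - theta e 2 h
  have hθ : 2 * ind e 1 g + 2 * ind e 3 g - ind e 0 g - ind e 2 g = indFun H θ g := by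
    simp only [ind, Chars.indFun_apply, Finset.mul_sum, ← Finset.sum_add_distrib,
      ← Finset.sum_sub_distrib]
    refine Finset.sum_congr rfl fun x _ => ?_
    by_cases hx : x⁻¹ * g * x ∈ H
    · simp only [Chars.extendByZero_of_mem H _ hx, θ]; ring
    · simp only [Chars.extendByZero_of_not_mem H _ hx]; ring
  rw [hθ]
  have hθv : ∀ h : H, θ h = if isJ (e h) then 18 else 0 := by
    intro h
    exact fun4_jC (e h)
  have hsupp : ∀ h : H, θ h ≠ 0 → (h : G) ∈ {a | a ∈ setA H ∧ IsConj (el e j1) a} := by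
    intro h hne
    rw [hθv] at hne
    have hj : isJ (e h) = true := by
      by_contra hj
      simp [hj] at hne
    refine ⟨⟨h.2, fun h4 => ?_⟩, ?_⟩
    · have h4' : (e h) ^ 4 = 1 := by
        rw [← map_pow, show h ^ 4 = 1 from Subtype.ext (by simpa using h4), map_one]
      have hno : ∀ w : W, isJ w = true → w ^ 4 ≠ 1 := by decide +kernel
      exact hno _ hj h4'
    · rw [coe_eq_el e h]
      exact el_isConj e ((isJ_iff _).mp hj)
  have hcf : IsClassFunction H θ := fun a b => by
    simp only [θ, virt_isClassFunction (theta_virt e 1) a b, virt_isClassFunction (theta_virt e 3) a b,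
      virt_isClassFunction (theta_virt e 0) a b, virt_isClassFunction (theta_virt e 2) a b]
  by_cases hg : IsConj (el e j1) g
  · rw [if_pos hg]
    obtain ⟨c, rfl⟩ := isConj_iff.mp hg
    rw [Chars.isClassFunction_indFun H θ (el e j1) c]
    have h' : ∀ h : H, θ h ≠ 0 → (h : G) ∈ setA H := fun h hne => (hsupp h hne).1
    have hmem : el e j1 = ((e.symm j1 : H) : G) := rfl
    have hval : θ (e.symm j1) = 18 := by
      rw [hθv, MulEquiv.apply_symm_apply, if_pos (by decide)]
    rw [hmem, hA.indFun_eq hcf h' (h' _ (by rw [hval]; norm_num)), hval]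
  · rw [if_neg hg]
    refine indFun_eq_zero_of_forall hsupp fun x hx => hg ?_
    exact hx.2.trans (isConj_iff.mpr ⟨x⁻¹, by group⟩)

theorem Full.class_z (F : Full e) :
    ∀ h : H, IsConj (el e z0) (h : G) ↔ isZ (e h) = true := by
  intro h
  constructor
  · intro hh
    obtain ⟨h2, h1⟩ := class_hinv e (a := z0) (by decide) (by decide) hh
    rcases involution_cases (e h) h2 h1 with hc | hc | hc
    · exact absurd (class_trans e hh hc).symm F.lab.1
    · exact absurd (class_trans e hh hc).symm F.lab.2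
    · exact (isZ_iff _).mpr hc
  · intro hh
    rw [coe_eq_el e h]
    exact el_isConj e ((isZ_iff _).mp hh)

/-- The relations between the values at the central inversion and at the reflections. -/
theorem Full.central (F : Full e) {T P : ℤ} {x y : Fin 9 → ℤ} (hx : F.cfg.IsVal (el e r1) x)
    (hy : F.cfg.IsVal (el e r2) y) (hT : F.cfg.D 1 = T) (hP : F.cfg.D 5 = P) (hP6 : F.cfg.D 6 = P)
    (hXY : (clOf (el e r2)).card = (clOf (el e r1)).card) :
    ∃ z : Fin 9 → ℤ, F.cfg.IsVal (el e z0) z ∧
      (z 1 - T) * (clOf (el e z0)).card = 3 * (x 1 - T) * (clOf (el e r1)).card ∧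
      (z 5 - P) * (clOf (el e z0)).card = 3 * (x 5 - P) * (clOf (el e r1)).card ∧
      (z 6 - P) * (clOf (el e z0)).card = 3 * (y 6 - P) * (clOf (el e r1)).card ∧
      z 2 = -1 - z 1 - z 5 ∧ z 3 = z 2 ∧ z 7 = z 5 ∧ z 8 = z 6 ∧ z 4 = 1 ∧ z 0 = 1 := by
  obtain ⟨z, hz⟩ := F.cfg.exists_val (el_sq_one e (w := z0) (by decide))
  have hz4 : z 4 = 1 := by rw [F.val_four hz]; decide
  have hz0 := F.cfg.val_zero hz
  have hzt := fun k => F.val_twist hz k
  have e2 := hzt 2
  have e5 := hzt 5
  have e6 := hzt 6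
  rw [hz4, one_mul, show twist 2 = 3 from rfl] at e2
  rw [hz4, one_mul, show twist 5 = 7 from rfl] at e5
  rw [hz4, one_mul, show twist 6 = 8 from rfl] at e6
  have hr := F.cfg.row_zero (by rw [← el_pow, show z0 ^ 4 = 1 by decide +kernel, el_one]) hz 0
  simp only [rowPts, Matrix.cons_val_zero, Matrix.cons_val_one, Matrix.cons_val] at hr
  have hX := class_r1 e F.hA F.lab
  have hY := class_r2 e F.hA F.lab
  have hZ := F.class_z
  set X : ℚ := ((clOf (el e r1)).card : ℚ) with hXdef
  set Z : ℚ := ((clOf (el e z0)).card : ℚ) with hZdef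
  have hX0 : X ≠ 0 := by
    rw [hXdef]; exact_mod_cast (Finset.card_pos.mpr ⟨_, mem_clOf.mpr (IsConj.refl _)⟩).ne'
  have hg0 : (Nat.card G : ℚ) ≠ 0 := by exact_mod_cast Nat.card_pos.ne'
  have hlin : ∀ (i : Fin 4) (v : Fin 9 → ℤ), (i = 0 ∧ v = x ∨ i = 1 ∧ v = y) → ∀ f : Fin 4 → ℚ,
      dot4 f (rowQ F.cfg.D i) = 0 → Z * dot4 f (rowQ z i) = 3 * X * dot4 f (rowQ v i) := by
    intro i v hiv f hf
    have hs : ∀ {g : G} {v : Fin 9 → ℤ}, g ^ 4 = 1 → F.cfg.IsVal g v →
        rowQ v i 0 + rowQ v i 1 + rowQ v i 2 + rowQ v i 3 = 0 := fun hg hv => by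
      simp only [rowQ]; exact_mod_cast F.cfg.row_zero hg hv i
    have sD := hs (one_pow 4) F.cfg.isVal_one
    have sx := hs (by rw [← el_pow, show r1 ^ 4 = 1 by decide +kernel, el_one]) hx
    have sy := hs (by rw [← el_pow, show r2 ^ 4 = 1 by decide +kernel, el_one]) hy
    have sz := hs (by rw [← el_pow, show z0 ^ 4 = 1 by decide +kernel, el_one]) hz
    have fxx := F.cfg.row_form F.hA i (by decide) (by decide) hx hx hX hX
    have fyy := F.cfg.row_form F.hA i (by decide) (by decide) hy hy hY hY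
    have fxy := F.cfg.row_form F.hA i (by decide) (by decide) hx hy hX hY
    have fzx := F.cfg.row_form F.hA i (by decide) (by decide) hz hx hZ hX
    have fzy := F.cfg.row_form F.hA i (by decide) (by decide) hz hy hZ hY
    rw [(units_eq false i).1] at fxx
    rw [(units_eq false i).2.1] at fyy
    rw [(units_eq false i).2.2] at fxy
    rw [(units_z i).1] at fzx
    rw [(units_z i).2] at fzy
    rw [hXY, ← hXdef] at fyy fxy
    rw [← hXdef] at fxx
    rw [← hZdef, ← hXdef] at fzx
    rw [← hZdef, hXY, ← hXdef] at fzy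
    set D := rowQ F.cfg.D i
    set w : Fin 4 → ℚ := fun j => Z * rowQ z i j - 3 * X * rowQ v i j with hw
    have hexp : ∀ u : Fin 4 → ℚ, form4 D w u =
        Z * form4 D (rowQ z i) u - 3 * X * form4 D (rowQ v i) u := fun u => by
      simp only [form4, hw]; ring
    have hsym : form4 D (rowQ y i) (rowQ x i) = form4 D (rowQ x i) (rowQ y i) := by
      simp only [form4]; ring
    have hv : form4 D w (rowQ x i) = 0 ∧ form4 D w (rowQ y i) = 0 := by
      constructor <;> refine (mul_eq_zero.mp (?_ : _ * X = 0)).resolve_right hX0 <;> rw [hexp]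
      all_goals
        rcases hiv with ⟨rfl, rfl⟩ | ⟨rfl, rfl⟩
      all_goals
        simp only [units, Matrix.cons_val_zero, Matrix.cons_val_one, Matrix.cons_val] at fxx fyy fxy fzx fzy
        push_cast at fxx fyy fxy fzx fzy
      · linear_combination fzx - 3 * fxx
      · rw [hsym]; linear_combination fzx - 3 * fxy
      · linear_combination fzy - 3 * fxy
      · linear_combination fzy - 3 * fyy
    have hdet : form4 D (rowQ x i) (rowQ x i) * form4 D (rowQ y i) (rowQ y i) -
        form4 D (rowQ x i) (rowQ y i) ^ 2 ≠ 0 := by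
      intro h0
      obtain ⟨hd, hsn⟩ := units_det false i
      have hdq : ((units false i).1 : ℚ) * (units false i).2.1 - ((units false i).2.2 : ℚ) ^ 2 =
          2 * (detRoot false i : ℚ) ^ 2 := by exact_mod_cast hd
      have h1 : ((Nat.card G : ℚ) / 72) ^ 2 * (2 * (detRoot false i : ℚ) ^ 2) = 0 := by
        rw [← hdq]
        linear_combination (X * X) * (X * X) * h0 -
          (form4 D (rowQ y i) (rowQ y i) * (X * X)) * fxx -
          ((Nat.card G : ℚ) / 72 * (units false i).1) * fyy +
          (form4 D (rowQ x i) (rowQ y i) * (X * X) + (Nat.card G : ℚ) / 72 * (units false i).2.2) * fxy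
      have h2 : (detRoot false i : ℚ) ≠ 0 := Int.cast_ne_zero.mpr hsn
      exact (mul_ne_zero (pow_ne_zero 2 (div_ne_zero hg0 (by norm_num)))
        (mul_ne_zero two_ne_zero (pow_ne_zero 2 h2))) h1
    have sv : rowQ v i 0 + rowQ v i 1 + rowQ v i 2 + rowQ v i 3 = 0 := by
      rcases hiv with ⟨_, rfl⟩ | ⟨_, rfl⟩ <;> assumption
    have hnull := form4_null (fun j => Int.cast_ne_zero.mpr (F.cfg.D_ne_zero _)) sD
      (w := w) (by simp only [hw]; linear_combination Z * sz - 3 * X * sv) sx sy hf hv.1 hv.2 hdet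
    simp only [dot4, hw] at hnull
    simp only [dot4]
    linear_combination hnull
  have hD0 := F.cfg.D_zero
  have h1 := hlin 0 x (Or.inl ⟨rfl, rfl⟩) ![-(T : ℚ), 1, 0, 0]
    (by simp [dot4, rowQ, rowPts, hD0, hT])
  have h5 := hlin 0 x (Or.inl ⟨rfl, rfl⟩) ![-(P : ℚ), 0, 0, 1]
    (by simp [dot4, rowQ, rowPts, hD0, hP])
  have h6 := hlin 1 y (Or.inr ⟨rfl, rfl⟩) ![-(P : ℚ), 0, 0, 1]
    (by simp [dot4, rowQ, rowPts, hD0, hP6])
  simp only [dot4, rowQ, rowPts, Matrix.cons_val_zero, Matrix.cons_val_one, Matrix.cons_val,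
    zero_mul, add_zero, zero_add, one_mul, hz0, F.cfg.val_zero hx, F.cfg.val_zero hy, Int.cast_one,
    mul_one] at h1 h5 h6
  refine ⟨z, hz, ?_, ?_, ?_, by omega, e2, e5, e6, hz4, hz0⟩
  · have : ((((z 1 - T) * (clOf (el e z0)).card : ℤ)) : ℚ) =
        ((3 * (x 1 - T) * (clOf (el e r1)).card : ℤ) : ℚ) := by
      push_cast; linear_combination h1
    exact_mod_cast this
  · have : ((((z 5 - P) * (clOf (el e z0)).card : ℤ)) : ℚ) =
        ((3 * (x 5 - P) * (clOf (el e r1)).card : ℤ) : ℚ) := by
      push_cast; linear_combination h5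
    exact_mod_cast this
  · have : ((((z 6 - P) * (clOf (el e z0)).card : ℤ)) : ℚ) =
        ((3 * (y 6 - P) * (clOf (el e r1)).card : ℤ) : ℚ) := by
      push_cast; linear_combination h6
    exact_mod_cast this

end Cfsg.Agent.OddChar.Wreath72
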